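import Groth.Agent.AVTors.CurveThru
import Groth.Agent.WeilExt.Extend
import Groth.Agent.WeilExt.Dedekind
import Groth.Agent.H23.Rigid

/-!
Maps from a product of pointed varieties to a proper group, trivial on both axes, are trivial.
-/

noncomputable section

set_option linter.style.haveILetI false
set_option linter.unusedSectionVars false
set_option backward.isDefEq.respectTransparency false
set_option backward.isDefEq.respectTransparency.types false
set_option maxHeartbeats 1000000
set_option autoImplicit false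

universe u

open CategoryTheory CategoryTheory.Limits MonoidalCategory CartesianMonoidalCategory MonObj AlgebraicGeometry TopologicalSpace

namespace Groth.Agent.AVTors.VarProd

variable {k : Type u} [Field k] [IsAlgClosed k]

local notation "pt" => (IsLocalRing.closedPoint k : Spec (CommRingCat.of k))

theorem unit_endo (a : 𝟙_ (Over (Spec (CommRingCat.of k))) ⟶ 𝟙_ _) : a = 𝟙 _ := toUnit_unique _ _

variable {A : Over (Spec (CommRingCat.of k))} [GrpObj A] [IsProper A.hom]

theorem eq_pt (p : Spec (CommRingCat.of k)) : p = pt := Subsingleton.elim (α := PrimeSpectrum k) _ _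

theorem left_toUnit_comp {W : Over (Spec (CommRingCat.of k))} (a : 𝟙_ (Over (Spec (CommRingCat.of k))) ⟶ A) (x : W.left) :
    (toUnit W ≫ a).left x = a.left pt := by
  rw [Over.comp_left, Scheme.Hom.comp_apply]
  exact congrArg a.left (eq_pt _)

theorem one_left {W : Over (Spec (CommRingCat.of k))} (x : W.left) :
    (1 : W ⟶ A).left x = (η[A] : 𝟙_ (Over (Spec (CommRingCat.of k))) ⟶ A).left pt := by
  rw [Hom.one_def, left_toUnit_comp]

/-- Triviality is seen on rational points. -/
theorem eq_one_of_pts {W : Over (Spec (CommRingCat.of k))} [IsReduced W.left] [LocallyOfFiniteType W.hom]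
    (f : W ⟶ A) (h : ∀ p : 𝟙_ (Over (Spec (CommRingCat.of k))) ⟶ W, p ≫ f = 1) : f = 1 := by
  haveI : LocallyOfFiniteType (f.left ≫ A.hom) := by rw [Over.w]; infer_instance
  refine Over.OverMorphism.ext (ext_of_apply_eq A.hom Set.univ isClosed_univ.isLocallyClosed dense_univ
    (fun x _ hx => ?_) ((Over.w f).trans (Over.w (1 : W ⟶ A)).symm))
  let s := (pointEquivClosedPoint W.hom).symm ⟨x, hx⟩
  let p : 𝟙_ (Over (Spec (CommRingCat.of k))) ⟶ W := Over.homMk s.1 s.2
  have hp : p.left pt = x := pointOfClosedPoint_apply _ _ _ _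
  have := congrArg (fun g => g.left pt) (h p)
  rw [one_left] at this
  rw [one_left, ← hp]
  simpa using this

/-- Rigidity along a complete curve and an affine curve. -/
theorem factor_curves {C D : Over (Spec (CommRingCat.of k))} [IsIntegral C.left] [Smooth C.hom] [IsProper C.hom]
    [IsIntegral D.left] [Smooth D.hom] [IsSeparated D.hom] [QuasiCompact D.hom]
    (U : C.left.Opens) (hU : (U : Set C.left).Nonempty) (g₀ : Over.mk (U.ι ≫ C.hom) ⊗ D ⟶ A)
    (q : 𝟙_ (Over (Spec (CommRingCat.of k))) ⟶ D)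
    (h : lift (𝟙 _) (toUnit _ ≫ q) ≫ g₀ = 1) :
    ∃ G : D ⟶ A, g₀ = snd _ D ≫ G := by
  let Uo : Over (Spec (CommRingCat.of k)) := Over.mk (U.ι ≫ C.hom)
  let i : Uo ⟶ C := Over.homMk U.ι rfl
  haveI : GeometricallyIntegral C.hom := H23.EquidimFibres.geometricallyIntegral_of_isAlgClosed
  haveI : GeometricallyIntegral D.hom := H23.EquidimFibres.geometricallyIntegral_of_isAlgClosed
  haveI : LocallyOfFiniteType D.hom := inferInstance
  haveI : IsLocallyNoetherian D.left := LocallyOfFiniteType.isLocallyNoetherian D.hom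
  haveI : IsIntegral (C ⊗ D).left := (inferInstance : IsIntegral (pullback C.hom D.hom))
  haveI : Smooth (C ⊗ D).hom := by
    show Smooth (pullback.fst C.hom D.hom ≫ C.hom)
    infer_instance
  let j := (i ▷ D).left
  have hj : IsPullback j (fst Uo D).left (fst C D).left U.ι := by
    have hsq : IsPullback (i ▷ D) (fst Uo D) (fst C D) i := by
      refine ⟨⟨whiskerRight_fst _ _⟩, ⟨PullbackCone.IsLimit.mk (whiskerRight_fst _ _)
        (fun s => lift s.snd (s.fst ≫ snd C D)) (fun s => ?_) (fun s => ?_) (fun s m h1 h2 => ?_)⟩⟩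
      · ext1
        · rw [Category.assoc, whiskerRight_fst, lift_fst_assoc, ← s.condition]
        · rw [Category.assoc, whiskerRight_snd, lift_snd]
      · rw [lift_fst]
      · ext1
        · rw [lift_fst, h2]
        · rw [lift_snd, ← h1, Category.assoc, whiskerRight_snd]
    exact hsq.map (Over.forget _)
  haveI : IsOpenImmersion j := MorphismProperty.of_isPullback (P := @IsOpenImmersion) hj.flip inferInstance
  let W := j.opensRange
  -- a rational point of the open part
  haveI : JacobsonSpace C.left := LocallyOfFiniteType.jacobsonSpace C.hom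
  obtain ⟨c, hcU, hcc⟩ := nonempty_inter_closedPoints hU U.2.isLocallyClosed
  let s := (pointEquivClosedPoint C.hom).symm ⟨c, hcc⟩
  let c₀ : 𝟙_ (Over (Spec (CommRingCat.of k))) ⟶ C := Over.homMk s.1 s.2
  have hc₀ : c₀.left pt = c := pointOfClosedPoint_apply _ _ _ _
  have hWne : (W : Set (C ⊗ D).left).Nonempty := by
    refine ⟨(lift c₀ q).left pt, ?_⟩
    show (lift c₀ q).left pt ∈ Set.range j
    obtain ⟨z, hz, -⟩ := Scheme.exists_preimage_of_isPullback hj ((lift c₀ q).left pt) ⟨c, hcU⟩ (by
      rw [← Scheme.Hom.comp_apply, ← Over.comp_left, lift_fst, hc₀]; rfl)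
    exact ⟨z, hz⟩
  let g₁ : (W : Scheme.{u}) ⟶ A.left := j.isoOpensRange.inv ≫ g₀.left
  have hg₁ : g₁ ≫ A.hom = W.ι ≫ (C ⊗ D).hom := by
    rw [Category.assoc, Over.w g₀, Iso.inv_comp_eq, ← Category.assoc, Scheme.Hom.isoOpensRange_hom_ι]
    exact (Over.w (i ▷ D)).symm
  have hreg := WeilExt.isRegularLocalRing_stalk_spec (R := k)
  obtain ⟨V, hWV, g₂, hg₂, hg₂W, hV⟩ :=
    WeilExt.exists_extension_codimTwo hreg (X := C ⊗ D) (Y := A) W (W.2.dense hWne) g₁ hg₁
  obtain ⟨g, ⟨hgA, hgV⟩, -⟩ := WeilExt.existsUnique_extension hreg (X := C ⊗ D) (G := A) V hV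
    (WeilExt.exists_fibre_generization_of_coheight (C ⊗ D).hom V hV) g₂ hg₂
  let gg : C ⊗ D ⟶ A := Over.homMk g hgA
  have hgg : (i ▷ D) ≫ gg = g₀ := by
    refine Over.OverMorphism.ext ?_
    show j ≫ g = g₀.left
    rw [← Scheme.Hom.isoOpensRange_hom_ι j, ← Scheme.homOfLE_ι _ hWV, Category.assoc, Category.assoc, hgV, hg₂W]
    simp [g₁]
  have hslice : lift (𝟙 C) (toUnit C ≫ q) ≫ gg = toUnit C ≫ η[A] := by
    haveI : IsDominant i.left := ⟨by
      show DenseRange U.ι
      rw [DenseRange, Scheme.Opens.range_ι]; exact U.2.dense hU⟩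
    refine Over.OverMorphism.ext (ext_of_isDominant_of_isSeparated A.hom
      ((Over.w _).trans (Over.w (toUnit C ≫ η[A])).symm) i.left ?_)
    rw [← Over.comp_left, ← Over.comp_left]
    congr 1
    rw [← Hom.one_def, MonObj.comp_one, ← h, ← hgg, ← Category.assoc, ← Category.assoc]
    congr 1
    ext1
    · simp
    · simp [unit_endo (toUnit _), Uo]
  obtain ⟨G, hG⟩ := H23.Rigid.exists_factor_of_lift gg q η[A] hslice
  exact ⟨G, by rw [← hgg, hG, ← Category.assoc, whiskerRight_snd]⟩

variable {X Y : Over (Spec (CommRingCat.of k))} [IsIntegral X.left] [LocallyOfFiniteType X.hom] [IsSeparated X.hom]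
  [IsIntegral Y.left] [LocallyOfFiniteType Y.hom] [IsSeparated Y.hom]

/-- A map trivial on both axes is trivial. -/
theorem eq_one_of_slices (φ : X ⊗ Y ⟶ A) (x₀ : 𝟙_ (Over (Spec (CommRingCat.of k))) ⟶ X)
    (y₀ : 𝟙_ (Over (Spec (CommRingCat.of k))) ⟶ Y)
    (hX : lift (𝟙 X) (toUnit X ≫ y₀) ≫ φ = 1) (hY : lift (toUnit Y ≫ x₀) (𝟙 Y) ≫ φ = 1) : φ = 1 := by
  haveI : GeometricallyIntegral X.hom := H23.EquidimFibres.geometricallyIntegral_of_isAlgClosed
  haveI : IsLocallyNoetherian Y.left := LocallyOfFiniteType.isLocallyNoetherian Y.hom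
  haveI : GeometricallyIntegral Y.hom := H23.EquidimFibres.geometricallyIntegral_of_isAlgClosed
  haveI : IsIntegral (X ⊗ Y).left := (inferInstance : IsIntegral (pullback X.hom Y.hom))
  haveI : LocallyOfFiniteType (X ⊗ Y).hom := by
    show LocallyOfFiniteType (pullback.fst X.hom Y.hom ≫ X.hom)
    infer_instance
  set e := (η[A] : 𝟙_ (Over (Spec (CommRingCat.of k))) ⟶ A).left pt
  have he : IsClosed ({e} : Set A.left) := (pointEquivClosedPoint A.hom ⟨_, Over.w η[A]⟩).2
  -- trivial over the points of the curves through `y₀`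
  have step : ∀ (D : Over (Spec (CommRingCat.of k))) [IsIntegral D.left] [Smooth D.hom] [IsSeparated D.hom]
      [QuasiCompact D.hom] (w : D ⟶ Y) (q d : 𝟙_ (Over (Spec (CommRingCat.of k))) ⟶ D), q ≫ w = y₀ →
      lift (𝟙 X) (toUnit X ≫ d ≫ w) ≫ φ = 1 := by
    intro D _ _ _ _ w q d hq
    set h := lift (𝟙 X) (toUnit X ≫ d ≫ w) ≫ φ with hdef
    have hx₀ : h.left (x₀.left pt) = e := by
      have e1 : x₀ ≫ h = (d ≫ w) ≫ lift (toUnit Y ≫ x₀) (𝟙 Y) ≫ φ := by
        simp only [hdef, ← Category.assoc (Z := A)]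
        refine congrArg (· ≫ φ) ?_
        ext1
        · simp [unit_endo (toUnit _)]
        · simp [unit_endo (toUnit _)]
      rw [hY, MonObj.comp_one] at e1
      exact (congrArg (fun g => g.left pt) e1).trans (one_left _)
    have huniv : h.left ⁻¹' {e} = Set.univ := by
      by_contra hne
      obtain ⟨ξ, hξ, hdeg, hξS⟩ := exists_curve_leaving (X := X)
        (x := x₀.left pt) (pointEquivClosedPoint X.hom ⟨_, Over.w x₀⟩).2 (he.preimage h.left.continuous) hne hx₀
      obtain ⟨C, _, _, _, U, u, c, hc⟩ := exists_complete_curve (X := X) hdeg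
      let Uo : Over (Spec (CommRingCat.of k)) := Over.mk (U.ι ≫ C.hom)
      let g₀ : Uo ⊗ D ⟶ A := lift (fst Uo D ≫ u) (snd Uo D ≫ w) ≫ φ
      obtain ⟨G, hG⟩ := factor_curves U ⟨c.1, c.2⟩ g₀ q (by
        rw [← MonObj.comp_one u, ← hX]
        simp only [g₀, ← Category.assoc]
        congr 1
        ext1
        · simp
        · simp [unit_endo (toUnit _), hq])
      have hu : u ≫ h = toUnit Uo ≫ d ≫ G := by
        have e1 : lift (𝟙 Uo) (toUnit Uo ≫ d) ≫ g₀ = u ≫ h := by
          simp only [g₀, hdef, ← Category.assoc]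
          congr 1
          ext1
          · simp
          · simp [unit_endo (toUnit _), Uo]
        rw [← e1, hG, lift_snd_assoc, Category.assoc]
      have hξa : h.left ξ = (d ≫ G).left pt := by
        have := congrArg (fun g => g.left c) hu
        rw [left_toUnit_comp] at this
        rw [← hc]
        simpa using this
      have ha : IsClosed ({(d ≫ G).left pt} : Set A.left) := (pointEquivClosedPoint A.hom ⟨_, Over.w (d ≫ G)⟩).2
      have hsp := hξ.map h.left.continuous
      rw [hξa, hx₀] at hsp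
      exact hξS (hξa.trans (Set.mem_singleton_iff.1 (hsp.mem_closed ha rfl)).symm)
    refine eq_one_of_pts h fun p => Over.OverMorphism.ext (ext_of_apply_closedPoint_eq A.hom (Over.w (p ≫ h))
      (Over.w (1 : 𝟙_ (Over (Spec (CommRingCat.of k))) ⟶ A)) ?_)
    have := huniv.ge (Set.mem_univ (p.left pt))
    exact Eq.trans this (one_left _).symm
  -- trivial over every point of `X`
  refine eq_one_of_pts φ fun p => ?_
  set P := p ≫ fst X Y with hP
  set k' := lift (toUnit Y ≫ P) (𝟙 Y) ≫ φ with kdef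
  have hk₀ : k'.left (y₀.left pt) = e := by
    have e1 : y₀ ≫ k' = P ≫ lift (𝟙 X) (toUnit X ≫ y₀) ≫ φ := by
      simp only [kdef, ← Category.assoc]
      refine congrArg (· ≫ φ) ?_
      ext1
      · simp [unit_endo (toUnit _)]
      · simp [unit_endo (toUnit _)]
    rw [hX, MonObj.comp_one] at e1
    exact (congrArg (fun g => g.left pt) e1).trans (one_left _)
  have huniv : k'.left ⁻¹' {e} = Set.univ := by
    by_contra hne
    obtain ⟨ξ, hξ, hdeg, hξS⟩ := exists_curve_leaving (X := Y)
      (x := y₀.left pt) (pointEquivClosedPoint Y.hom ⟨_, Over.w y₀⟩).2 (he.preimage k'.left.continuous) hne hk₀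
    obtain ⟨D, _, _, _, _, w, q, hq, hwη⟩ := exists_normal_curve y₀ hξ hdeg
    have hwk : w ≫ k' = 1 := by
      refine eq_one_of_pts _ fun d => ?_
      have e1 : d ≫ w ≫ k' = P ≫ lift (𝟙 X) (toUnit X ≫ d ≫ w) ≫ φ := by
        simp only [kdef, ← Category.assoc]
        congr 1
        ext1
        · simp [unit_endo (toUnit _)]
        · simp [unit_endo (toUnit _)]
      rw [e1, step D w q d hq, MonObj.comp_one]
    have := congrArg (fun g => g.left (genericPoint D.left)) hwk
    rw [one_left] at this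
    refine hξS ?_
    show k'.left ξ = e
    rw [← hwη]
    rw [Over.comp_left, Scheme.Hom.comp_apply] at this; exact this
  have hp : p ≫ φ = (p ≫ snd X Y) ≫ k' := by
    simp only [kdef, ← Category.assoc]
    congr 1
    ext1
    · simp [unit_endo (toUnit _), hP]
    · simp
  refine Over.OverMorphism.ext (ext_of_apply_closedPoint_eq A.hom (Over.w (p ≫ φ))
    (Over.w (1 : 𝟙_ (Over (Spec (CommRingCat.of k))) ⟶ A)) ?_)
  rw [hp]
  exact Eq.trans (huniv.ge (Set.mem_univ ((p ≫ snd X Y).left pt))) (one_left _).symm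

end Groth.Agent.AVTors.VarProd
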