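import Groth.Agent.AVTors.Dense
import Groth.Prelude.Def_EndTate
import Groth.Prelude.Def_SGA7a
import Mathlib.AlgebraicGeometry.Limits
import Mathlib.AlgebraicGeometry.Morphisms.Flat
import Mathlib.CategoryTheory.Monoidal.Cartesian.Over

/-!
A homomorphism of abelian varieties killing the Tate module is trivial.
-/

set_option autoImplicit false
set_option linter.style.haveILetI false
set_option backward.isDefEq.respectTransparency false
set_option backward.isDefEq.respectTransparency.types false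
set_option maxHeartbeats 1000000

universe u

open CategoryTheory CategoryTheory.Limits MonoidalCategory CartesianMonoidalCategory MonObj AlgebraicGeometry

namespace Groth.Agent.AVTors

attribute [local instance] Functor.monObjObj Functor.grpObjObj

variable {S S' : Scheme.{u}} (u : S' ⟶ S)

theorem homEquiv_mul (T : Over S') (A : Over S) [GrpObj A] (x y : (Over.map u).obj T ⟶ A) :
    (Over.mapPullbackAdj u).homEquiv T A (x * y) =
      (Over.mapPullbackAdj u).homEquiv T A x * (Over.mapPullbackAdj u).homEquiv T A y := by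
  rw [Adjunction.homEquiv_unit, Functor.map_mul, MonObj.comp_mul, ← Adjunction.homEquiv_unit,
    ← Adjunction.homEquiv_unit]

/-- Base change of points as a monoid isomorphism. -/
noncomputable def bcPts (T : Over S') (A : Over S) [GrpObj A] :
    ((Over.map u).obj T ⟶ A) ≃* (T ⟶ (Over.pullback u).obj A) :=
  MulEquiv.mk ((Over.mapPullbackAdj u).homEquiv T A) (homEquiv_mul u T A)

theorem bcPts_comp {T : Over S'} {A B : Over S} [GrpObj A] [GrpObj B] (x : (Over.map u).obj T ⟶ A) (f : A ⟶ B) :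
    bcPts u T B (x ≫ f) = bcPts u T A x ≫ (Over.pullback u).map f :=
  (Over.mapPullbackAdj u).homEquiv_naturality_right x f

variable {k : Type u} [Field k]

/-- Two morphisms agreeing on a dense set of rational points agree. -/
theorem ext_of_dense_pts {Ω : Type u} [Field Ω] {X Y : Over (Spec (CommRingCat.of Ω))} [AlgebraicGeometry.IsReduced X.left]
    [IsSeparated Y.hom] (P : Set (pt0 Ω ⟶ X))
    (hP : closure ((fun a : pt0 Ω ⟶ X => a.left (IsLocalRing.closedPoint Ω)) '' P) = Set.univ)
    (f g : X ⟶ Y) (h : ∀ a ∈ P, a ≫ f = a ≫ g) : f = g := by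
  let jj : (∐ fun _ : P => Spec (CommRingCat.of Ω)) ⟶ X.left := Sigma.desc fun a => a.1.left
  haveI : IsDominant jj := ⟨by
    refine dense_iff_closure_eq.2 (Set.eq_univ_of_univ_subset ?_)
    rw [← hP]
    refine closure_mono ?_
    rintro _ ⟨a, ha, rfl⟩
    refine ⟨(Sigma.ι (fun _ : P => Spec (CommRingCat.of Ω)) ⟨a, ha⟩) (IsLocalRing.closedPoint Ω), ?_⟩
    rw [← Scheme.Hom.comp_apply, Sigma.ι_desc]; rfl⟩
  refine Over.OverMorphism.ext (ext_of_isDominant_of_isSeparated Y.hom ((Over.w f).trans (Over.w g).symm) jj ?_)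
  refine Sigma.hom_ext _ _ fun a => ?_
  rw [Sigma.ι_desc_assoc, Sigma.ι_desc_assoc]
  exact congrArg Over.Hom.left (h a.1 a.2)

variable {A B : Over (Spec (CommRingCat.of k))} [GrpObj A] [IsCommMonObj A] [IsProper A.hom]
  [GeometricallyIntegral A.hom] [GrpObj B] [IsCommMonObj B] [IsProper B.hom]

theorem tateMap_injective (Ω : Type u) [Field Ω] [Algebra k Ω] [IsAlgClosed Ω] (l : ℕ) [Fact l.Prime]
    (hl : (l : k) ≠ 0) : Function.Injective (EndAV.Hom.tateMap (A := A) (B := B) l (SGA7.pt Ω)) := by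
  rw [injective_iff_map_eq_zero]
  intro φ hφ
  refine EndAV.Hom.ext ?_
  rw [EndAV.Hom.toHom_zero]
  let v := Spec.map (CommRingCat.ofHom (algebraMap k Ω))
  let F := Over.pullback v
  haveI : IsProper (F.obj A).hom := inferInstanceAs (IsProper (pullback.snd A.hom v))
  haveI : GeometricallyIntegral (F.obj A).hom := inferInstanceAs (GeometricallyIntegral (pullback.snd A.hom v))
  haveI : IsProper (F.obj B).hom := inferInstanceAs (IsProper (pullback.snd B.hom v))
  haveI := H23.MaxAbelian.isIntegral_of_geometricallyIntegral (X := F.obj A)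
  have hlΩ : (l : Ω) ≠ 0 := fun h => hl ((algebraMap k Ω).injective (by rwa [map_natCast, map_zero]))
  let e : (SGA7.pt Ω ⟶ A) ≃* (pt0 Ω ⟶ F.obj A) :=
    (MulEquiv.mk (((Over.isoMk (Iso.refl _) (by simp [v]) : (Over.map v).obj (pt0 Ω) ≅ SGA7.pt Ω)).homFromEquiv.symm)
      (fun x y => MonObj.comp_mul _ x y)).trans (bcPts v (pt0 Ω) A)
  have hkill : ∀ a : SGA7.pt Ω ⟶ A, (∃ n, a ^ (l ^ n) = 1) → a ≫ φ.toHom = 1 := by
    rintro a ⟨n, hn⟩
    have hroot : ∀ b : SGA7.pt Ω ⟶ A, ∃ c : SGA7.pt Ω ⟶ A, c ^ l = b := fun b => by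
      obtain ⟨c, hc⟩ := exists_root (A := F.obj A) l (Fact.out : l.Prime).pos (e b)
      exact ⟨e.symm c, by rw [← map_pow, hc, MulEquiv.symm_apply_apply]⟩
    choose c hc using hroot
    let r : ℕ → (SGA7.pt Ω ⟶ A) := fun j => c^[j] a
    have hr : ∀ j, r (j + 1) ^ l = r j := fun j => by
      simp only [r, Function.iterate_succ_apply', hc]
    have hr0 : ∀ j, r j ^ (l ^ j) = a := fun j => by
      induction j with
      | zero => rw [pow_zero, pow_one]; rfl
      | succ j ih => rw [pow_succ', pow_mul, hr, ih]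
    let x : AbDual.TateMod A l (SGA7.pt Ω) := ⟨fun m => Additive.ofMul (r m ^ (l ^ n)),
      ⟨fun m => congrArg Additive.ofMul (by
        show (r m ^ (l ^ n)) ^ (l ^ m) = 1
        rw [← pow_mul, mul_comm, pow_mul, hr0, hn]),
      fun m => congrArg Additive.ofMul (by
        show (r (m + 1) ^ (l ^ n)) ^ l = r m ^ (l ^ n)
        rw [← pow_mul, mul_comm, pow_mul, hr])⟩⟩
    have h := congrArg (fun y => ((y x : AbDual.TateMod B l (SGA7.pt Ω)) : ℕ → Additive (SGA7.pt Ω ⟶ B)) n) hφ
    have h' : Additive.ofMul ((r n ^ (l ^ n)) ≫ φ.toHom) = (0 : Additive (SGA7.pt Ω ⟶ B)) := h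
    rw [hr0] at h'
    exact congrArg Additive.toMul h'
  have hbc : F.map φ.toHom = F.map (1 : A ⟶ B) := by
    refine ext_of_dense_pts _ (dense_lPow (F.obj A) l hlΩ) _ _ ?_
    rintro a' ⟨n, hn⟩
    obtain ⟨y, rfl⟩ : ∃ y, bcPts v (pt0 Ω) A y = a' := (bcPts v (pt0 Ω) A).surjective a'
    rw [← bcPts_comp, ← bcPts_comp]
    congr 1
    let io : (Over.map v).obj (pt0 Ω) ≅ SGA7.pt Ω := Over.isoMk (Iso.refl _) (by simp [v])
    have hy : (io.inv ≫ y) ^ (l ^ n) = 1 := by
      rw [← MonObj.comp_pow, show y ^ (l ^ n) = 1 from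
        (bcPts v (pt0 Ω) A).injective (by rw [map_pow, hn, map_one]), MonObj.comp_one]
    have h1 := hkill _ ⟨n, hy⟩
    rw [MonObj.comp_one]
    refine (cancel_epi io.inv).1 ?_
    rw [MonObj.comp_one, ← Category.assoc]
    exact h1
  haveI : Flat v := inferInstance
  haveI : Surjective v := inferInstance
  haveI : Epi (pullback.fst A.hom v) := Flat.epi_of_flat_of_surjective _
  refine Over.OverMorphism.ext ((cancel_epi (pullback.fst A.hom v)).1 ?_)
  have h2 := congrArg (fun t : F.obj A ⟶ F.obj B => t.left ≫ pullback.fst B.hom v) hbc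
  simpa only [F, Over.pullback_map_left, pullback.lift_fst] using h2

end Groth.Agent.AVTors
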