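import Groth.Agent.AVTors.TorusConst
import Groth.Agent.S5286
import Groth.Agent.TorusQI.Geom
import Groth.Agent.H23.MaxAbelian
import Groth.Agent.GrpSchLib.IsogenyFibre
import Groth.Agent.H23.GeomConn
import Groth.Agent.GrpSchLib.MultTypeBC

/-!
Homomorphisms from tori to abelian schemes are trivial.
-/

noncomputable section

set_option linter.style.haveILetI false
set_option linter.unusedSectionVars false
set_option backward.isDefEq.respectTransparency false
set_option backward.isDefEq.respectTransparency.types false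
set_option maxHeartbeats 1000000
set_option autoImplicit false

universe u

open CategoryTheory CategoryTheory.Limits MonoidalCategory CartesianMonoidalCategory MonObj AlgebraicGeometry

namespace Groth.Agent.AVTors

theorem hom_eq_one_of_split {S : Scheme.{u}} {T A : Over S} [GrpObj T] (hM : SGA3x.IsMultTypeFT T)
    (hsplit : ∀ (Ω : Type u) [Field Ω] [IsAlgClosed Ω] (b : Spec (CommRingCat.of Ω) ⟶ S),
      ∃ r : ℕ, Red.IsSplitTorusWith (Fin r → ℤ) (Red.bc b T))
    [GrpObj A] [Smooth A.hom] [IsProper A.hom]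
    (hA : ∀ s : S, ConnectedSpace ↥(A.hom.fiber s))
    (f : T ⟶ A) [IsMonHom f] : f = 1 := by
  classical
  have hfst : ∀ {S' : Scheme.{u}} (b : S' ⟶ S) (g : T ⟶ A),
      ((Over.pullback b).map g).left ≫ pullback.fst A.hom b = pullback.fst T.hom b ≫ g.left := by
    intro S' b g
    simp
  obtain ⟨U, -, hU, hUone⟩ := S5286.result T A hM
    (Or.inr ⟨inferInstance, inferInstance, inferInstance⟩) f
  have htop : U = ⊤ := by
    refine top_le_iff.1 fun s _ => (hU s).2 ?_
    let κ := S.residueField s
    let σ := S.fromSpecResidueField s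
    let Ω := AlgebraicClosure κ
    let g : Spec (CommRingCat.of Ω) ⟶ Spec κ := Spec.map (CommRingCat.ofHom (algebraMap κ Ω))
    let b := g ≫ σ
    -- the fibre is an abelian variety
    let A₀ : Over (Spec (CommRingCat.of κ)) := Red.bc σ A
    haveI : ConnectedSpace A₀.left := hA s
    haveI : IsProper A₀.hom := inferInstanceAs (IsProper (pullback.snd A.hom σ))
    haveI : Smooth A₀.hom := inferInstanceAs (Smooth (pullback.snd A.hom σ))
    haveI : GeometricallyReduced A₀.hom := GrpSchLib.IsogenyFibre.geometricallyReduced_of_smooth' A₀.hom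
    haveI : GeometricallyIntegral A₀.hom := H23.MaxAbelian.geometricallyIntegral_of_connected A₀
    let AΩ : Over (Spec (CommRingCat.of Ω)) := Red.bc b A
    haveI : IsProper AΩ.hom := inferInstanceAs (IsProper (pullback.snd A.hom b))
    let eA : pullback A.hom b ⟶ pullback A.hom σ := pullback.lift (pullback.fst _ _) (pullback.snd _ _ ≫ g)
      (by rw [Category.assoc]; exact pullback.condition)
    have hA' : IsPullback eA (pullback.snd A.hom b) (pullback.snd A.hom σ) g :=
      IsPullback.of_right (by rw [pullback.lift_fst]; exact IsPullback.of_hasPullback A.hom b)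
        (pullback.lift_snd _ _ _) (IsPullback.of_hasPullback A.hom σ)
    haveI : GeometricallyIntegral AΩ.hom :=
      MorphismProperty.of_isPullback (P := @GeometricallyIntegral) hA' ‹GeometricallyIntegral A₀.hom›
    -- the geometric fibre of the torus is split
    obtain ⟨r, ⟨eT⟩⟩ := hsplit Ω b
    let fΩ : Red.bc b T ⟶ AΩ := (Over.pullback b).map f
    haveI : IsMonHom fΩ := inferInstanceAs (IsMonHom ((Over.pullback b).map f))
    let δ : Red.DS (Spec (CommRingCat.of Ω)) (Fin r → ℤ) ⟶ Red.bc b T := eT.inv.hom.hom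
    haveI : IsMonHom δ := eT.inv.hom.isMonHom_hom
    haveI : IsIso δ := ⟨eT.hom.hom.hom, congrArg (fun z => z.hom.hom) eT.inv_hom_id, congrArg (fun z => z.hom.hom) eT.hom_inv_id⟩
    have hfΩ : fΩ = 1 := by
      rw [← cancel_epi δ, MonObj.comp_one, TorusConst.eq_const Ω r (δ ≫ fΩ), IsMonHom.one_hom (δ ≫ fΩ), ← Hom.one_def]
    -- descend to the residue field
    let eT' : pullback T.hom b ⟶ pullback T.hom σ := pullback.lift (pullback.fst _ _) (pullback.snd _ _ ≫ g)
      (by rw [Category.assoc]; exact pullback.condition)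
    have hT' : IsPullback eT' (pullback.snd T.hom b) (pullback.snd T.hom σ) g :=
      IsPullback.of_right (by rw [pullback.lift_fst]; exact IsPullback.of_hasPullback T.hom b)
        (pullback.lift_snd _ _ _) (IsPullback.of_hasPullback T.hom σ)
    haveI : Surjective g := ⟨fun p => ⟨IsLocalRing.closedPoint Ω, @Subsingleton.elim (PrimeSpectrum κ) _ _ _⟩⟩
    haveI : Flat g := by
      rw [HasRingHomProperty.Spec_iff (P := @Flat)]
      show (algebraMap κ Ω).Flat
      rw [RingHom.flat_algebraMap_iff]
      infer_instance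
    haveI : Surjective eT' := MorphismProperty.of_isPullback (P := @Surjective) hT'.flip inferInstance
    haveI : Flat eT' := MorphismProperty.of_isPullback (P := @Flat) hT'.flip inferInstance
    haveI : Epi eT' := Flat.epi_of_flat_of_surjective _
    have hone : ∀ {S' : Scheme.{u}} (c : S' ⟶ S), (Over.pullback c).map (1 : T ⟶ A) = 1 :=
      fun c => map_one (Over.pullback c).homMonoidHom
    rw [← hone σ]
    refine Over.OverMorphism.ext (pullback.hom_ext ?_ ((Over.w _).trans (Over.w _).symm))
    rw [hfst, hfst, ← cancel_epi eT', pullback.lift_fst_assoc, pullback.lift_fst_assoc, ← hfst, ← hfst, hone b]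
    exact congrArg (fun z => z.left ≫ pullback.fst A.hom b) hfΩ
  subst htop
  haveI : IsIso (pullback.fst T.hom (⊤ : S.Opens).ι) := by
    haveI : IsIso (⊤ : S.Opens).ι := inferInstanceAs (IsIso S.topIso.hom)
    infer_instance
  refine Over.OverMorphism.ext ((cancel_epi (pullback.fst T.hom (⊤ : S.Opens).ι)).1 ?_)
  rw [← hfst, ← hfst, hUone, map_one (Over.pullback (⊤ : S.Opens).ι).homMonoidHom |> fun h => (show (Over.pullback (⊤ : S.Opens).ι).map (1 : T ⟶ A) = 1 from h)]

theorem torus_hom_eq_one {S : Scheme.{u}} {T A : Over S} [GrpObj T] (hT : Red.IsTorus T)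
    [GrpObj A] [Smooth A.hom] [IsProper A.hom]
    (hA : ∀ s : S, ConnectedSpace ↥(A.hom.fiber s))
    (f : T ⟶ A) [IsMonHom f] : f = 1 :=
  hom_eq_one_of_split (TorusQI.isMultTypeFT_of_isTorus hT) (fun _ _ _ b => TorusQI.exists_split_geom hT b) hA f

/-- The same after a change of base. -/
theorem torus_bc_hom_eq_one {S S' : Scheme.{u}} (t : S' ⟶ S) {T A : Over S} [GrpObj T] (hT : Red.IsTorus T)
    [GrpObj A] [Smooth A.hom] [IsProper A.hom]
    (hA : ∀ s : S, ConnectedSpace ↥(A.hom.fiber s))
    (f : Red.bc t T ⟶ Red.bc t A) [IsMonHom f] : f = 1 := by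
  haveI := H23.GeomConn.of_grp A hA
  haveI : GeometricallyConnected (Red.bc t A).hom := inferInstanceAs (GeometricallyConnected (pullback.snd A.hom t))
  haveI : IsProper (Red.bc t A).hom := inferInstanceAs (IsProper (pullback.snd A.hom t))
  haveI : Smooth (Red.bc t A).hom := inferInstanceAs (Smooth (pullback.snd A.hom t))
  refine hom_eq_one_of_split (GrpSchLib.MultTypeBC.isMultTypeFT_bc t (TorusQI.isMultTypeFT_of_isTorus hT))
    (fun Ω _ _ b => ?_) (fun _ => inferInstance) f
  obtain ⟨r, ⟨e⟩⟩ := TorusQI.exists_split_geom hT (b ≫ t)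
  obtain ⟨e₁⟩ := GrpSchLib.MultTypeBC.bc_bc b t T
  exact ⟨r, ⟨e₁ ≪≫ e⟩⟩

end Groth.Agent.AVTors
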