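import Groth.Agent.AVTors.Card
import Groth.Agent.S15608
import Groth.Agent.S10839
import Groth.Agent.H23.MaxAbelian
import Groth.Agent.H23.RigidGamma
import Groth.Agent.VarDim.Basic

/-!
The torsion points of order a power of a prime invertible in the field are dense.
-/

set_option autoImplicit false
set_option linter.style.haveILetI false
set_option backward.isDefEq.respectTransparency false
set_option backward.isDefEq.respectTransparency.types false
set_option maxHeartbeats 1000000

universe u

open CategoryTheory CategoryTheory.Limits MonoidalCategory CartesianMonoidalCategory MonObj AlgebraicGeometry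

namespace Groth.Agent.AVTors

variable {k : Type u} [Field k]

theorem exists_dimNat (A : Over (Spec (CommRingCat.of k))) [IsProper A.hom] [GeometricallyIntegral A.hom] :
    ∃ g : ℕ, topologicalKrullDim A.left = g := by
  haveI := H23.MaxAbelian.isIntegral_of_geometricallyIntegral (X := A)
  exact ⟨_, VarDim.topologicalKrullDim_eq_deg_genericPoint A.hom⟩

/-- A closed point set-theoretically inside a closed subscheme factors through it. -/
theorem exists_lift_pt {A N : Over (Spec (CommRingCat.of k))} (j : N ⟶ A) [IsClosedImmersion j.left]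
    (a : pt0 k ⟶ A) (h : a.left (IsLocalRing.closedPoint k) ∈ Set.range j.left) : ∃ b : pt0 k ⟶ N, b ≫ j = a := by
  haveI : AlgebraicGeometry.IsReduced (Spec (CommRingCat.of k)) := inferInstance
  obtain ⟨s, hs⟩ := H23.RedSub.exists_lift_closed (X := Spec (CommRingCat.of k)) a.left j.left (by
    rintro _ ⟨p, rfl⟩
    rwa [show p = IsLocalRing.closedPoint k from @Subsingleton.elim (Spec (CommRingCat.of k)) inferInstance _ _])
  refine ⟨Over.homMk s ?_, Over.OverMorphism.ext hs⟩
  show s ≫ N.hom = 𝟙 _
  rw [← Over.w j, ← Category.assoc, hs]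
  exact Over.w a

theorem finite_connectedComponents (X : Type u) [TopologicalSpace X] [TopologicalSpace.NoetherianSpace X] :
    Finite (_root_.ConnectedComponents X) := by
  haveI := (TopologicalSpace.NoetherianSpace.finite_irreducibleComponents (α := X)).to_subtype
  refine Finite.of_surjective (fun Z : irreducibleComponents X => _root_.ConnectedComponents.mk Z.2.1.nonempty.some) fun C => ?_
  obtain ⟨x, rfl⟩ := _root_.ConnectedComponents.surjective_coe C
  refine ⟨⟨irreducibleComponent x, irreducibleComponent_mem_irreducibleComponents x⟩, ?_⟩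
  refine _root_.ConnectedComponents.coe_eq_coe'.2 ?_
  exact (isIrreducible_irreducibleComponent.isPreirreducible.isPreconnected.subset_connectedComponent
    mem_irreducibleComponent) (Set.Nonempty.some_mem _)

variable (A : Over (Spec (CommRingCat.of k))) [GrpObj A] [IsCommMonObj A]

/-- Points of order a power of `l`. -/
noncomputable def lPow (l : ℕ) : Subgroup (pt0 k ⟶ A) where
  carrier := {a | ∃ n, a ^ (l ^ n) = 1}
  one_mem' := ⟨0, one_pow _⟩
  mul_mem' := fun {a b} ⟨m, hm⟩ ⟨n, hn⟩ => ⟨m + n, by
    rw [mul_pow, pow_add, pow_mul, hm, one_pow, _root_.one_mul, mul_comm (l ^ m), pow_mul, hn, one_pow]⟩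
  inv_mem' := fun {a} ⟨n, hn⟩ => ⟨n, by rw [inv_pow, hn, inv_one]⟩

variable [IsAlgClosed k] [IsProper A.hom] [GeometricallyIntegral A.hom]

theorem dense_lPow (l : ℕ) [Fact l.Prime] (hl : (l : k) ≠ 0) :
    closure ((fun a : pt0 k ⟶ A => a.left (IsLocalRing.closedPoint k)) '' (lPow A l : Set (pt0 k ⟶ A))) = Set.univ := by
  haveI : GeometricallyReduced A.hom := inferInstance
  letI : GrpObj (Over.mk A.hom) := inferInstanceAs (GrpObj A)
  haveI : Smooth A.hom := smooth_of_grpObj A.hom
  haveI := H23.MaxAbelian.isIntegral_of_geometricallyIntegral (X := A)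
  obtain ⟨H, iH, i, himon, hicl, hHsm, hir⟩ := S15608.result k A (lPow A l)
  haveI : IsProper H.hom := by rw [← Over.w i]; infer_instance
  obtain ⟨H₀, iH₀, incl, hinc, hinccl, hincfl, hincr, hH₀irr, -⟩ :=
    GrpSchLib.exists_identityComponent (K := k) (G := H)
  haveI : IsProper H₀.hom := by rw [← Over.w incl]; infer_instance
  haveI : GeometricallyReduced H.hom := H23.RigidGamma.geometricallyReduced_of_smooth H.hom
  haveI : GeometricallyReduced H₀.hom := by
    haveI : IsLocallyNoetherian H.left := LocallyOfFiniteType.isLocallyNoetherian H.hom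
    haveI : LocallyOfFinitePresentation incl.left := inferInstance
    haveI : IsOpenImmersion incl.left := IsOpenImmersion.of_flat_of_mono incl.left
    haveI : Smooth H₀.hom := by rw [← Over.w incl]; infer_instance
    exact H23.RigidGamma.geometricallyReduced_of_smooth H₀.hom
  haveI : GeometricallyIntegral H₀.hom :=
    GeometricallyIntegral.of_geometricallyReduced_of_geometricallyIrreducible _
  let j : H₀ ⟶ A := incl ≫ i
  haveI : IsClosedImmersion j.left := by rw [Over.comp_left]; infer_instance
  haveI : Mono j := Over.mono_of_mono_left j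
  haveI : Mono i := Over.mono_of_mono_left i
  haveI : Mono incl := Over.mono_of_mono_left incl
  haveI : IsCommMonObj H₀ := ⟨by
    rw [← cancel_mono j]
    simp [IsMonHom.mul_hom, ← BraidedCategory.braiding_naturality_assoc]⟩
  obtain ⟨g, hg⟩ := exists_dimNat A
  obtain ⟨g', hg'⟩ := exists_dimNat H₀
  have hlp := (Fact.out : l.Prime)
  -- components of `H`
  haveI : IsLocallyNoetherian H.left := LocallyOfFiniteType.isLocallyNoetherian H.hom
  haveI : CompactSpace H.left := QuasiCompact.compactSpace_of_compactSpace H.hom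
  haveI : TopologicalSpace.NoetherianSpace H.left := by
    haveI : IsNoetherian H.left := ⟨⟩
    infer_instance
  haveI : Finite (_root_.ConnectedComponents H.left) := finite_connectedComponents _
  let m := Nat.card (_root_.ConnectedComponents H.left)
  have hbound : ∀ n : ℕ, (l ^ n) ^ (2 * g) ≤ m * (l ^ n) ^ (2 * g') := fun n => by
    have hpos : 0 < l ^ n := pow_pos hlp.pos n
    have hne : ((l ^ n : ℕ) : k) ≠ 0 := by rw [Nat.cast_pow]; exact pow_ne_zero _ hl
    obtain ⟨hfA, -, hA⟩ := card_torsPts_le (A := A) hg (l ^ n) hpos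
    obtain ⟨hf0, -, h0⟩ := card_torsPts_le (A := H₀) hg' (l ^ n) hpos
    rw [← hA hne, ← h0 hne]
    have hlift : ∀ a : AbDual.torsPts A (l ^ n) (pt0 k), ∃ b : pt0 k ⟶ H, b ≫ i = a.1 := fun a =>
      exists_lift_pt i a.1 (hir.symm ▸ subset_closure ⟨a.1, ⟨n, a.2⟩, rfl⟩)
    choose b hb using hlift
    let c : AbDual.torsPts A (l ^ n) (pt0 k) → _root_.ConnectedComponents H.left :=
      fun a => _root_.ConnectedComponents.mk ((b a).left (IsLocalRing.closedPoint k))
    haveI := hfA
    haveI := hf0
    haveI := Fintype.ofFinite (_root_.ConnectedComponents H.left)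
    rw [← Nat.card_congr (Equiv.sigmaFiberEquiv c), Nat.card_sigma]
    refine (Finset.sum_le_card_nsmul _ _ (Nat.card (AbDual.torsPts H₀ (l ^ n) (pt0 k))) fun C _ => ?_).trans ?_
    · by_cases hC : IsEmpty {a // c a = C}
      · rw [Nat.card_eq_zero.2 (Or.inl hC)]; exact Nat.zero_le _
      obtain ⟨a0, ha0⟩ := (not_isEmpty_iff.1 hC).some
      have hd : ∀ a : {a // c a = C}, ∃ d : pt0 k ⟶ H₀, d ≫ incl = (b a0)⁻¹ * b a.1 := fun a => by
        refine exists_lift_pt incl _ (hincr.symm ▸ ?_)
        let t : H ⟶ H := (toUnit H ≫ (b a0)⁻¹) * 𝟙 H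
        have ht : ∀ x : pt0 k ⟶ H, x ≫ t = (b a0)⁻¹ * x := fun x => by
          simp only [t, MonObj.comp_mul, Category.comp_id, ← Category.assoc]
          rw [show x ≫ toUnit H = toUnit (pt0 k) from toUnit_unique _ _,
            show toUnit (pt0 k) = 𝟙 (𝟙_ (Over (Spec (CommRingCat.of k)))) from toUnit_unique _ _]
          exact congrArg (· * x) (Category.id_comp _)
        have h1 : (b a.1).left (IsLocalRing.closedPoint k) ∈
            connectedComponent ((b a0).left (IsLocalRing.closedPoint k)) :=
          _root_.ConnectedComponents.coe_eq_coe'.1 (a.2.trans ha0.symm)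
        have h2 := Continuous.mapsTo_connectedComponent t.left.continuous _ h1
        have h3 : t.left ((b a0).left (IsLocalRing.closedPoint k)) = η[H].left (IsLocalRing.closedPoint k) := by
          have := ht (b a0)
          rw [inv_mul_cancel] at this
          rw [← Scheme.Hom.comp_apply, ← Over.comp_left, this, Hom.one_def]
          simp [toUnit_unique (toUnit (pt0 k)) (𝟙 _)]
        rw [h3, ← Scheme.Hom.comp_apply, ← Over.comp_left, ht] at h2
        exact h2
      choose d hd using hd
      have hdt : ∀ a, d a ^ (l ^ n) = 1 := fun a => by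
        have hinj : ∀ x y : pt0 k ⟶ H₀, x ≫ j = y ≫ j → x = y := fun x y h => (cancel_mono j).1 h
        refine hinj _ _ ?_
        rw [MonObj.pow_comp,
          MonObj.one_comp, show d a ≫ j = (a0.1)⁻¹ * a.1.1 by
            rw [← hb, ← hb, ← Category.assoc, hd, MonObj.mul_comp, GrpObj.inv_comp],
          mul_pow, inv_pow, show a0.1 ^ (l ^ n) = 1 from a0.2, show a.1.1 ^ (l ^ n) = 1 from a.1.2,
          inv_one, _root_.one_mul]
      refine Nat.card_le_card_of_injective (fun a => (⟨d a, hdt a⟩ : AbDual.torsPts H₀ (l ^ n) (pt0 k))) ?_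
      intro a a' h
      have h' : (b a0)⁻¹ * b a.1 = (b a0)⁻¹ * b a'.1 := by
        rw [← hd, ← hd, show d a = d a' from congrArg Subtype.val h]
      refine Subtype.ext (Subtype.ext ?_)
      rw [← hb, ← hb, mul_left_cancel h']
    · rw [Finset.card_univ, smul_eq_mul, ← Nat.card_eq_fintype_card]
  have hgg : g ≤ g' := by
    by_contra hlt
    push Not at hlt
    obtain ⟨n, hn⟩ := pow_unbounded_of_one_lt m hlp.one_lt
    have := hbound n
    have h2 : (l ^ n) ^ (2 * g') * (l ^ n) ≤ (l ^ n) ^ (2 * g) := by
      rw [← pow_succ]; exact Nat.pow_le_pow_right (pow_pos hlp.pos _) (by omega)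
    have h3 : m * (l ^ n) ^ (2 * g') < l ^ n * (l ^ n) ^ (2 * g') :=
      Nat.mul_lt_mul_of_pos_right hn (pow_pos (pow_pos hlp.pos _) _)
    linarith [mul_comm ((l ^ n) ^ (2 * g')) (l ^ n)]
  have hle : topologicalKrullDim H₀.left ≤ topologicalKrullDim A.left :=
    j.left.isClosedEmbedding.isInducing.topologicalKrullDim_le
  rw [hg, hg'] at hle
  have hle' : g' ≤ g := by exact_mod_cast hle
  have hdim : topologicalKrullDim A.left = topologicalKrullDim H₀.left := by
    rw [hg, hg', le_antisymm hgg hle']
  have hs : Function.Surjective j.left :=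
    S10839.surjective_of_dim_eq j.left.isClosedEmbedding (by rw [hg]; exact fun h => ENat.coe_ne_top g (WithBot.coe_injective h)) hdim
  refine Set.eq_univ_of_univ_subset fun x _ => hir ▸ ?_
  obtain ⟨y, rfl⟩ := hs x
  exact ⟨incl.left y, rfl⟩

end Groth.Agent.AVTors
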