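import Groth.Agent.AVTors.Card
import Mathlib.NumberTheory.Padics.PadicIntegers
import Mathlib.RingTheory.AdicCompletion.Functoriality

/-!
The Tate module of an abelian variety over an algebraically closed field is free of rank `2g`.
-/

set_option autoImplicit false
set_option linter.style.haveILetI false
set_option backward.isDefEq.respectTransparency false
set_option backward.isDefEq.respectTransparency.types false
set_option maxHeartbeats 1000000

universe u

open CategoryTheory CategoryTheory.Limits MonoidalCategory CartesianMonoidalCategory MonObj AlgebraicGeometry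
open AbDual (TateMod tateSub)

namespace Groth.Agent.AVTors

variable {S : Scheme.{u}} {A : Over S} [GrpObj A] [IsCommMonObj A] {T : Over S} {l : ℕ}

/-- The component of a sequence. -/
abbrev cpt (n : ℕ) (x : TateMod A l T) : Additive (T ⟶ A) := (x : ℕ → Additive (T ⟶ A)) n

theorem cpt_zero (x : TateMod A l T) : cpt 0 x = 0 := by
  have h := AbDual.TateMod.torsion x 0
  rwa [pow_zero, one_nsmul] at h

theorem cpt_add_eq (x : TateMod A l T) (m n : ℕ) : (l ^ n) • cpt (m + n) x = cpt m x := by
  induction n with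
  | zero => rw [pow_zero, one_nsmul]; rfl
  | succ n ih => rw [pow_succ, mul_nsmul', ← add_assoc, AbDual.TateMod.compat x (m + n), ih]

/-- A torsion point is a component of a sequence, when multiplication by `l` is surjective on points. -/
theorem exists_cpt_eq (hdiv : ∀ b : T ⟶ A, ∃ c : T ⟶ A, c ^ l = b) (n : ℕ) (a : T ⟶ A) (ha : a ^ (l ^ n) = 1) :
    ∃ x : TateMod A l T, cpt n x = Additive.ofMul a := by
  choose c hc using hdiv
  let r : ℕ → (T ⟶ A) := fun j => c^[j] a
  have hr : ∀ j, r (j + 1) ^ l = r j := fun j => by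
    simp only [r, Function.iterate_succ_apply', hc]
  have hr0 : ∀ j, r j ^ (l ^ j) = a := fun j => by
    induction j with
    | zero => rw [pow_zero, pow_one]; rfl
    | succ j ih => rw [pow_succ', pow_mul, hr, ih]
  exact ⟨⟨fun m => Additive.ofMul (r m ^ (l ^ n)),
    ⟨fun m => congrArg Additive.ofMul (by
      show (r m ^ (l ^ n)) ^ (l ^ m) = 1
      rw [← pow_mul, mul_comm, pow_mul, hr0, ha]),
    fun m => congrArg Additive.ofMul (by
      show (r (m + 1) ^ (l ^ n)) ^ l = r m ^ (l ^ n)
      rw [← pow_mul, mul_comm, pow_mul, hr])⟩⟩, congrArg Additive.ofMul (hr0 n)⟩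

variable [Fact l.Prime]

theorem natCast_smul_eq (c : ℕ) (x : TateMod A l T) : (c : ℤ_[l]) • x = c • x := Nat.cast_smul_eq_nsmul _ c x

theorem cpt_nsmul (c : ℕ) (x : TateMod A l T) (n : ℕ) : cpt n (c • x) = c • cpt n x := by
  show ((c • x : TateMod A l T) : ℕ → Additive (T ⟶ A)) n = _
  rw [AddSubgroup.coe_nsmul]
  rfl

theorem cpt_add (x y : TateMod A l T) (n : ℕ) : cpt n (x + y) = cpt n x + cpt n y := rfl

theorem cpt_smul (c : ℤ_[l]) (x : TateMod A l T) (n : ℕ) : cpt n (c • x) = c.appr n • cpt n x := rfl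

theorem exists_eq_pow_smul (x : TateMod A l T) (n : ℕ) (h : cpt n x = 0) :
    ∃ y : TateMod A l T, ((l : ℤ_[l]) ^ n) • y = x := by
  refine ⟨⟨fun m => cpt (m + n) x, ⟨fun m => ?_, fun m => ?_⟩⟩, ?_⟩
  · show l ^ m • cpt (m + n) x = 0
    rw [add_comm m n, cpt_add_eq, h]
  · show l • cpt (m + 1 + n) x = cpt (m + n) x
    rw [show m + 1 + n = m + n + 1 by omega]
    exact AbDual.TateMod.compat x (m + n)
  · rw [← Nat.cast_pow, natCast_smul_eq]
    refine AbDual.TateMod.ext fun m => (cpt_nsmul _ _ m).trans ?_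
    exact cpt_add_eq x m n

theorem eq_zero_of_l_smul (x : TateMod A l T) (h : (l : ℤ_[l]) • x = 0) : x = 0 := by
  refine AbDual.TateMod.ext fun m => ?_
  have h2 := congrArg (cpt (m + 1)) h
  rw [natCast_smul_eq, cpt_nsmul] at h2
  exact (AbDual.TateMod.compat x m).symm.trans h2

instance tate_isTorsionFree : Module.IsTorsionFree ℤ_[l] (TateMod A l T) := by
  refine Module.IsTorsionFree.of_smul_eq_zero fun c x hcx => ?_
  by_cases hc : c = 0
  · exact Or.inl hc
  refine Or.inr ?_
  obtain ⟨u, n, rfl⟩ : ∃ (u : ℤ_[l]ˣ) (n : ℕ), c = u * (l : ℤ_[l]) ^ n :=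
    ⟨_, _, PadicInt.unitCoeff_spec hc⟩
  rw [mul_smul] at hcx
  have h1 : ((l : ℤ_[l]) ^ n) • x = 0 := by
    rw [← one_smul ℤ_[l] (((l : ℤ_[l]) ^ n) • x), ← Units.inv_mul u, mul_smul, hcx, smul_zero]
  clear hcx hc
  induction n generalizing x with
  | zero => rwa [pow_zero, one_smul] at h1
  | succ n ih => exact ih x (eq_zero_of_l_smul _ (by rwa [← mul_smul, ← pow_succ']))

instance tate_isHausdorff : IsHausdorff (Ideal.span {(l : ℤ_[l])}) (TateMod A l T) where
  haus' x hx := AbDual.TateMod.ext fun n => by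
    have h := hx n
    rw [SModEq.sub_mem, sub_zero, Ideal.span_singleton_pow, Submodule.ideal_span_singleton_smul] at h
    obtain ⟨y, -, rfl⟩ := h
    show cpt n (((l : ℤ_[l]) ^ n) • y) = 0
    rw [← Nat.cast_pow, natCast_smul_eq, cpt_nsmul]
    exact AbDual.TateMod.torsion y n

theorem isPrecomplete_pi (r : ℕ) : IsPrecomplete (Ideal.span {(l : ℤ_[l])}) (Fin r → ℤ_[l]) := by
  constructor
  intro f hf
  have hI : (Ideal.span {(l : ℤ_[l])}) = IsLocalRing.maximalIdeal ℤ_[l] := PadicInt.maximalIdeal_eq_span_p.symm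
  haveI : IsAdicComplete (Ideal.span {(l : ℤ_[l])}) ℤ_[l] := hI ▸ inferInstance
  have hmem : ∀ (n : ℕ) (z : Fin r → ℤ_[l]),
      z ∈ ((Ideal.span {(l : ℤ_[l])}) ^ n • ⊤ : Submodule ℤ_[l] (Fin r → ℤ_[l])) ↔
        ∀ i, z i ∈ ((Ideal.span {(l : ℤ_[l])}) ^ n • ⊤ : Submodule ℤ_[l] ℤ_[l]) := fun n z => by
    simp only [Ideal.span_singleton_pow, Submodule.ideal_span_singleton_smul,
      Submodule.mem_smul_pointwise_iff_exists, Submodule.mem_top, true_and]
    exact ⟨fun ⟨y, hy⟩ i => ⟨y i, congrFun hy i⟩, fun h => ⟨fun i => (h i).choose, funext fun i => (h i).choose_spec⟩⟩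
  have hc : ∀ i, ∃ L, ∀ n, f n i ≡ L [SMOD ((Ideal.span {(l : ℤ_[l])}) ^ n • ⊤ : Submodule ℤ_[l] ℤ_[l])] :=
    fun i => IsPrecomplete.prec inferInstance fun {m n} h =>
      SModEq.sub_mem.2 ((hmem m _).1 (SModEq.sub_mem.1 (hf h)) i)
  choose L hL using hc
  exact ⟨L, fun n => SModEq.sub_mem.2 ((hmem n _).2 fun i => SModEq.sub_mem.1 (hL i n))⟩

/-- The Tate module is free with as many generators as `l`-torsion. -/
theorem exists_linearEquiv (r : ℕ) (e : AbDual.torsPts A l T ≃* Multiplicative (Fin r → ZMod l))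
    (hdiv : ∀ b : T ⟶ A, ∃ c : T ⟶ A, c ^ l = b) : Nonempty ((Fin r → ℤ_[l]) ≃ₗ[ℤ_[l]] TateMod A l T) := by
  classical
  let E : (Fin r → ZMod l) →+ Additive (T ⟶ A) :=
    { toFun := fun w => Additive.ofMul ((e.symm (Multiplicative.ofAdd w)).1)
      map_zero' := by simp
      map_add' := fun a b => by simp [ofAdd_add] }
  have hEi : Function.Injective E := fun a b h =>
    Multiplicative.ofAdd.injective (e.symm.injective (Subtype.ext (Additive.ofMul.injective h)))
  have hv : ∀ i, ∃ x : TateMod A l T, cpt 1 x = E (Pi.single i 1) := fun i =>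
    exists_cpt_eq hdiv 1 _ (by rw [pow_one]; exact (e.symm (Multiplicative.ofAdd (Pi.single i 1))).2)
  choose v hv using hv
  let Φ : (Fin r → ℤ_[l]) →ₗ[ℤ_[l]] TateMod A l T := Fintype.linearCombination ℤ_[l] v
  have h1 : ∀ c : Fin r → ℤ_[l], cpt 1 (Φ c) = E (fun i => PadicInt.toZMod (c i)) := fun c => by
    let F : (Fin r → ℤ_[l]) →+ Additive (T ⟶ A) :=
      ((Pi.evalAddMonoidHom (fun _ : ℕ => Additive (T ⟶ A)) 1).comp (tateSub A l T).subtype).comp Φ.toAddMonoidHom
    let G : (Fin r → ℤ_[l]) →+ Additive (T ⟶ A) :=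
      E.comp (Pi.addMonoidHom fun i => (PadicInt.toZMod (p := l)).toAddMonoidHom.comp (Pi.evalAddMonoidHom _ i))
    suffices F = G from DFunLike.congr_fun this c
    refine AddMonoidHom.functions_ext _ _ _ fun i a => ?_
    show cpt 1 (Φ (Pi.single i a)) = E (fun j => PadicInt.toZMod ((Pi.single i a : Fin r → ℤ_[l]) j))
    rw [Fintype.linearCombination_apply_single, cpt_smul, hv, ← map_nsmul]
    refine congrArg E (funext fun j => ?_)
    rcases eq_or_ne j i with rfl | hj
    · simp only [Pi.smul_apply, Pi.single_eq_same, nsmul_eq_mul]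
      have h := PadicInt.appr_spec 1 a
      rw [pow_one, ← PadicInt.maximalIdeal_eq_span_p, ← PadicInt.ker_toZMod, RingHom.mem_ker, map_sub,
        map_natCast, sub_eq_zero] at h
      exact (_root_.mul_one _).trans h.symm
    · simp [Pi.smul_apply, Pi.single_eq_of_ne hj]
  have hsurj : Function.Surjective Φ := by
    haveI := isPrecomplete_pi (l := l) r
    refine surjective_of_mkQ_comp_surjective (I := Ideal.span {(l : ℤ_[l])}) fun q => ?_
    obtain ⟨x, rfl⟩ := Submodule.mkQ_surjective _ q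
    have hx : (cpt 1 x).toMul ^ l = 1 := by
      have := AbDual.TateMod.torsion x 1
      rw [pow_one] at this
      exact this
    let w := Multiplicative.toAdd (e ⟨(cpt 1 x).toMul, hx⟩)
    have hw : E w = cpt 1 x := by simp [E, w]
    choose c hc using fun i => ZMod.ringHom_surjective (PadicInt.toZMod (p := l)) (w i)
    refine ⟨c, (Submodule.Quotient.eq _).2 ?_⟩
    obtain ⟨y, hy⟩ := exists_eq_pow_smul (Φ c - x) 1 (by
      show cpt 1 (Φ c) - cpt 1 x = 0
      rw [h1, sub_eq_zero, ← hw]
      exact congrArg E (funext hc))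
    rw [pow_one] at hy
    rw [← hy]
    exact Submodule.smul_mem_smul (Ideal.mem_span_singleton_self _) Submodule.mem_top
  have hinj : Function.Injective Φ := by
    rw [injective_iff_map_eq_zero]
    intro c hc
    have hstep : ∀ (n : ℕ) (c : Fin r → ℤ_[l]), Φ c = 0 → ∀ i, (l : ℤ_[l]) ^ n ∣ c i := by
      intro n
      induction n with
      | zero => intros; simp
      | succ n ih =>
        intro c hc i
        have h0 : ∀ i, PadicInt.toZMod (c i) = 0 := by
          have h2 : E (fun i => PadicInt.toZMod (c i)) = E 0 := by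
            rw [← h1, hc, map_zero]; rfl
          exact congrFun (hEi h2)
        have hd : ∀ i, ∃ c', c i = (l : ℤ_[l]) * c' := fun i => by
          have : c i ∈ RingHom.ker (PadicInt.toZMod (p := l)) := h0 i
          rw [PadicInt.ker_toZMod, PadicInt.maximalIdeal_eq_span_p, Ideal.mem_span_singleton'] at this
          obtain ⟨c', h'⟩ := this
          exact ⟨c', h'.symm.trans (mul_comm _ _)⟩
        choose c' hc' using hd
        have hcc : c = (l : ℤ_[l]) • c' := funext hc'
        rw [hcc, map_smul] at hc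
        rw [hc' i, pow_succ']
        exact mul_dvd_mul_left _ (ih c' (eq_zero_of_l_smul _ hc) i)
    funext i
    by_contra hne
    exact absurd (hstep ((c i).valuation + 1) c hc i) fun hd => by
      have := (PadicInt.mem_span_pow_iff_le_valuation _ hne _).1 (Ideal.mem_span_singleton.2 hd)
      omega
  exact ⟨LinearEquiv.ofBijective Φ ⟨hinj, hsurj⟩⟩

end Groth.Agent.AVTors
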