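import Groth.Agent.AVTors.TateInj
import Groth.Agent.AVTors.TateFree
import Groth.Agent.FibDim.BaseField

/-!
Points of an abelian variety with values in an algebraically closed extension.
-/

set_option autoImplicit false
set_option linter.style.haveILetI false
set_option backward.isDefEq.respectTransparency false
set_option backward.isDefEq.respectTransparency.types false
set_option maxHeartbeats 1000000

universe u

open CategoryTheory CategoryTheory.Limits MonoidalCategory CartesianMonoidalCategory MonObj AlgebraicGeometry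

namespace Groth.Agent.AVTors

attribute [local instance] Functor.monObjObj Functor.grpObjObj

variable {k : Type u} [Field k] (Ω : Type u) [Field Ω] [Algebra k Ω] [IsAlgClosed Ω]

/-- The morphism of spectra. -/
noncomputable abbrev vΩ : Spec (CommRingCat.of Ω) ⟶ Spec (CommRingCat.of k) :=
  Spec.map (CommRingCat.ofHom (algebraMap k Ω))

/-- The two descriptions of `Spec Ω` over `k`. -/
noncomputable def ioPt : (Over.map (vΩ (k := k) Ω)).obj (pt0 Ω) ≅ SGA7.pt Ω :=
  Over.isoMk (Iso.refl (Spec (CommRingCat.of Ω)))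
    (show 𝟙 _ ≫ vΩ (k := k) Ω = 𝟙 _ ≫ vΩ (k := k) Ω from rfl)

/-- Precomposition with an isomorphism as a monoid isomorphism. -/
noncomputable def precompEquiv {C : Type*} [Category C] [CartesianMonoidalCategory C] {T T' A : C} [MonObj A]
    (e : T ≅ T') : (T' ⟶ A) ≃* (T ⟶ A) where
  toFun x := e.hom ≫ x
  invFun y := e.inv ≫ y
  left_inv x := e.inv_hom_id_assoc x
  right_inv y := e.hom_inv_id_assoc y
  map_mul' x y := MonObj.comp_mul _ x y

/-- `Ω`-points of `A` and rational points of its base change. -/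
noncomputable def ePts (A : Over (Spec (CommRingCat.of k))) [GrpObj A] :
    (SGA7.pt Ω ⟶ A) ≃* (pt0 Ω ⟶ (Over.pullback (vΩ Ω)).obj A) :=
  (precompEquiv (A := A) (ioPt Ω)).trans (bcPts (vΩ Ω) (pt0 Ω) A)

theorem ePts_comp {A B : Over (Spec (CommRingCat.of k))} [GrpObj A] [GrpObj B] (x : SGA7.pt Ω ⟶ A) (f : A ⟶ B) :
    ePts Ω B (x ≫ f) = ePts Ω A x ≫ (Over.pullback (vΩ Ω)).map f := by
  show bcPts (vΩ Ω) (pt0 Ω) B ((ioPt Ω).hom ≫ x ≫ f) = bcPts (vΩ Ω) (pt0 Ω) A ((ioPt Ω).hom ≫ x) ≫ _
  rw [← bcPts_comp, Category.assoc]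

theorem topologicalKrullDim_pullback {A : Over (Spec (CommRingCat.of k))} [IsProper A.hom] [GeometricallyIntegral A.hom]
    {g : ℕ} (hg : topologicalKrullDim A.left = g) :
    topologicalKrullDim ((Over.pullback (vΩ Ω)).obj A).left = g := by
  rw [show ((Over.pullback (vΩ Ω)).obj A).left = pullback A.hom (vΩ Ω) from rfl]
  rw [← hg]
  exact FibDim.topologicalKrullDim_baseChange (IsPullback.of_hasPullback A.hom (vΩ Ω))

set_option linter.unusedSectionVars false

variable (A : Over (Spec (CommRingCat.of k))) [GrpObj A] [IsCommMonObj A] [IsProper A.hom]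
  [GeometricallyIntegral A.hom]

theorem finite_torsPts_pt {g : ℕ} (hg : topologicalKrullDim A.left = g) (n : ℕ) (hn : 0 < n) :
    Finite (AbDual.torsPts A n (SGA7.pt Ω)) ∧ Nat.card (AbDual.torsPts A n (SGA7.pt Ω)) ≤ n ^ (2 * g) ∧
      ((n : Ω) ≠ 0 → Nonempty (AbDual.torsPts A n (SGA7.pt Ω) ≃* Multiplicative (Fin (2 * g) → ZMod n))) := by
  let F := Over.pullback (vΩ (k := k) Ω)
  haveI : IsProper (F.obj A).hom := inferInstanceAs (IsProper (pullback.snd A.hom (vΩ Ω)))
  haveI : GeometricallyIntegral (F.obj A).hom := inferInstanceAs (GeometricallyIntegral (pullback.snd A.hom (vΩ Ω)))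
  have hg' := topologicalKrullDim_pullback Ω hg
  let t : AbDual.torsPts A n (SGA7.pt Ω) ≃* AbDual.torsPts (F.obj A) n (pt0 Ω) :=
    { toFun := fun x => ⟨ePts Ω A x.1, by
        show (ePts Ω A x.1) ^ n = 1
        rw [← map_pow, show x.1 ^ n = 1 from x.2, map_one]⟩
      invFun := fun y => ⟨(ePts Ω A).symm y.1, by
        show ((ePts Ω A).symm y.1) ^ n = 1
        rw [← map_pow, show y.1 ^ n = 1 from y.2, map_one]⟩
      left_inv := fun x => Subtype.ext ((ePts Ω A).symm_apply_apply x.1)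
      right_inv := fun y => Subtype.ext ((ePts Ω A).apply_symm_apply y.1)
      map_mul' := fun a b => Subtype.ext (map_mul (ePts Ω A) a.1 b.1) }
  obtain ⟨hf, hle, -⟩ := card_torsPts_le (A := F.obj A) hg' n hn
  refine ⟨Finite.of_equiv _ t.symm.toEquiv, (Nat.card_congr t.toEquiv).le.trans hle, fun hne => ?_⟩
  exact (nonempty_mulEquiv hg' n hn hne).map t.trans

theorem exists_root_pt (n : ℕ) (hn : 0 < n) (a : SGA7.pt Ω ⟶ A) : ∃ b : SGA7.pt Ω ⟶ A, b ^ n = a := by
  let F := Over.pullback (vΩ (k := k) Ω)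
  haveI : IsProper (F.obj A).hom := inferInstanceAs (IsProper (pullback.snd A.hom (vΩ Ω)))
  haveI : GeometricallyIntegral (F.obj A).hom := inferInstanceAs (GeometricallyIntegral (pullback.snd A.hom (vΩ Ω)))
  obtain ⟨c, hc⟩ := exists_root (A := F.obj A) n hn (ePts Ω A a)
  exact ⟨(ePts Ω A).symm c, by rw [← map_pow, hc, MulEquiv.symm_apply_apply]⟩

theorem exists_linearEquiv_pt {g : ℕ} (hg : topologicalKrullDim A.left = g) (l : ℕ) [Fact l.Prime] (hl : (l : k) ≠ 0) :
    Nonempty ((Fin (2 * g) → ℤ_[l]) ≃ₗ[ℤ_[l]] AbDual.TateMod A l (SGA7.pt Ω)) := by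
  have hlΩ : (l : Ω) ≠ 0 := fun h => hl ((algebraMap k Ω).injective (by rwa [map_natCast, map_zero]))
  obtain ⟨e⟩ := (finite_torsPts_pt Ω A hg l (Fact.out : l.Prime).pos).2.2 hlΩ
  exact exists_linearEquiv _ e (fun b => exists_root_pt Ω A l (Fact.out : l.Prime).pos b)

theorem pt_self (k : Type u) [Field k] :
    SGA7.pt (K := k) k = Over.mk (𝟙 (Spec (CommRingCat.of k))) := by
  show Over.mk (Spec.map (CommRingCat.ofHom (RingHom.id k))) = _
  rw [show CommRingCat.ofHom (RingHom.id k) = 𝟙 (CommRingCat.of k) from rfl, Spec.map_id]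

end Groth.Agent.AVTors
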