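import Groth.Agent.AVTors.EtaleFactor
import Groth.Agent.AVTors.TatePt

/-!
Factorisation through an étale isogeny, tested on geometric points.
-/

set_option autoImplicit false
set_option linter.style.haveILetI false
set_option backward.isDefEq.respectTransparency false
set_option backward.isDefEq.respectTransparency.types false
set_option maxHeartbeats 1000000

universe u

open CategoryTheory CategoryTheory.Limits MonoidalCategory CartesianMonoidalCategory MonObj AlgebraicGeometry

namespace Groth.Agent.AVTors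

variable {k : Type u} [Field k] (Ω : Type u) [Field Ω] [Algebra k Ω] [IsAlgClosed Ω]

/-- A morphism out of a finite étale scheme is determined by the geometric points. -/
theorem ext_of_finite_etale_pt {N Z : Over (Spec (CommRingCat.of k))} [IsFinite N.hom] [Etale N.hom]
    [IsSeparated Z.hom] (f g : N ⟶ Z) (h : ∀ a : SGA7.pt Ω ⟶ N, a ≫ f = a ≫ g) : f = g := by
  haveI : GeometricallyReduced N.hom := H23.RigidGamma.geometricallyReduced_of_smooth N.hom
  haveI : AlgebraicGeometry.IsReduced N.left := GrpSchLib.SmallestSubgroup.isReduced_of_geometricallyReduced N.hom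
  let jj : (∐ fun _ : (SGA7.pt Ω ⟶ N) => Spec (CommRingCat.of Ω)) ⟶ N.left := Sigma.desc fun a => a.left
  haveI : IsDominant jj := ⟨by
    refine dense_iff_closure_eq.2 (Set.eq_univ_of_univ_subset fun x _ => subset_closure ?_)
    let q := pullback.snd N.hom (vΩ (k := k) Ω)
    haveI : IsFinite q := MorphismProperty.pullback_snd (P := @IsFinite) _ _ inferInstance
    haveI : Surjective (pullback.fst N.hom (vΩ (k := k) Ω)) := inferInstance
    obtain ⟨y, rfl⟩ := (pullback.fst N.hom (vΩ (k := k) Ω)).surjective x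
    obtain ⟨⟨p, hp⟩, hpy⟩ := (sectEquiv q).surjective y
    let a : SGA7.pt Ω ⟶ N := Over.homMk (p ≫ pullback.fst _ _) (by
      rw [Category.assoc, pullback.condition, ← Category.assoc, hp]; exact Category.id_comp _)
    refine ⟨(Sigma.ι (fun _ : (SGA7.pt Ω ⟶ N) => Spec (CommRingCat.of Ω)) a) (IsLocalRing.closedPoint Ω), ?_⟩
    rw [← Scheme.Hom.comp_apply, Sigma.ι_desc, ← hpy]
    simp [a, sectEquiv]⟩
  refine Over.OverMorphism.ext (ext_of_isDominant_of_isSeparated Z.hom ((Over.w f).trans (Over.w g).symm) jj ?_)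
  refine Sigma.hom_ext _ _ fun a => ?_
  rw [Sigma.ι_desc_assoc, Sigma.ι_desc_assoc]
  exact congrArg Over.Hom.left (h a)

theorem exists_factor_pt {X Y Z : Over (Spec (CommRingCat.of k))} [GrpObj X] [IsCommMonObj X] [GrpObj Y]
    [IsSeparated Y.hom] [GrpObj Z] [IsSeparated Z.hom] (f : X ⟶ Y) [IsMonHom f] [IsFinite f.left] [Surjective f.left]
    [Etale f.left] (ψ : X ⟶ Z) [IsMonHom ψ] (h : ∀ P : SGA7.pt Ω ⟶ X, P ≫ f = 1 → P ≫ ψ = 1) :
    ∃ ρ : Y ⟶ Z, IsMonHom ρ ∧ f ≫ ρ = ψ := by
  have hcov : FpqcDescLib.Covers f.left :=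
    GrpSchLib.LiftLaw.covers_of_flat_qc_or_lfp f.left (Or.inl inferInstance)
  haveI : Epi f := hcov.over_epi
  obtain ⟨N, _, i, hi, hicl, -, hk⟩ := GrpSchLib.exists_kernel f
  haveI := hi
  have hsq : IsPullback i.left N.hom f.left (η[Y]).left := hk.map (Over.forget _)
  haveI : IsFinite N.hom := MorphismProperty.of_isPullback (P := @IsFinite) hsq inferInstance
  haveI : Etale N.hom := MorphismProperty.of_isPullback (P := @Etale) hsq inferInstance
  have hN : i ≫ ψ = 1 := by
    refine ext_of_finite_etale_pt Ω _ _ fun a => ?_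
    rw [← Category.assoc, MonObj.comp_one]
    refine h _ ?_
    rw [Category.assoc, hk.w, ← Category.assoc, toUnit_unique (a ≫ toUnit N) (toUnit _), Hom.one_def]
  have hkill : ∀ (T : Over _) (a b : T ⟶ X), a ≫ f = b ≫ f → a ≫ ψ = b ≫ ψ := by
    intro T a b hab
    have h1 : (a * b⁻¹) ≫ f = toUnit T ≫ η[Y] := by
      rw [MonObj.mul_comp, GrpObj.inv_comp, hab, mul_inv_cancel]
      rfl
    have h3 : (a * b⁻¹) ≫ ψ = 1 := by
      rw [← hk.lift_fst (a * b⁻¹) (toUnit T) h1, Category.assoc, hN, MonObj.comp_one]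
    rwa [MonObj.mul_comp, GrpObj.inv_comp, mul_inv_eq_one] at h3
  obtain ⟨ρ, hρ, -⟩ := hcov.over_desc ψ hkill
  refine ⟨ρ, ⟨?_, ?_⟩, hρ⟩
  · rw [← IsMonHom.one_hom (f := f), Category.assoc, hρ, IsMonHom.one_hom]
  · haveI : Epi (f ⊗ₘ f) := by
      haveI : Epi (f ⊗ₘ f).left := by
        have hm : ∀ {P : MorphismProperty Scheme.{u}} [P.IsStableUnderBaseChange] [P.IsStableUnderComposition],
            P f.left → P (f ⊗ₘ f).left := fun {P} _ _ hf => by
          rw [Over.tensorHom_left]
          exact MorphismProperty.pullbackMap hf hf (Over.w f).symm (Over.w f).symm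
        haveI : Flat (f ⊗ₘ f).left := hm (P := @Flat) inferInstance
        haveI : Surjective (f ⊗ₘ f).left := hm (P := @Surjective) inferInstance
        haveI : QuasiCompact (f ⊗ₘ f).left := hm (P := @QuasiCompact) inferInstance
        exact Flat.epi_of_flat_of_surjective _
      exact Over.epi_of_epi_left _
    rw [← cancel_epi (f ⊗ₘ f), ← Category.assoc, ← IsMonHom.mul_hom, Category.assoc, hρ,
      IsMonHom.mul_hom (f := ψ), tensorHom_comp_tensorHom_assoc, hρ]

end Groth.Agent.AVTors
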