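import Groth.Agent.AVTors.IsogPts
import Groth.Agent.AVDegLib.Pull
import Groth.Agent.AVDegLib.MulN
import Groth.Agent.S7790
import Groth.Agent.S19572
import Groth.Agent.GrpSchLib.KernelGrp

/-!
The number of kernel points of an isogeny and its degree have the same `l`-part.
-/

set_option autoImplicit false
set_option linter.style.haveILetI false
set_option linter.unusedSectionVars false
set_option backward.isDefEq.respectTransparency false
set_option backward.isDefEq.respectTransparency.types false
set_option maxHeartbeats 1000000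

noncomputable section

universe u

open CategoryTheory CategoryTheory.Limits MonoidalCategory CartesianMonoidalCategory MonObj AlgebraicGeometry

namespace Groth.Agent.AVTors

variable {k : Type u} [Field k]

section comp

variable {A B C : Over (Spec (CommRingCat.of k))} [IsIntegral A.left] [IsIntegral B.left] [IsIntegral C.left]
  (f : A ⟶ B) [IsFinite f.left] [Surjective f.left] [Flat f.left] [LocallyOfFinitePresentation f.left]
  (g : B ⟶ C) [IsFinite g.left] [Surjective g.left] [Flat g.left] [LocallyOfFinitePresentation g.left]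

/-- Degrees multiply. -/
theorem finrank_comp_eq (a : B.left) (c : C.left) :
    Scheme.Hom.finrank (f ≫ g).left c = Scheme.Hom.finrank f.left a * Scheme.Hom.finrank g.left c := by
  haveI : IsFinite (f ≫ g).left := by rw [Over.comp_left]; infer_instance
  haveI : Surjective (f ≫ g).left := by rw [Over.comp_left]; infer_instance
  haveI : Flat (f ≫ g).left := by rw [Over.comp_left]; infer_instance
  haveI : LocallyOfFinitePresentation (f ≫ g).left := by rw [Over.comp_left]; infer_instance
  rw [AVDegLib.finrank_eq (f ≫ g) c, AVDegLib.finrank_eq f a, AVDegLib.finrank_eq g c, mul_comm]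
  letI := AVDegLib.ffExt f
  letI := AVDegLib.ffExt g
  letI hfg := AVDegLib.ffExt (f ≫ g)
  haveI : IsScalarTower C.left.functionField B.left.functionField A.left.functionField :=
    IsScalarTower.of_algebraMap_eq fun x => by
      obtain ⟨U, hU, hη, -⟩ := exists_isAffineOpen_mem_and_subset (x := genericPoint C.left) (U := ⊤) trivial
      obtain ⟨a', ha', b', hb', -, rfl⟩ := AVDegLib.frac_sect hU hη x
      have key : ∀ y ∈ AVDegLib.sect C U, AVDegLib.ffMap (f ≫ g) y = AVDegLib.ffMap f (AVDegLib.ffMap g y) := by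
        intro y hy
        obtain ⟨t, rfl⟩ := hy hη
        rw [AVDegLib.ffMap_gm (f ≫ g) hη, AVDegLib.ffMap_gm g hη,
          AVDegLib.ffMap_gm f (AVDegLib.eta_preimage g hη)]
        rfl
      show AVDegLib.ffMap (f ≫ g) (a' / b') = AVDegLib.ffMap f (AVDegLib.ffMap g (a' / b'))
      rw [map_div₀, map_div₀, map_div₀, key a' ha', key b' hb']
  exact (Module.finrank_mul_finrank C.left.functionField B.left.functionField A.left.functionField).symm

end comp

section translate

/-- If the automorphisms permute the points transitively, the number of points divides the rank. -/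
theorem natCard_dvd_finrank {W : Scheme.{u}} (q : W ⟶ Spec (CommRingCat.of k)) [IsFinite q] [Flat q]
    (htr : ∀ a b : W, ∃ t : W ⟶ W, IsIso t ∧ t ≫ q = q ∧ t a = b) (x : Spec (CommRingCat.of k)) :
    Nat.card W ∣ q.finrank x := by
  have : IsAffine W := isAffine_of_isAffineHom q
  obtain ⟨φ, hφ⟩ := Spec.map_surjective (W.isoSpec.inv ≫ q)
  let C := Γ(W, ⊤)
  letI : Algebra k C := φ.hom.toAlgebra
  have h1 : IsFinite (Spec.map φ) := by rw [hφ]; infer_instance
  rw [IsFinite.SpecMap_iff] at h1
  haveI : Module.Finite k C := h1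
  haveI : IsArtinianRing C := IsArtinianRing.of_finite k C
  have hrk : q.finrank x = Module.finrank k C := by
    rw [← Scheme.Hom.finrank_comp_left_of_isIso W.isoSpec.inv q, ← hφ]
    refine (Scheme.Hom.finrank_SpecMap_algebraMap k C x).trans ?_
    rw [Module.rankAtStalk_eq_finrank_of_free]
    rfl
  have hW : Nat.card W = Nat.card (PrimeSpectrum C) := Nat.card_congr W.isoSpec.hom.homeomorph.toEquiv
  have := Fintype.ofFinite (PrimeSpectrum C)
  rcases isEmpty_or_nonempty (PrimeSpectrum C) with hem | ⟨⟨p₀⟩⟩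
  · rw [hrk, IsArtinianRing.finrank_eq_sum_primeSpectrum, Finset.univ_eq_empty, Finset.sum_empty]
    exact dvd_zero _
  rw [hrk, hW, IsArtinianRing.finrank_eq_sum_primeSpectrum, Nat.card_eq_fintype_card,
    Finset.sum_eq_card_nsmul (b := Module.finrank k (Localization.AtPrime p₀.asIdeal)) fun p _ => ?_]
  · exact Dvd.intro _ (smul_eq_mul _ _).symm
  obtain ⟨t, ht, htq, htp⟩ := htr (W.isoSpec.inv p) (W.isoSpec.inv p₀)
  obtain ⟨ψ, hψ⟩ := Spec.map_surjective (W.isoSpec.inv ≫ t ≫ W.isoSpec.hom)
  haveI : IsIso (Spec.map ψ) := by rw [hψ]; infer_instance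
  haveI : IsIso ψ := by
    haveI : IsIso (Scheme.Spec.map ψ.op) := by simpa using ‹IsIso (Spec.map ψ)›
    exact (isIso_op_iff _).1 (isIso_of_fully_faithful Scheme.Spec ψ.op)
  have hcomm : φ ≫ ψ = φ := Spec.map_injective (by
    rw [Spec.map_comp, hψ, hφ]
    simp only [Category.assoc, Iso.hom_inv_id_assoc, htq])
  let σ : C ≃ₐ[k] C := AlgEquiv.ofRingEquiv (f := (asIso ψ).commRingCatIsoToRingEquiv)
    (fun r => congrArg (fun f => f.hom r) hcomm)
  have hp : p₀.asIdeal = p.asIdeal.comap (σ : C →+* C) := by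
    have h : (Spec.map ψ) p = p₀ := by
      rw [hψ, Scheme.Hom.comp_apply, Scheme.Hom.comp_apply, htp, ← Scheme.Hom.comp_apply, Iso.inv_hom_id]
      rfl
    rw [← h]
    rfl
  have hM : p₀.asIdeal.primeCompl.map (σ : C →* C) = p.asIdeal.primeCompl := by
    ext c
    simp only [Submonoid.mem_map, Ideal.mem_primeCompl_iff, hp, Ideal.mem_comap]
    exact ⟨fun ⟨y, hy, hyc⟩ => hyc ▸ hy, fun hc => ⟨σ.symm c, by simpa using hc, σ.apply_symm_apply c⟩⟩
  exact (IsLocalization.algEquivOfAlgEquiv (Localization.AtPrime p₀.asIdeal) (Localization.AtPrime p.asIdeal) σ hM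
    ).toLinearEquiv.finrank_eq.symm

end translate

section AV

variable {A B : Over (Spec (CommRingCat.of k))} [GrpObj A] [IsCommMonObj A] [IsProper A.hom]
  [GeometricallyIntegral A.hom] [GrpObj B] [IsCommMonObj B] [IsProper B.hom] [GeometricallyIntegral B.hom]
  [IsAlgClosed k]

theorem card_kerPts_dvd_finrank (f : A ⟶ B) [IsMonHom f] [IsFinite f.left] [Flat f.left] (y : B.left) :
    Nat.card (kerPts f k) ∣ Scheme.Hom.finrank f.left y := by
  haveI := H23.MaxAbelian.isIntegral_of_geometricallyIntegral (X := B)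
  haveI : IsLocallyNoetherian B.left := LocallyOfFiniteType.isLocallyNoetherian B.hom
  haveI : LocallyOfFinitePresentation f.left := inferInstance
  obtain ⟨N, _, i, hi, hicl, -, hk⟩ := GrpSchLib.exists_kernel f
  haveI := hi
  haveI : Mono i := Over.mono_of_mono_left i
  have hsq : IsPullback i.left N.hom f.left (η[B]).left := hk.map (Over.forget _)
  haveI : IsFinite N.hom := MorphismProperty.of_isPullback (P := @IsFinite) hsq inferInstance
  haveI : Flat N.hom := MorphismProperty.of_isPullback (P := @Flat) hsq inferInstance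
  have hr : Scheme.Hom.finrank f.left y = N.hom.finrank (IsLocalRing.closedPoint k) := by
    rw [Scheme.Hom.finrank_of_isPullback _ _ _ _ hsq]
    exact f.left.isLocallyConstant_finrank.apply_eq_of_preconnectedSpace _ _
  have hT : SGA7.pt (K := k) k = pt0 k := pt_self k
  have hcard : Nat.card (kerPts f k) = Nat.card N.left := by
    refine (Nat.card_congr (liftsEquiv f (1 : SGA7.pt (K := k) k ⟶ B))).trans ?_
    refine Nat.card_congr ((pullbackSymmetry (1 : SGA7.pt (K := k) k ⟶ B).left f.left).hom.homeomorph.toEquiv.trans ?_)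
    have h1 : (1 : SGA7.pt (K := k) k ⟶ B).left = η[B].left := by
      rw [Hom.one_def, Over.comp_left]
      show Spec.map (CommRingCat.ofHom (RingHom.id k)) ≫ _ = _
      rw [show CommRingCat.ofHom (RingHom.id k) = 𝟙 (CommRingCat.of k) from rfl, Spec.map_id]
      exact Category.id_comp _
    exact (pullback.congrHom rfl h1).hom.homeomorph.toEquiv.trans hsq.isoPullback.inv.homeomorph.toEquiv
  rw [hr, hcard]
  refine natCard_dvd_finrank N.hom (fun a b => ?_) _
  obtain ⟨⟨pa, hpa⟩, ha⟩ := (sectEquiv N.hom).surjective a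
  obtain ⟨⟨pb, hpb⟩, hb⟩ := (sectEquiv N.hom).surjective b
  let xa : 𝟙_ (Over (Spec (CommRingCat.of k))) ⟶ N := Over.homMk pa hpa
  let xb : 𝟙_ (Over (Spec (CommRingCat.of k))) ⟶ N := Over.homMk pb hpb
  let c : 𝟙_ (Over (Spec (CommRingCat.of k))) ⟶ N := xa⁻¹ * xb
  let t : N ⟶ N := 𝟙 N * (toUnit N ≫ c)
  let t' : N ⟶ N := 𝟙 N * (toUnit N ≫ c⁻¹)
  have hcomp : ∀ d d' : 𝟙_ (Over (Spec (CommRingCat.of k))) ⟶ N,
      (𝟙 N * (toUnit N ≫ d)) ≫ (𝟙 N * (toUnit N ≫ d')) = 𝟙 N * (toUnit N ≫ (d * d')) := fun d d' => by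
    rw [MonObj.comp_mul, Category.comp_id, ← Category.assoc, comp_toUnit, MonObj.comp_mul, _root_.mul_assoc]
  haveI : IsIso t := ⟨t', by rw [hcomp, mul_inv_cancel, MonObj.comp_one, _root_.mul_one],
    by rw [hcomp, inv_mul_cancel, MonObj.comp_one, _root_.mul_one]⟩
  haveI : IsIso t.left := inferInstanceAs (IsIso ((Over.forget _).map t))
  refine ⟨t.left, inferInstance, Over.w t, ?_⟩
  have hxa : xa.left (IsLocalRing.closedPoint k) = a := by rw [← ha]; simp [xa, sectEquiv]
  have hxb : xb.left (IsLocalRing.closedPoint k) = b := by rw [← hb]; simp [xb, sectEquiv]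
  have hxt : xa ≫ t = xb := by
    rw [MonObj.comp_mul, Category.comp_id, ← Category.assoc, comp_toUnit,
      toUnit_unique (toUnit _) (𝟙 _), Category.id_comp]
    exact mul_inv_cancel_left xa xb
  rw [← hxa, ← hxb, ← Scheme.Hom.comp_apply, ← Over.comp_left, hxt]

theorem card_kerPts_comp {C : Over (Spec (CommRingCat.of k))} [GrpObj C] [IsCommMonObj C]
    (f : A ⟶ B) [IsMonHom f] [IsFinite f.left] [Surjective f.left] (g : B ⟶ C) [IsMonHom g] [IsFinite g.left] :
    Nat.card (kerPts (f ≫ g) k) = Nat.card (kerPts f k) * Nat.card (kerPts g k) := by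
  haveI : IsFinite (f ≫ g).left := by rw [Over.comp_left]; infer_instance
  haveI := finite_kerPts (Ω := k) (f ≫ g)
  let c : kerPts (f ≫ g) k →* kerPts g k :=
    MonoidHom.mk' (fun x => ⟨x.1 ≫ f, (Category.assoc _ _ _).trans x.2⟩)
      fun x y => Subtype.ext (MonObj.mul_comp x.1 y.1 f)
  have hc : Function.Surjective c := fun y => by
    obtain ⟨x, hx⟩ := exists_lift f y.1
    exact ⟨⟨x, show x ≫ f ≫ g = 1 by rw [← Category.assoc, hx]; exact y.2⟩, Subtype.ext hx⟩
  rw [Subgroup.card_eq_card_quotient_mul_card_subgroup c.ker,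
    Nat.card_congr (QuotientGroup.quotientKerEquivOfSurjective c hc).toEquiv, mul_comm]
  congr 1
  refine Nat.card_congr
    { toFun := fun x => ⟨x.1.1, congrArg Subtype.val x.2⟩
      invFun := fun x => ⟨⟨x.1, show x.1 ≫ f ≫ g = 1 by
        rw [← Category.assoc, show x.1 ≫ f = 1 from x.2, MonObj.one_comp]⟩, Subtype.ext x.2⟩
      left_inv := fun x => rfl
      right_inv := fun x => rfl }

theorem padicValNat_le_of_dvd {p : ℕ} [Fact p.Prime] {a b : ℕ} (hb : b ≠ 0) (h : a ∣ b) :
    padicValNat p a ≤ padicValNat p b :=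
  (padicValNat_dvd_iff_le hb).1 (pow_padicValNat_dvd.trans h)

/-- The `l`-part of the degree is the `l`-part of the number of points of the kernel. -/
theorem padicValNat_finrank {r : ℕ} (hA : topologicalKrullDim A.left = r) (f : A ⟶ B) [IsMonHom f]
    [IsFinite f.left] [Flat f.left] [Surjective f.left] (l : ℕ) [Fact l.Prime] (hl : (l : k) ≠ 0) (y : B.left) :
    padicValNat l (Scheme.Hom.finrank f.left y) = padicValNat l (Nat.card (kerPts f k)) := by
  haveI := H23.MaxAbelian.isIntegral_of_geometricallyIntegral (X := A)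
  haveI := H23.MaxAbelian.isIntegral_of_geometricallyIntegral (X := B)
  haveI : GeometricallyConnected A.hom := H23.CubeAb.geometricallyConnected_of_integral A.hom
  haveI : GeometricallyConnected B.hom := H23.CubeAb.geometricallyConnected_of_integral B.hom
  haveI : GeometricallyReduced A.hom := inferInstance
  haveI : GeometricallyReduced B.hom := inferInstance
  haveI : LocallyOfFinitePresentation f.left := by
    haveI : IsLocallyNoetherian B.left := LocallyOfFiniteType.isLocallyNoetherian B.hom
    infer_instance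
  have hconst : ∀ z, Scheme.Hom.finrank f.left z = Scheme.Hom.finrank f.left y :=
    fun z => f.left.isLocallyConstant_finrank.apply_eq_of_preconnectedSpace _ _
  let d := Scheme.Hom.finrank f.left y
  have hd : 1 ≤ d := ((Scheme.Hom.one_le_finrank_iff_surjective (f := f.left)).2 inferInstance) y
  obtain ⟨⟨g, ⟨hgm, hfg⟩, -⟩, hall⟩ := S7790.result A B f d hd fun s => hconst _
  obtain ⟨-, hgfin, hgfl, hgsur⟩ := hall g hgm hfg
  haveI := hgm
  haveI := hgfin
  haveI := hgfl
  haveI := hgsur
  haveI : LocallyOfFinitePresentation g.left := by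
    haveI : IsLocallyNoetherian A.left := LocallyOfFiniteType.isLocallyNoetherian A.hom
    infer_instance
  let e := Scheme.Hom.finrank g.left (η[A].left (IsLocalRing.closedPoint k))
  have hde : d * e = d ^ (2 * r) := by
    have h := finrank_comp_eq f g y (η[A].left (IsLocalRing.closedPoint k))
    rw [hfg, ← zpow_natCast, AVDegLib.finrank_zpow hA (d : ℤ) (by exact_mod_cast (by omega : d ≠ 0)),
      Int.natAbs_natCast] at h
    exact h.symm
  have hm : padicValNat l (Nat.card (kerPts f k) * Nat.card (kerPts g k)) = padicValNat l (d ^ (2 * r)) := by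
    have hfg' : Nat.card (kerPts (f ≫ g) k) = Nat.card {x : SGA7.pt (K := k) k ⟶ A // x ≫ (𝟙 A ^ d) = 1} :=
      Nat.card_congr (Equiv.subtypeEquivRight fun x => by
        show x ≫ f ≫ g = 1 ↔ _
        rw [hfg])
    rw [← card_kerPts_comp f g, hfg']
    have hp : (Fact.out : l.Prime).pos.ne' = (Fact.out : l.Prime).pos.ne' := rfl
    obtain ⟨a, u, hu, hdu⟩ := Nat.exists_eq_pow_mul_and_not_dvd (by omega : d ≠ 0) l (Fact.out : l.Prime).ne_one
    obtain ⟨-, -, hcard⟩ := finite_torsPts_pt k A hA (l ^ a) (pow_pos (Fact.out : l.Prime).pos a)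
    obtain ⟨-, -, hA'⟩ := card_torsPts_le (A := A) hA d (by omega)
    have hker : Nat.card {x : SGA7.pt (K := k) k ⟶ A // x ≫ (𝟙 A ^ d) = 1} = Nat.card (AbDual.torsPts A d (pt0 k)) := by
      have key : ∀ T', T' = SGA7.pt (K := k) k →
          Nat.card {x : T' ⟶ A // x ≫ (𝟙 A ^ d) = 1} = Nat.card (AbDual.torsPts A d T') := fun T' _ =>
        Nat.card_congr (Equiv.subtypeEquivRight fun x => by
          rw [MonObj.comp_pow, Category.comp_id]; rfl)
      exact (key _ rfl).trans (by rw [pt_self k])
    rw [hker]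
    have hdvd := card_dvd (A := A) hA d (by omega)
    refine le_antisymm ?_ ?_
    · exact padicValNat_le_of_dvd (pow_ne_zero _ (by omega)) hdvd
    · haveI := (card_torsPts_le (A := A) hA d (by omega)).1
      have hla : ((l ^ a : ℕ) : k) ≠ 0 := by rw [Nat.cast_pow]; exact pow_ne_zero _ hl
      have hsub : AbDual.torsPts A (l ^ a) (pt0 k) ≤ AbDual.torsPts A d (pt0 k) := fun x hx => by
        show x ^ d = 1
        rw [hdu, pow_mul, show x ^ (l ^ a) = 1 from hx, one_pow]
      have h2 := Subgroup.card_dvd_of_le hsub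
      rw [(card_torsPts_le (A := A) hA (l ^ a) (pow_pos (Fact.out : l.Prime).pos a)).2.2 hla] at h2
      refine le_trans ?_ (padicValNat_le_of_dvd Nat.card_pos.ne' h2)
      rw [hdu, mul_pow, padicValNat.mul (pow_ne_zero _ (pow_ne_zero _ (Fact.out : l.Prime).ne_zero))
        (pow_ne_zero _ (fun h0 => hu (by rw [h0]; exact dvd_zero l))), padicValNat.eq_zero_of_not_dvd
        (fun h => hu ((Fact.out : l.Prime).dvd_of_dvd_pow h)), add_zero]
  haveI := finite_kerPts (Ω := k) f
  haveI := finite_kerPts (Ω := k) g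
  have h1 : Nat.card (kerPts f k) ∣ d := card_kerPts_dvd_finrank f y
  have h2 : Nat.card (kerPts g k) ∣ e := card_kerPts_dvd_finrank g _
  have hd0 : d ≠ 0 := by omega
  have he0 : e ≠ 0 := fun h => by rw [h, Nat.mul_zero] at hde; exact pow_ne_zero _ hd0 hde.symm
  have h1' := padicValNat_le_of_dvd (p := l) hd0 h1
  have h2' := padicValNat_le_of_dvd (p := l) he0 h2
  rw [← hde, padicValNat.mul hd0 he0, padicValNat.mul Nat.card_pos.ne' Nat.card_pos.ne'] at hm
  show padicValNat l d = _
  omega

end AV

end Groth.Agent.AVTors
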