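import Groth.Agent.AVTors.Group
import Groth.Agent.AVDegLib.MulN
import Groth.Agent.EtaleCount.Basic
import Groth.Agent.H23.TorsRed
import Groth.Agent.H23.CubeAb
import Groth.Agent.S1843
import Groth.Prelude.Def_AbDual
import Mathlib.AlgebraicGeometry.AlgClosed.Basic
import Mathlib.RingTheory.Artinian.Module
import Mathlib.RingTheory.TensorProduct.Free
import Mathlib.LinearAlgebra.Dimension.Localization

/-!
Torsion points of an abelian variety over an algebraically closed field.
-/

set_option autoImplicit false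
set_option linter.style.haveILetI false
set_option backward.isDefEq.respectTransparency false
set_option backward.isDefEq.respectTransparency.types false
set_option maxHeartbeats 1000000

universe u

open CategoryTheory CategoryTheory.Limits MonoidalCategory CartesianMonoidalCategory MonObj AlgebraicGeometry

namespace Groth.Agent.AVTors

section FiniteOverField

variable {k : Type u} [Field k] {W : Scheme.{u}} (q : W ⟶ Spec (CommRingCat.of k)) [IsFinite q]

include q in
theorem isClosed_point (w : W) : IsClosed ({w} : Set W) := by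
  have : IsAffine W := isAffine_of_isAffineHom q
  obtain ⟨φ, hφ⟩ := Spec.map_surjective (W.isoSpec.inv ≫ q)
  letI : Algebra k Γ(W, ⊤) := φ.hom.toAlgebra
  have h1 : IsFinite (Spec.map φ) := by rw [hφ]; infer_instance
  rw [IsFinite.SpecMap_iff] at h1
  haveI : Module.Finite k Γ(W, ⊤) := h1
  haveI : IsArtinianRing Γ(W, ⊤) := IsArtinianRing.of_finite k _
  haveI : DiscreteTopology (Spec Γ(W, ⊤)) := inferInstanceAs (DiscreteTopology (PrimeSpectrum Γ(W, ⊤)))
  haveI : DiscreteTopology W := W.isoSpec.hom.homeomorph.symm.discreteTopology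
  exact isClosed_discrete _

theorem natCard_le (x : Spec (CommRingCat.of k)) [Flat q] : Finite W ∧ Nat.card W ≤ q.finrank x ∧
    (IsAlgClosed k → Etale q → Nat.card W = q.finrank x) := by
  have : IsAffine W := isAffine_of_isAffineHom q
  obtain ⟨φ, hφ⟩ := Spec.map_surjective (W.isoSpec.inv ≫ q)
  let C := Γ(W, ⊤)
  letI : Algebra k C := φ.hom.toAlgebra
  have h1 : IsFinite (Spec.map φ) := by rw [hφ]; infer_instance
  rw [IsFinite.SpecMap_iff] at h1
  haveI : Module.Finite k C := h1
  haveI : IsArtinianRing C := IsArtinianRing.of_finite k C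
  have hrk : q.finrank x = Module.finrank k C := by
    rw [← Scheme.Hom.finrank_comp_left_of_isIso W.isoSpec.inv q, ← hφ]
    refine (Scheme.Hom.finrank_SpecMap_algebraMap k C x).trans ?_
    rw [Module.rankAtStalk_eq_finrank_of_free]
    rfl
  have hW : Nat.card W = Nat.card (PrimeSpectrum C) := Nat.card_congr W.isoSpec.hom.homeomorph.toEquiv
  haveI : Finite W := Finite.of_equiv (PrimeSpectrum C) W.isoSpec.hom.homeomorph.toEquiv.symm
  refine ⟨inferInstance, ?_, fun hk he => ?_⟩
  · rw [hrk, hW]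
    have := Fintype.ofFinite (PrimeSpectrum C)
    rw [IsArtinianRing.finrank_eq_sum_primeSpectrum, Nat.card_eq_fintype_card, Fintype.card_eq_sum_ones]
    refine Finset.sum_le_sum fun p _ => ?_
    haveI : Module.Finite k (Localization.AtPrime p.asIdeal) :=
      Module.Finite.of_surjective (Algebra.algHom k C (Localization.AtPrime p.asIdeal)).toLinearMap
        (IsArtinianRing.localization_surjective p.asIdeal.primeCompl (Localization.AtPrime p.asIdeal))
    exact Module.finrank_pos
  · have h2 : Etale (Spec.map φ) := by rw [hφ]; infer_instance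
    rw [HasRingHomProperty.Spec_iff (P := @Etale)] at h2
    haveI : Algebra.Etale k C := h2
    rw [hrk, hW]
    exact EtaleCount.card_primeSpectrum k C

/-- Over an algebraically closed field every point is the image of exactly one section. -/
noncomputable def sectEquiv [IsAlgClosed k] : {p : Spec (CommRingCat.of k) ⟶ W // p ≫ q = 𝟙 _} ≃ W :=
  (pointEquivClosedPoint q).trans (Equiv.subtypeUnivEquiv (fun w => isClosed_point q w))

end FiniteOverField

section AV

variable {k : Type u} [Field k] [IsAlgClosed k] {A : Over (Spec (CommRingCat.of k))} [GrpObj A]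
  [IsProper A.hom] [GeometricallyIntegral A.hom]

/-- The `k`-points. -/
noncomputable abbrev pt0 (k : Type u) [Field k] : Over (Spec (CommRingCat.of k)) := Over.mk (𝟙 (Spec (CommRingCat.of k)))

variable (A) in
theorem tors_props (n : ℕ) (hn : 0 < n) :
    IsFinite (pullback.fst (η[A]).left (𝟙 A ^ n : A ⟶ A).left) ∧
      Flat (pullback.fst (η[A]).left (𝟙 A ^ n : A ⟶ A).left) ∧
      ((n : k) ≠ 0 → Etale (pullback.fst (η[A]).left (𝟙 A ^ n : A ⟶ A).left)) := by
  obtain ⟨h1, h2, -⟩ := AVDegLib.zpow_props (A := A) (n : ℤ) (by exact_mod_cast hn.ne')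
  rw [zpow_natCast] at h1 h2
  refine ⟨MorphismProperty.pullback_fst (P := @IsFinite) _ _ h1,
    MorphismProperty.pullback_fst (P := @Flat) _ _ h2, fun hnk => ?_⟩
  refine MorphismProperty.pullback_fst (P := @Etale) _ _ ?_
  have hu : IsUnit ((n : ℤ) : Γ(Spec (CommRingCat.of k), ⊤)) := by
    have h := (isUnit_iff_ne_zero.2 hnk).map (Scheme.ΓSpecIso (CommRingCat.of k)).inv.hom
    rw [map_natCast] at h
    simpa using h
  haveI : GeometricallyConnected A.hom := H23.CubeAb.geometricallyConnected_of_integral A.hom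
  haveI : LocallyOfFinitePresentation A.hom := inferInstance
  have := H23.MulEtale.etale_zpow (X := A) (n : ℤ) hu
  rwa [zpow_natCast] at this

variable [IsCommMonObj A]

theorem card_torsPts_eq (n : ℕ) (hn : 0 < n) :
    Nat.card (AbDual.torsPts A n (pt0 k)) = Nat.card (H23.TorsRed.tors A n) := by
  haveI := (tors_props A n hn).1
  exact Nat.card_congr ((H23.TorsRed.ptsEquiv A n (pt0 k)).trans (sectEquiv _))

theorem card_torsPts_le {g : ℕ} (hg : topologicalKrullDim A.left = g) (n : ℕ) (hn : 0 < n) :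
    Finite (AbDual.torsPts A n (pt0 k)) ∧ Nat.card (AbDual.torsPts A n (pt0 k)) ≤ n ^ (2 * g) ∧
      ((n : k) ≠ 0 → Nat.card (AbDual.torsPts A n (pt0 k)) = n ^ (2 * g)) := by
  haveI := (tors_props A n hn).1
  haveI := (tors_props A n hn).2.1
  obtain ⟨h1, h2, h3⟩ := natCard_le (pullback.fst (η[A]).left (𝟙 A ^ n : A ⟶ A).left) (IsLocalRing.closedPoint k)
  have hr : Scheme.Hom.finrank (pullback.fst (η[A]).left (𝟙 A ^ n : A ⟶ A).left) (IsLocalRing.closedPoint k) = n ^ (2 * g) := by
    obtain ⟨hf, hfl, -⟩ := AVDegLib.zpow_props (A := A) (n : ℤ) (by exact_mod_cast hn.ne')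
    have h := AVDegLib.finrank_zpow (A := A) hg (n : ℤ) (by exact_mod_cast hn.ne') (η[A].left (IsLocalRing.closedPoint k))
    rw [zpow_natCast] at hf hfl h
    rw [Int.natAbs_natCast] at h
    exact (Scheme.Hom.finrank_pullback_fst (𝟙 A ^ n : A ⟶ A).left (η[A]).left _).trans h
  rw [hr] at h2 h3
  refine ⟨?_, by rw [card_torsPts_eq n hn]; exact h2, fun hnk => ?_⟩
  · exact Finite.of_equiv _ ((H23.TorsRed.ptsEquiv A n (pt0 k)).trans (sectEquiv _)).symm
  · rw [card_torsPts_eq n hn]; exact h3 inferInstance ((tors_props A n hn).2.2 hnk)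

theorem exists_root (n : ℕ) (hn : 0 < n) (a : pt0 k ⟶ A) : ∃ b : pt0 k ⟶ A, b ^ n = a := by
  obtain ⟨h1, -, h3⟩ := AVDegLib.zpow_props (A := A) (n : ℤ) (by exact_mod_cast hn.ne')
  rw [zpow_natCast] at h1 h3
  let q := pullback.fst a.left (𝟙 A ^ n : A ⟶ A).left
  haveI : IsFinite q := MorphismProperty.pullback_fst (P := @IsFinite) _ _ h1
  haveI : Surjective q := MorphismProperty.pullback_fst (P := @Surjective) _ _ h3
  obtain ⟨w, -⟩ := q.surjective (IsLocalRing.closedPoint k)
  obtain ⟨⟨p, hp⟩, -⟩ := (sectEquiv q).surjective w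
  refine ⟨Over.homMk (p ≫ pullback.snd _ _) ?_, ?_⟩
  · show (p ≫ pullback.snd _ _) ≫ A.hom = 𝟙 _
    rw [Category.assoc, ← Over.w (𝟙 A ^ n : A ⟶ A), ← pullback.condition_assoc, Over.w a]
    exact (congrArg (p ≫ ·) (Category.comp_id _)).trans hp
  · have hb : ∀ b : pt0 k ⟶ A, b ^ n = b ≫ (𝟙 A ^ n) := fun b => by rw [MonObj.comp_pow, Category.comp_id]
    refine (hb _).trans (Over.OverMorphism.ext ?_)
    show (p ≫ pullback.snd _ _) ≫ _ = _
    rw [Category.assoc, ← pullback.condition, ← Category.assoc, hp]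
    exact Category.id_comp _

/-- In characteristic `p` the `p`-torsion is small. -/
theorem card_torsPts_char_le {g : ℕ} (hg : topologicalKrullDim A.left = g) (p : ℕ) [Fact p.Prime] [CharP k p] :
    Nat.card (AbDual.torsPts A p (pt0 k)) ≤ p ^ g := by
  have hp : 0 < p := (Fact.out : p.Prime).pos
  haveI := (tors_props A p hp).1
  haveI : IsClosedImmersion η[A].left := by
    have h : η[A].left ≫ A.hom = 𝟙 _ := Over.w η[A]
    haveI : IsClosedImmersion (η[A].left ≫ A.hom) := by rw [h]; infer_instance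
    exact IsClosedImmersion.of_comp η[A].left A.hom
  rw [card_torsPts_eq p hp]
  have h := S1843.result k p A g hg
  let S := {a : A.left | (𝟙 A ^ p : A ⟶ A).left a = η[A].left (IsLocalRing.closedPoint k)}
  have hS : S.Finite := Set.finite_of_encard_le_coe h
  let sn := pullback.snd (η[A]).left (𝟙 A ^ p : A ⟶ A).left
  haveI : IsClosedImmersion sn := MorphismProperty.pullback_snd (P := @IsClosedImmersion) _ _ inferInstance
  have hmem : ∀ w, sn w ∈ S := fun w => by
    show (𝟙 A ^ p : A ⟶ A).left (sn w) = _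
    rw [← Scheme.Hom.comp_apply, ← pullback.condition, Scheme.Hom.comp_apply]
    exact congrArg _ (Subsingleton.elim (α := PrimeSpectrum k) _ _)
  haveI := hS.to_subtype
  refine le_trans (Nat.card_le_card_of_injective (fun w => (⟨sn w, hmem w⟩ : S))
    fun a b hab => sn.isClosedEmbedding.injective (congrArg Subtype.val hab)) ?_
  rw [Nat.card_coe_set_eq]
  have := hS.cast_ncard_eq
  exact_mod_cast this.le.trans h

variable {g : ℕ} (hg : topologicalKrullDim A.left = g)

include hg in
theorem card_dvd (n : ℕ) (hn : 0 < n) : Nat.card (AbDual.torsPts A n (pt0 k)) ∣ n ^ (2 * g) :=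
  card_pker_dvd (2 * g) (fun m hm y => exists_root m hm y)
    (fun q hq => ⟨(card_torsPts_le hg q hq.pos).1, (card_torsPts_le hg q hq.pos).2.1⟩) n hn

include hg in
theorem card_eq_iff (hg0 : 0 < g) (n : ℕ) (hn : 0 < n) :
    Nat.card (AbDual.torsPts A n (pt0 k)) = n ^ (2 * g) ↔ (n : k) ≠ 0 := by
  refine ⟨fun h hnk => ?_, (card_torsPts_le hg n hn).2.2⟩
  obtain ⟨p, hp⟩ := CharP.exists k
  have hp' : p.Prime := (CharP.char_is_prime_or_zero k p).resolve_right fun h0 => by
    subst h0
    haveI := CharP.charP_to_charZero k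
    exact hn.ne' (Nat.cast_eq_zero.1 hnk)
  haveI := Fact.mk hp'
  obtain ⟨m, rfl⟩ := (CharP.cast_eq_zero_iff k p n).1 hnk
  have hm : 0 < m := Nat.pos_of_mul_pos_left hn
  have h' : Nat.card (pker (pt0 k ⟶ A) (p * m)) = (p * m) ^ (2 * g) := h
  rw [card_pker_mul p m (fun y => exists_root p hp'.pos y), mul_pow] at h'
  have h1 : Nat.card (pker (pt0 k ⟶ A) p) ≤ p ^ g := card_torsPts_char_le hg p
  have h2 : Nat.card (pker (pt0 k ⟶ A) m) ≤ m ^ (2 * g) :=
    Nat.le_of_dvd (pow_pos hm _) (card_dvd hg m hm)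
  have h3 : p ^ g < p ^ (2 * g) := Nat.pow_lt_pow_right hp'.one_lt (by omega)
  have := Nat.mul_le_mul h1 h2
  have h4 : p ^ g * m ^ (2 * g) < p ^ (2 * g) * m ^ (2 * g) := Nat.mul_lt_mul_of_pos_right h3 (pow_pos hm _)
  exact absurd (h' ▸ this) (not_le.2 h4)

include hg in
theorem nonempty_mulEquiv (n : ℕ) (hn : 0 < n) (hnk : (n : k) ≠ 0) :
    Nonempty (AbDual.torsPts A n (pt0 k) ≃* Multiplicative (Fin (2 * g) → ZMod n)) := by
  refine (nonempty_addEquiv.{u} (2 * g) n hn (Additive (AbDual.torsPts A n (pt0 k)))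
    (fun x => congrArg Additive.ofMul (Subtype.ext x.toMul.2 : x.toMul ^ n = 1)) (fun d hd => ?_)).map
    AddEquiv.toMultiplicativeRight
  · have hd0 : 0 < d := Nat.pos_of_dvd_of_pos hd hn
    have hdk : (d : k) ≠ 0 := fun h0 => hnk (by obtain ⟨c, rfl⟩ := hd; rw [Nat.cast_mul, h0, zero_mul])
    rw [← (card_torsPts_le hg d hd0).2.2 hdk]
    refine Nat.card_congr
      { toFun := fun x => ⟨x.1.toMul.1, congrArg Subtype.val (congrArg Additive.toMul x.2)⟩
        invFun := fun x => ⟨Additive.ofMul ⟨x.1, ?_⟩, congrArg Additive.ofMul (Subtype.ext x.2)⟩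
        left_inv := fun _ => rfl
        right_inv := fun _ => rfl }
    obtain ⟨c, rfl⟩ := hd
    show x.1 ^ (d * c) = 1
    rw [pow_mul, show x.1 ^ d = 1 from x.2, one_pow]

end AV

end Groth.Agent.AVTors
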