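import Groth.Agent.GrpSchLib.RadicialQuot
import Groth.Agent.GrpSchLib.SmoothQuot
import Groth.Agent.H23.MaxAbelian
import Groth.Agent.Lib.AVProj
import Groth.Agent.AmpleX.Basis
import Groth.Agent.S2324
import Groth.Agent.GrpSchLib.IsogenyFibre

/-! Quotients of abelian varieties by finite subgroups. -/

set_option autoImplicit false
set_option linter.style.haveILetI false
set_option backward.isDefEq.respectTransparency false
set_option backward.isDefEq.respectTransparency.types false
set_option maxHeartbeats 4000000
set_option synthInstance.maxHeartbeats 100000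

universe u

open CategoryTheory CategoryTheory.Limits MonoidalCategory CartesianMonoidalCategory MonObj AlgebraicGeometry

namespace Groth.Agent.AVTors.FiniteQuot

open GrpSchLib GrpSchLib.RadicialQuot GrpSchLib.GenQuot GrpObj

variable {k : Type u} [Field k] {G N : Over (Spec (CommRingCat.of k))} [GrpObj G] [GrpObj N]

/-- The quotient of an abelian variety by a finite normal subgroup. -/
theorem exists_quot [IsProper G.hom] [GeometricallyIntegral G.hom] (h : N ⟶ G) [IsMonHom h] [Mono h]
    [IsFinite N.hom] (hN : AlgGrp.IsNormalHom h) :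
    ∃ (Q : Over (Spec (CommRingCat.of k))) (_ : GrpObj Q) (q : G ⟶ Q), IsProper Q.hom ∧
      GeometricallyIntegral Q.hom ∧ IsMonHom q ∧ Surjective q.left ∧ Flat q.left ∧ AlgGrp.IsKernel h q := by
  let a := action h
  have hfree : ∀ (T : Over (Spec (CommRingCat.of k))) (n : T ⟶ N) (g : T ⟶ G), lift n g ≫ a.act = g →
      n = toUnit T ≫ η[N] := fun T n g e => by
    rw [lift_action, mul_eq_left, inv_eq_one] at e
    rw [← cancel_mono h, e, Category.assoc, IsMonHom.one_hom]
    exact Hom.one_def
  haveI : LocallyOfFinitePresentation N.hom := LocallyOfFinitePresentation.iff_locallyOfFiniteType.2 inferInstance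
  have hfl : Mor2.IsFinLocFree N.hom := ⟨inferInstance, inferInstance, inferInstance⟩
  have hs : Mor2.IsFinLocFree (AlgSpDec.ActGroupoid.gpd a).s :=
    ⟨MorphismProperty.pullback_snd (P := @IsFinite) _ _ hfl.1,
      MorphismProperty.pullback_snd (P := @Flat) _ _ hfl.2.1,
      MorphismProperty.pullback_snd (P := @LocallyOfFinitePresentation) _ _ hfl.2.2⟩
  have hclass : ∀ z : G.left, ∃ W : G.left.Opens, IsAffineOpen W ∧
      ∀ r : (N ⊗ G).left, (snd N G).left r = z → a.act.left r ∈ W := fun z => by
    haveI : CompactSpace G.left := QuasiCompact.compactSpace_of_compactSpace G.hom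
    haveI : IsSeparated (terminal.from G.left) := by
      rw [← terminalIsTerminal.hom_ext (G.hom ≫ terminal.from _) (terminal.from G.left)]; infer_instance
    haveI : G.left.IsSeparated := ⟨inferInstance⟩
    obtain ⟨L, hL⟩ := AVProj.exists_isAmple (X := G)
    haveI : IsFinite (snd N G).left := MorphismProperty.pullback_snd (P := @IsFinite) _ _ ‹IsFinite N.hom›
    obtain ⟨n, s, hT, -, hW⟩ := AmpleX.exists_finite_nhd hL
      (((snd N G).left.finite_preimage_singleton z).image a.act.left) (U := ⊤) (fun x _ => trivial)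
    exact ⟨_, hW, fun r hr => hT ⟨r, hr, rfl⟩⟩
  obtain ⟨Q, m, hm, hsurj, hpb, -⟩ := AlgSpDec.FinLocFreeQuot.exists_quotient (AlgSpDec.ActGroupoid.gpd a) hs
    (AlgSpDec.ActQuotient.isEqvRel a hfree)
    (fun Z _ ⟨z, hz⟩ => ⟨z, hz, hclass z⟩)
  let q : G ⟶ Q := m
  haveI : Surjective q.left := hsurj
  haveI : Flat q.left := hm.2.1
  haveI : LocallyOfFinitePresentation q.left := hm.2.2
  have sqL : IsPullback a.act.left (snd N G).left q.left q.left := hpb
  have sqA : IsPullback a.act (snd N G) q q :=
    IsPullback.of_map (Over.forget _) (Over.OverMorphism.ext sqL.w) sqL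
  let θ : G ⊗ N ≅ N ⊗ G :=
    { hom := lift (snd G N)⁻¹ (fst G N)
      inv := lift (snd N G) (fst N G)⁻¹
      hom_inv_id := by
        apply CartesianMonoidalCategory.hom_ext <;> simp [GrpObj.comp_inv]
      inv_hom_id := by
        apply CartesianMonoidalCategory.hom_ext <;> simp [GrpObj.comp_inv] }
  have sq : IsPullback (act h) (fst G N) q q := by
    refine sqA.of_iso θ.symm (Iso.refl _) (Iso.refl _) (Iso.refl _) ?_ ?_ (by simp) (by simp)
    · rw [Iso.refl_hom, Category.comp_id, comp_act, Iso.symm_hom]
      show _ = (lift (snd N G) (fst N G)⁻¹ ≫ fst G N) * (lift (snd N G) (fst N G)⁻¹ ≫ snd G N ≫ h)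
      rw [lift_fst, lift_snd_assoc, GrpObj.inv_comp]
      rfl
    · rw [Iso.refl_hom, Category.comp_id, Iso.symm_hom]
      exact (lift_fst _ _).symm
  have hq' : RedSub.IsQuotient h q := ⟨‹_›, ‹_›, ‹_›, sq.flip⟩
  obtain ⟨grp, hqm, -⟩ := S5236.result h hN q hq'
  haveI : LocallyOfFinitePresentation G.hom := LocallyOfFinitePresentation.iff_locallyOfFiniteType.2 inferInstance
  haveI : LocallyOfFinitePresentation (q.left ≫ Q.hom) := by rw [Over.w q]; infer_instance
  haveI : LocallyOfFinitePresentation Q.hom :=
    Groth.Agent.SrcDescent.locallyOfFinitePresentation_of_fppf_comp q.left Q.hom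
  haveI : CompactSpace ↥G.left := QuasiCompact.compactSpace_of_compactSpace G.hom
  haveI : CompactSpace ↥Q.left := q.left.surjective.compactSpace q.left.continuous
  have hqc : QuasiCompact Q.hom := HasAffineProperty.iff_of_isAffine.2 ‹_›
  haveI : IsSeparated Q.hom := AntiAffine.isSeparated_grp Q
  haveI : Smooth (q.left ≫ Q.hom) := by rw [Over.w q]; letI : GrpObj (Over.mk G.hom) := inferInstanceAs (GrpObj G); haveI : GeometricallyReduced G.hom := inferInstance; exact smooth_of_grpObj G.hom
  haveI : Smooth Q.hom := GrpSchLib.smooth_of_flat_surjective q.left Q.hom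
  haveI : UniversallyClosed Q.hom := by
    haveI : UniversallyClosed (q.left ≫ Q.hom) := by rw [Over.w q]; infer_instance
    exact UniversallyClosed.of_comp_surjective q.left Q.hom
  haveI : IsProper Q.hom := { }
  haveI : IsIntegral G.left := H23.MaxAbelian.isIntegral_of_geometricallyIntegral (X := G)
  haveI : ConnectedSpace Q.left := q.left.surjective.connectedSpace q.left.continuous
  haveI : GeometricallyReduced Q.hom := GrpSchLib.IsogenyFibre.geometricallyReduced_of_smooth' Q.hom
  refine ⟨Q, grp, q, inferInstance, H23.MaxAbelian.geometricallyIntegral_of_connected Q, hqm, ‹_›, ‹_›, ?_⟩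
  have hleft : IsPullback (lift (toUnit N ≫ η[G]) (𝟙 N)) (toUnit N) (fst G N) η[G] :=
    ⟨⟨lift_fst _ _⟩, ⟨PullbackCone.IsLimit.mk _ (fun c => c.fst ≫ snd G N)
      (fun c => by
        apply CartesianMonoidalCategory.hom_ext
        · rw [Category.assoc, lift_fst, c.condition, ← Category.assoc, comp_toUnit,
            toUnit_unique c.snd (toUnit _)]
        · rw [Category.assoc, lift_snd, Category.comp_id])
      (fun c => toUnit_unique _ _)
      (fun c m h₁ _ => by rw [← h₁, Category.assoc, lift_snd, Category.comp_id])⟩⟩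
  have e := hleft.paste_horiz sq
  rw [comp_act, lift_fst, lift_snd_assoc, Category.id_comp, ← Hom.one_def, _root_.one_mul,
    IsMonHom.one_hom] at e
  exact e

end Groth.Agent.AVTors.FiniteQuot
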