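import Groth.Agent.AVTors.PrimaryPts
import Mathlib.RingTheory.Spectrum.Prime.Homeomorph
import Mathlib.FieldTheory.SeparableClosure

/-! Points of finite schemes under primary extensions. -/

set_option autoImplicit false
set_option linter.style.haveILetI false
set_option backward.isDefEq.respectTransparency false
set_option backward.isDefEq.respectTransparency.types false
universe u

open CategoryTheory CategoryTheory.Limits AlgebraicGeometry
open scoped TensorProduct

namespace Groth.Agent.AVTors.PrimaryFin

attribute [local instance] Curv2.resAlgebra

variable {k K : Type u} [Field k] [Field K] [Algebra k K]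

theorem subsingleton_tensor_of_finite (hprim : ∀ x : K, IsSeparable k x → x ∈ (algebraMap k K).range)
    (L : Type u) [Field L] [Algebra k L] [FiniteDimensional k L] :
    Subsingleton (PrimeSpectrum (L ⊗[k] K)) := by
  let M := separableClosure k L
  haveI : FiniteDimensional k M := inferInstance
  haveI : Algebra.IsSeparable k M := inferInstance
  haveI : IsPurelyInseparable M L := inferInstance
  haveI := subsingleton_primeSpectrum_tensor hprim M
  exact (PrimeSpectrum.isHomeomorph_comap_tensorProductMap_of_isPurelyInseparable (R := k) (S := K) M L).injective.subsingleton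

theorem injective_fst_of_finite (hprim : ∀ x : K, IsSeparable k x → x ∈ (algebraMap k K).range)
    {W : Scheme.{u}} (p : W ⟶ Spec (CommRingCat.of k)) [IsFinite p] :
    Function.Injective (pullback.fst p (Spec.map (CommRingCat.ofHom (algebraMap k K)))) := by
  letI : W.Over (Spec (CommRingCat.of k)) := ⟨p⟩
  show Function.Injective (Curv2.bcFst k W K)
  intro u v huv
  let w := Curv2.bcFst k W K u
  haveI : IsFinite (W ↘ Spec (CommRingCat.of k)) := ‹IsFinite p›
  haveI : IsClosedImmersion (W.fromSpecResidueField w) :=
    isClosed_singleton_iff_isClosedImmersion.1 (isClosed_point (W ↘ Spec (CommRingCat.of k)) w)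
  have hover := GeomField.fromSpecResidueField_over (k := k) w
  haveI h2 : IsFinite (Spec.map (CommRingCat.ofHom (algebraMap k (W.residueField w)))) := by
    rw [← hover]; infer_instance
  rw [IsFinite.SpecMap_iff] at h2
  haveI : Module.Finite k (W.residueField w) := RingHom.finite_algebraMap.1 h2
  let jj := W.fromSpecResidueField w
  have hr : Curv2.bcFst k W K ⁻¹' {w} = Set.range (pullback.snd jj (Curv2.bcFst k W K)) := by
    rw [Scheme.Pullback.range_snd, Scheme.range_fromSpecResidueField]
  have : Subsingleton ↥(pullback jj (Curv2.bcFst k W K)) :=
    @Equiv.subsingleton _ _ (GeomField.fibreIso K w).hom.homeomorph.toEquiv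
      (subsingleton_tensor_of_finite hprim (W.residueField w))
  exact (hr ▸ Set.subsingleton_range (pullback.snd jj (Curv2.bcFst k W K))) rfl huv.symm

end Groth.Agent.AVTors.PrimaryFin
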