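import Groth.Agent.AVTors.ChowExist
import Groth.Agent.AVTors.PrimaryFin
import Groth.Agent.AVTors.FiniteQuot
import Groth.Agent.S7790
import Groth.Agent.GrpSchLib.IdentityComp
import Groth.Agent.NIsog.Kernel
import Groth.Agent.H23.KerIsog
import Groth.Agent.H23.CubeAb
import Groth.Agent.AVDegLib.MulN
import Mathlib.AlgebraicGeometry.AlgClosed.Basic

/-! The kernel of a `K/k`-image is connected. -/

set_option autoImplicit false
set_option linter.style.haveILetI false
set_option backward.isDefEq.respectTransparency false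
set_option backward.isDefEq.respectTransparency.types false
set_option maxHeartbeats 4000000
set_option synthInstance.maxHeartbeats 100000

universe u

open CategoryTheory CategoryTheory.Limits MonoidalCategory CartesianMonoidalCategory MonObj AlgebraicGeometry

namespace Groth.Agent.AVTors.ChowKernel

open HomDescend (bb)

variable {k K : Type u} [Field k] [Field K] [Algebra k K]

theorem comm {L : Type u} [Field L] (A : Over (Spec (CommRingCat.of L))) [GrpObj A] [IsProper A.hom]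
    [GeometricallyIntegral A.hom] : IsCommMonObj A := by
  letI : GrpObj (Over.mk A.hom) := inferInstanceAs (GrpObj A)
  haveI : GeometricallyReduced A.hom := inferInstance
  haveI : GeometricallyConnected A.hom := H23.CubeAb.geometricallyConnected_of_integral A.hom
  haveI : Smooth A.hom := smooth_of_grpObj A.hom
  exact S7790.isCommMonObj A

theorem isNormalHom {L : Type u} [Field L] {N A : Over (Spec (CommRingCat.of L))} [GrpObj N] [GrpObj A]
    [IsCommMonObj A] (i : N ⟶ A) : AlgGrp.IsNormalHom i := fun T g n =>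
  ⟨n, by rw [_root_.mul_comm g, _root_.mul_assoc, mul_inv_cancel, _root_.mul_one]⟩

theorem mon_of {X Y W : Over (Spec (CommRingCat.of K))} [GrpObj X] [GrpObj Y] [GrpObj W] (a : X ⟶ Y) (m : Y ⟶ W)
    [IsMonHom m] [Mono m] (ha : IsMonHom (a ≫ m)) : IsMonHom a :=
  haveI := ha
  ⟨by rw [← cancel_mono m, Category.assoc, IsMonHom.one_hom (a ≫ m), IsMonHom.one_hom m], by
    rw [← cancel_mono m, Category.assoc, IsMonHom.mul_hom (a ≫ m), Category.assoc, IsMonHom.mul_hom m,
      MonoidalCategory.tensorHom_comp_tensorHom_assoc]⟩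

theorem range_subset_of_fac {L : Type u} [Field L] {Z N U : Over (Spec (CommRingCat.of L))} (e : U ⟶ N)
    (x : Z ⟶ N) (h : ∃ x', x' ≫ e = x) : Set.range x.left ⊆ Set.range e.left := by
  obtain ⟨x', rfl⟩ := h
  rw [Over.comp_left]
  exact Set.range_subset_iff.2 fun z => ⟨x'.left z, rfl⟩

theorem fac_of_range_subset {L : Type u} [Field L] {Z N U : Over (Spec (CommRingCat.of L))} (e : U ⟶ N)
    [IsOpenImmersion e.left] (x : Z ⟶ N) (h : Set.range x.left ⊆ Set.range e.left) : ∃ x', x' ≫ e = x :=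
  ⟨Over.homMk (IsOpenImmersion.lift e.left x.left h) (by
      rw [← Over.w e, IsOpenImmersion.lift_fac_assoc, Over.w x]),
    Over.OverMorphism.ext (IsOpenImmersion.lift_fac _ _ _)⟩

/-- A fixed power map sends a group of finite type into its neutral component. -/
theorem exists_pow_mem (N : Over (Spec (CommRingCat.of K))) [GrpObj N] [LocallyOfFiniteType N.hom]
    [QuasiCompact N.hom] {U : Over (Spec (CommRingCat.of K))} [GrpObj U] (e : U ⟶ N) [IsMonHom e]
    [IsOpenImmersion e.left]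
    (her : Set.range e.left = connectedComponent (η[N].left (IsLocalRing.closedPoint K))) :
    ∃ n : ℕ, 1 ≤ n ∧ ∀ z, (𝟙 N ^ n : N ⟶ N).left z ∈ Set.range e.left := by
  let p : Spec (CommRingCat.of (AlgebraicClosure K)) ⟶ Spec (CommRingCat.of K) :=
    Spec.map (CommRingCat.ofHom (algebraMap K (AlgebraicClosure K)))
  let Z : Over (Spec (CommRingCat.of K)) := Over.mk p
  let Y : Over (Spec (CommRingCat.of K)) := Over.mk (pullback.fst N.hom p ≫ N.hom)
  let f : Y ⟶ N := Over.homMk (pullback.fst N.hom p) rfl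
  let pr : Y ⟶ Z := Over.homMk (pullback.snd N.hom p) pullback.condition.symm
  let pt : Z.left := IsLocalRing.closedPoint (AlgebraicClosure K)
  haveI : LocallyOfFiniteType (pullback.snd N.hom p) :=
    MorphismProperty.pullback_snd (P := @LocallyOfFiniteType) _ _ inferInstance
  haveI : QuasiCompact (pullback.snd N.hom p) :=
    MorphismProperty.pullback_snd (P := @QuasiCompact) _ _ inferInstance
  haveI : IsLocallyNoetherian Y.left := LocallyOfFiniteType.isLocallyNoetherian (pullback.snd N.hom p)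
  haveI : CompactSpace Y.left := QuasiCompact.compactSpace_of_compactSpace (pullback.snd N.hom p)
  haveI : IsNoetherian Y.left := { }
  haveI : Finite (irreducibleComponents Y.left) :=
    TopologicalSpace.NoetherianSpace.finite_irreducibleComponents.to_subtype
  let c := Nat.card (irreducibleComponents Y.left)
  refine ⟨c.factorial, c.factorial_pos, ?_⟩
  have hx : ∀ x : Z ⟶ N, (x ^ c.factorial).left pt ∈ Set.range e.left := by
    intro x
    let xY : ℕ → (Z ⟶ Y) := fun i => Over.homMk (pullback.lift (x ^ i).left (𝟙 _) (by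
      rw [Over.w, Category.id_comp]; rfl)) (by
      show pullback.lift _ _ _ ≫ pullback.fst N.hom p ≫ N.hom = _
      rw [pullback.lift_fst_assoc, Over.w])
    have hf : ∀ i, xY i ≫ f = x ^ i := fun i => Over.OverMorphism.ext (pullback.lift_fst _ _ _)
    have hpr : ∀ i, xY i ≫ pr = 𝟙 Z := fun i => Over.OverMorphism.ext (pullback.lift_snd _ _ _)
    let cl : Fin (c + 1) → irreducibleComponents Y.left := fun i =>
      ⟨irreducibleComponent ((xY i).left pt), irreducibleComponent_mem_irreducibleComponents _⟩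
    haveI : Fintype (irreducibleComponents Y.left) := Fintype.ofFinite _
    obtain ⟨a, b, hab, heq⟩ := Fintype.exists_ne_map_eq_of_card_lt cl (by
      rw [Fintype.card_fin, ← Nat.card_eq_fintype_card]; exact Nat.lt_succ_self c)
    have key : ∀ i j : ℕ, i ≤ j → irreducibleComponent ((xY i).left pt) = irreducibleComponent ((xY j).left pt) →
        (x ^ (j - i)).left pt ∈ Set.range e.left := by
      intro i j hij h
      let t : Y ⟶ N := f * (pr ≫ (x ^ i)⁻¹)
      have ht : ∀ l, xY l ≫ t = x ^ l * (x ^ i)⁻¹ := fun l => by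
        simp only [t, MonObj.comp_mul, hf, ← Category.assoc, hpr, Category.id_comp]
      have h1 : (xY i).left pt ∈ irreducibleComponent ((xY i).left pt) := mem_irreducibleComponent
      have h2 : (xY j).left pt ∈ irreducibleComponent ((xY i).left pt) := h ▸ mem_irreducibleComponent
      have hη : t.left ((xY i).left pt) = η[N].left (IsLocalRing.closedPoint K) := by
        rw [← Scheme.Hom.comp_apply, ← Over.comp_left, ht, mul_inv_cancel, Hom.one_def, Over.comp_left,
          Scheme.Hom.comp_apply]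
        exact congrArg _ (Subsingleton.elim (α := Spec (CommRingCat.of K)) _ _)
      rw [her]
      refine (isIrreducible_irreducibleComponent.image t.left
        t.left.continuous.continuousOn).isConnected.isPreconnected.subset_connectedComponent
        ⟨_, h1, hη⟩ ⟨_, h2, ?_⟩
      rw [← Scheme.Hom.comp_apply, ← Over.comp_left, ht, ← pow_sub x hij]
    have h := Subtype.ext_iff.1 heq
    obtain ⟨d, hd1, hd2, hd⟩ : ∃ d, 1 ≤ d ∧ d ≤ c ∧ (x ^ d).left pt ∈ Set.range e.left := by
      rcases lt_or_gt_of_ne (Fin.val_injective.ne hab) with hlt | hlt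
      · exact ⟨_, by omega, by omega, key _ _ hlt.le h⟩
      · exact ⟨_, by omega, by omega, key _ _ hlt.le h.symm⟩
    obtain ⟨m, hm⟩ := Nat.dvd_factorial hd1 hd2
    obtain ⟨x', hx'⟩ := fac_of_range_subset e (x ^ d) (by
      rintro _ ⟨z, rfl⟩; rwa [Subsingleton.elim (α := Spec (CommRingCat.of (AlgebraicClosure K))) z pt])
    refine range_subset_of_fac e _ ⟨x' ^ m, ?_⟩ ⟨pt, rfl⟩
    rw [MonObj.pow_comp, hx', hm, pow_mul]
  haveI : JacobsonSpace N.left := LocallyOfFiniteType.jacobsonSpace N.hom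
  let V : Set N.left := (𝟙 N ^ c.factorial : N ⟶ N).left ⁻¹' Set.range e.left
  have hV : IsOpen V :=
    e.left.isOpenEmbedding.isOpen_range.preimage (𝟙 N ^ c.factorial : N ⟶ N).left.continuous
  by_contra hne
  push_neg at hne
  obtain ⟨z₀, hz₀⟩ := hne
  obtain ⟨z, hz, hzc⟩ := nonempty_inter_closedPoints (X := N.left) (Z := Vᶜ) ⟨z₀, hz₀⟩
    hV.isClosed_compl.isLocallyClosed
  haveI : Surjective p := ⟨fun z => ⟨pt, Subsingleton.elim _ _⟩⟩
  haveI : Surjective f.left := MorphismProperty.pullback_fst (P := @Surjective) _ _ inferInstance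
  haveI : JacobsonSpace Y.left := LocallyOfFiniteType.jacobsonSpace (pullback.snd N.hom p)
  obtain ⟨y, hy, hyc⟩ := nonempty_inter_closedPoints (X := Y.left) (Z := f.left ⁻¹' {z})
    (f.left.surjective z) ((hzc.preimage f.left.continuous).isLocallyClosed)
  let s := pointOfClosedPoint (pullback.snd N.hom p) y hyc
  have hs : s ≫ pullback.snd N.hom p = 𝟙 _ := pointOfClosedPoint_comp _ _ _
  let x : Z ⟶ N := Over.homMk (s ≫ pullback.fst N.hom p) (by
    rw [Category.assoc, pullback.condition, reassoc_of% hs]; rfl)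
  have hxz : x.left pt = z := by
    show (s ≫ pullback.fst N.hom p) pt = z
    rw [Scheme.Hom.comp_apply]
    have : s pt = y := by simp [s]
    rw [this]
    exact hy
  apply hz
  show _ ∈ Set.range e.left
  rw [← hxz, ← Scheme.Hom.comp_apply, ← Over.comp_left, MonObj.comp_pow, Category.comp_id]
  exact hx x

theorem connectedSpace_kernel (hprim : ∀ x : K, IsSeparable k x → x ∈ (algebraMap k K).range)
    (A : Over (Spec (CommRingCat.of K))) [GrpObj A] [IsProper A.hom] [GeometricallyIntegral A.hom]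
    (A₀ : Over (Spec (CommRingCat.of k))) [GrpObj A₀] [IsProper A₀.hom] [GeometricallyIntegral A₀.hom]
    (lam : A ⟶ Red.bc (AbVar.ext k K) A₀) (h : AbVar.IsChowImage k K A A₀ lam) :
    ∃ (N : Over (Spec (CommRingCat.of K))) (i : N ⟶ A), AlgGrp.IsKernel i lam ∧ ConnectedSpace N.left := by
  let F := Over.pullback (bb k K)
  let A1 := Red.bc (bb k K) A₀
  haveI := h.isMonHom
  haveI := h.surjective
  haveI : IsProper A1.hom := MorphismProperty.pullback_snd (P := @IsProper) _ _ inferInstance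
  haveI : GeometricallyIntegral A1.hom :=
    MorphismProperty.pullback_snd (P := @GeometricallyIntegral) _ _ inferInstance
  obtain ⟨N, iN, i, him, hic, -, hik⟩ := GrpSchLib.exists_kernel lam
  haveI := him
  haveI := hic
  haveI : Mono i := (Over.forget _).mono_of_mono_map (inferInstanceAs (Mono i.left))
  haveI : LocallyOfFiniteType N.hom := by rw [← Over.w i]; infer_instance
  haveI : QuasiCompact N.hom := by rw [← Over.w i]; infer_instance
  haveI : IsLocallyNoetherian N.left := LocallyOfFiniteType.isLocallyNoetherian N.hom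
  obtain ⟨N₀, iN₀, e, hem, hec, hef, her, -, -⟩ := GrpSchLib.exists_identityComponent (G := N)
  haveI := hem
  haveI := hec
  haveI := hef
  haveI : IsOpenImmersion e.left := IsOpenImmersion.of_flat_of_mono e.left
  obtain ⟨n, hn, hpow⟩ := exists_pow_mem N e her
  haveI := comm A
  haveI := comm A₀
  haveI := comm A1
  -- torsion over the base field
  let nA : A ⟶ A := 𝟙 A ^ n
  haveI : IsMonHom nA := AVDegLib.isMonHom_pow n
  haveI : IsMonHom (𝟙 A₀ ^ n : A₀ ⟶ A₀) := AVDegLib.isMonHom_pow n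
  haveI : IsMonHom (𝟙 A1 ^ n : A1 ⟶ A1) := AVDegLib.isMonHom_pow n
  haveI : Surjective nA.left := by
    obtain ⟨-, -, h1⟩ := AVDegLib.zpow_props (A := A) (n : ℤ) (by exact_mod_cast (by omega : n ≠ 0))
    rwa [zpow_natCast] at h1
  obtain ⟨T, iT, t, htm, htc, -, htk⟩ := GrpSchLib.exists_kernel (𝟙 A₀ ^ n : A₀ ⟶ A₀)
  haveI := htm
  haveI := htc
  haveI : IsFinite (𝟙 A₀ ^ n : A₀ ⟶ A₀).left := by
    obtain ⟨h1, -, -⟩ := AVDegLib.zpow_props (A := A₀) (n : ℤ) (by exact_mod_cast (by omega : n ≠ 0))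
    rwa [zpow_natCast] at h1
  haveI : IsFinite T.hom := H23.KerIsog.prop_ker t _ @IsFinite htk inferInstance
  haveI : Mono t := (Over.forget _).mono_of_mono_map (inferInstanceAs (Mono t.left))
  let tK : Red.bc (bb k K) T ⟶ A1 := F.map t
  haveI : IsMonHom tK := inferInstanceAs (IsMonHom (F.map t))
  have hnK : F.map (𝟙 A₀ ^ n) = (𝟙 A1 ^ n : A1 ⟶ A1) := by
    rw [show F.map (𝟙 A₀ ^ n) = (F.homMonoidHom (X := A₀) (M := A₀)) (𝟙 A₀ ^ n) from rfl, map_pow]
    exact congrArg (· ^ n) (F.map_id A₀)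
  have htK : AlgGrp.IsKernel tK (𝟙 A1 ^ n : A1 ⟶ A1) := hnK ▸ NIsog.isKernel_bc (bb k K) htk
  haveI : IsClosedImmersion tK.left := MorphismProperty.overPullbackMap (P := @IsClosedImmersion) (bb k K) t htc
  haveI : Mono tK := (Over.forget _).mono_of_mono_map (inferInstanceAs (Mono tK.left))
  have hnl : nA ≫ lam = lam ≫ (𝟙 A1 ^ n : A1 ⟶ A1) := by
    show (𝟙 A ^ n) ≫ lam = _
    rw [MonObj.pow_comp, Category.id_comp, MonObj.comp_pow, Category.comp_id]
  obtain ⟨P, iP, pA, hpm, hpc, -, hpk⟩ := GrpSchLib.exists_kernel (nA ≫ lam)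
  haveI := hpm
  haveI := hpc
  haveI : Mono pA := (Over.forget _).mono_of_mono_map (inferInstanceAs (Mono pA.left))
  let Pr : P ⟶ Red.bc (bb k K) T := htK.lift (pA ≫ lam) (toUnit _) (by rw [Category.assoc, ← hnl]; exact hpk.w)
  have hPr : Pr ≫ tK = pA ≫ lam := htK.lift_fst _ _ _
  let φ : P ⟶ N := hik.lift (pA ≫ nA) (toUnit _) (by rw [Category.assoc]; exact hpk.w)
  have hφ : φ ≫ i = pA ≫ nA := hik.lift_fst _ _ _
  haveI : IsMonHom Pr := mon_of Pr tK (hPr ▸ inferInstance)
  haveI : IsMonHom φ := mon_of φ i (hφ ▸ inferInstance)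
  have hpb : IsPullback pA Pr lam tK := by
    refine IsPullback.of_bot (h₂₁ := tK) (h₁₁ := pA) (v₂₁ := toUnit _) (v₂₂ := (𝟙 A1 ^ n : A1 ⟶ A1))
      (h₃₁ := η[A1]) ?_ hPr.symm htK
    rw [← hnl, toUnit_unique (Pr ≫ toUnit _) (toUnit P)]
    exact hpk
  haveI : Surjective Pr.left :=
    MorphismProperty.of_isPullback (P := @Surjective) (hpb.map (Over.forget _)) h.surjective
  let π : (Red.bc (bb k K) T).left ⟶ T.left := pullback.fst T.hom (bb k K)
  haveI : Surjective (bb k K) := ⟨fun z => ⟨IsLocalRing.closedPoint K, Subsingleton.elim _ _⟩⟩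
  have hinj : Function.Injective π := PrimaryFin.injective_fst_of_finite hprim T.hom
  have hπmap : ∀ {Z : Over (Spec (CommRingCat.of k))} (x : Z ⟶ T) (y : (Red.bc (bb k K) Z).left),
      π ((F.map x).left y) = x.left (pullback.fst Z.hom (bb k K) y) := by
    intro Z x y
    rw [← Scheme.Hom.comp_apply, ← Scheme.Hom.comp_apply]
    exact congrArg (fun f : (Red.bc (bb k K) Z).left ⟶ T.left => f y) (by simp [F, π, Over.pullback])
  -- saturation
  have hsat : ∀ y₁ y₂ : P.left, Pr.left y₁ = Pr.left y₂ → φ.left y₁ ∈ Set.range e.left →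
      φ.left y₂ ∈ Set.range e.left := by
    intro y₁ y₂ hy h1
    obtain ⟨w, hw1, hw2⟩ := Scheme.Pullback.exists_preimage_pullback y₁ y₂ hy
    let q := (pullback Pr.left Pr.left).fromSpecResidueField w
    let Z : Over (Spec (CommRingCat.of K)) := Over.mk (q ≫ pullback.fst Pr.left Pr.left ≫ P.hom)
    let x₁ : Z ⟶ P := Over.homMk (q ≫ pullback.fst Pr.left Pr.left) (by simp [Z])
    let x₂ : Z ⟶ P := Over.homMk (q ≫ pullback.snd Pr.left Pr.left) (by
      show _ = q ≫ pullback.fst Pr.left Pr.left ≫ P.hom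
      rw [← Over.w Pr, pullback.condition_assoc, Category.assoc])
    have hx : x₁ ≫ Pr = x₂ ≫ Pr := Over.OverMorphism.ext (by simp [x₁, x₂, pullback.condition])
    have hxA : x₁ ≫ pA ≫ lam = x₂ ≫ pA ≫ lam := by rw [← hPr, reassoc_of% hx]
    let m : Z ⟶ N := hik.lift ((x₂ ≫ pA) * (x₁ ≫ pA)⁻¹) (toUnit _) (by
      rw [MonObj.mul_comp, GrpObj.inv_comp, Category.assoc, Category.assoc, hxA, mul_inv_cancel, Hom.one_def])
    have hm : m ≫ i = (x₂ ≫ pA) * (x₁ ≫ pA)⁻¹ := hik.lift_fst _ _ _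
    have hφx : x₂ ≫ φ = (x₁ ≫ φ) * (m ≫ (𝟙 N ^ n : N ⟶ N)) := by
      rw [← cancel_mono i, MonObj.mul_comp, Category.assoc, Category.assoc, hφ, Category.assoc, MonObj.pow_comp,
        Category.id_comp]
      simp only [nA, MonObj.comp_pow, Category.comp_id, hm, ← mul_pow]
      rw [mul_comm (x₂ ≫ pA), mul_inv_cancel_left]
    obtain ⟨a, ha⟩ := fac_of_range_subset e (x₁ ≫ φ) (by
      rintro _ ⟨z, rfl⟩
      rw [Over.comp_left, Scheme.Hom.comp_apply, show x₁.left z = y₁ by
        show pullback.fst Pr.left Pr.left (q z) = y₁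
        rw [show q z = w from Scheme.fromSpecResidueField_apply w z]; exact hw1]
      exact h1)
    obtain ⟨b, hb⟩ := fac_of_range_subset e (m ≫ (𝟙 N ^ n : N ⟶ N)) (by
      rintro _ ⟨z, rfl⟩; exact hpow _)
    obtain ⟨z⟩ : Nonempty Z.left := ⟨IsLocalRing.closedPoint _⟩
    have h2 := range_subset_of_fac e (x₂ ≫ φ) ⟨a * b, by rw [MonObj.mul_comp, ha, hb, hφx]⟩ ⟨z, rfl⟩
    rwa [Over.comp_left, Scheme.Hom.comp_apply, show x₂.left z = y₂ by
      show pullback.snd Pr.left Pr.left (q z) = y₂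
      rw [show q z = w from Scheme.fromSpecResidueField_apply w z]; exact hw2] at h2
  haveI : DiscreteTopology T.left := by
    haveI : Finite T.left := Set.finite_univ_iff.1 <| (T.hom.finite_preimage_singleton (IsLocalRing.closedPoint k)).subset
      fun x _ => Subsingleton.elim (α := Spec (CommRingCat.of k)) _ _
    haveI : T1Space T.left := ⟨fun x => isClosed_point T.hom x⟩
    infer_instance
  let O₀ : T.left.Opens := ⟨π '' (Pr.left '' (φ.left ⁻¹' Set.range e.left)), isOpen_discrete _⟩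
  have hO : ∀ y : P.left, π (Pr.left y) ∈ O₀ ↔ φ.left y ∈ Set.range e.left := by
    refine fun y => ⟨?_, fun hy => ⟨_, ⟨y, hy, rfl⟩, rfl⟩⟩
    rintro ⟨_, ⟨y₁, hy₁, rfl⟩, h1⟩
    exact hsat y₁ y (hinj h1) hy₁
  let M : Over (Spec (CommRingCat.of k)) := Over.mk (O₀.ι ≫ T.hom)
  let j : M ⟶ T := Over.homMk O₀.ι rfl
  have hjr : Set.range j.left = O₀ := Scheme.Opens.range_ι O₀
  haveI : IsClosedImmersion j.left := IsClosedImmersion.of_isPreimmersion O₀.ι (by
    rw [Scheme.Opens.range_ι]; exact isClosed_discrete _)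
  haveI : IsOpenImmersion j.left := inferInstanceAs (IsOpenImmersion O₀.ι)
  haveI : Mono j := (Over.forget _).mono_of_mono_map (inferInstanceAs (Mono j.left))
  let jK : Red.bc (bb k K) M ⟶ Red.bc (bb k K) T := F.map j
  haveI : IsOpenImmersion jK.left :=
    MorphismProperty.overPullbackMap (P := @IsOpenImmersion) (bb k K) j inferInstance
  have hfst : ∀ Z : Over (Spec (CommRingCat.of k)), Surjective (pullback.fst Z.hom (bb k K)) := fun Z =>
    MorphismProperty.pullback_fst (P := @Surjective) _ _ inferInstance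
  have hjK : ∀ y, y ∈ Set.range jK.left ↔ π y ∈ O₀ := by
    refine fun y => ⟨?_, fun hy => ?_⟩
    · rintro ⟨z, rfl⟩
      rw [hπmap, ← SetLike.mem_coe, ← hjr]
      exact ⟨_, rfl⟩
    · obtain ⟨z, hz⟩ : π y ∈ Set.range j.left := hjr.symm ▸ hy
      haveI := hfst M
      obtain ⟨z', rfl⟩ := (pullback.fst M.hom (bb k K)).surjective z
      exact ⟨z', hinj ((hπmap j z').trans hz)⟩
  -- the preimage of `M` in `P`
  let PMo : P.left.Opens := ⟨φ.left ⁻¹' Set.range e.left,
    e.left.isOpenEmbedding.isOpen_range.preimage φ.left.continuous⟩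
  let PM : Over (Spec (CommRingCat.of K)) := Over.mk (PMo.ι ≫ P.hom)
  let u : PM ⟶ P := Over.homMk PMo.ι rfl
  haveI : IsOpenImmersion u.left := inferInstanceAs (IsOpenImmersion PMo.ι)
  have hur : Set.range u.left = φ.left ⁻¹' Set.range e.left := Scheme.Opens.range_ι PMo
  obtain ⟨uφ, huφ⟩ := fac_of_range_subset e (u ≫ φ) (by
    rintro _ ⟨z, rfl⟩; exact hur.subset ⟨z, rfl⟩)
  obtain ⟨v, hv⟩ := fac_of_range_subset jK (u ≫ Pr) (by
    rintro _ ⟨z, rfl⟩
    exact (hjK _).2 ((hO _).2 (hur.subset ⟨z, rfl⟩)))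
  haveI : Surjective v.left := ⟨fun y => by
    obtain ⟨p, hp⟩ := Pr.left.surjective (jK.left y)
    obtain ⟨p₀, rfl⟩ : p ∈ Set.range u.left :=
      hur.symm.subset ((hO p).1 (by rw [hp]; exact (hjK _).1 ⟨y, rfl⟩))
    refine ⟨p₀, jK.left.isOpenEmbedding.injective ?_⟩
    rw [← Scheme.Hom.comp_apply, ← Over.comp_left, hv, Over.comp_left, Scheme.Hom.comp_apply, hp]⟩
  have hfac : ∀ {Z : Over (Spec (CommRingCat.of k))} {Z' : Over (Spec (CommRingCat.of K))} (x : Z ⟶ T)
      (g : Z' ⟶ Red.bc (bb k K) Z) (a : Z' ⟶ P), Surjective g.left → a ≫ Pr = g ≫ F.map x →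
      (∃ a', a' ≫ e = a ≫ φ) → ∃ x' : Z ⟶ M, x' ≫ j = x := by
    intro Z Z' x g a hg hag hae
    refine fac_of_range_subset j x ?_
    rintro _ ⟨z, rfl⟩
    haveI := hfst Z
    obtain ⟨y, rfl⟩ := (pullback.fst Z.hom (bb k K)).surjective z
    obtain ⟨y', rfl⟩ := g.left.surjective y
    rw [hjr, ← hπmap, show (F.map x).left (g.left y') = Pr.left (a.left y') from
      congrArg (fun f : Z' ⟶ Red.bc (bb k K) T => f.left y') hag.symm]
    exact (hO _).2 (range_subset_of_fac e _ hae ⟨y', rfl⟩)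
  obtain ⟨e₁, he₁⟩ := hfac η[T] (Functor.LaxMonoidal.ε F) (1 : 𝟙_ _ ⟶ P) inferInstance (by
    rw [MonObj.one_comp, show η[T] = (1 : 𝟙_ _ ⟶ T) from MonObj.one_eq_one T,
      show F.map (1 : 𝟙_ _ ⟶ T) = 1 from map_one (F.homMonoidHom (X := 𝟙_ _) (M := T)), MonObj.comp_one])
    ⟨1, by rw [MonObj.one_comp, MonObj.one_comp]⟩
  haveI : Surjective ((v ⊗ₘ v) ≫ Functor.LaxMonoidal.μ F M M).left := by
    haveI : Surjective (v ⊗ₘ v).left :=
      AGFLib.AntPart.property_tensorHom v v @Surjective inferInstance inferInstance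
    rw [Over.comp_left]; infer_instance
  obtain ⟨m₁, hm₁⟩ := hfac ((fst M M ≫ j) * (snd M M ≫ j)) ((v ⊗ₘ v) ≫ Functor.LaxMonoidal.μ F M M)
    ((fst PM PM ≫ u) * (snd PM PM ≫ u)) inferInstance (by
    rw [show F.map ((fst M M ≫ j) * (snd M M ≫ j)) = F.map (fst M M ≫ j) * F.map (snd M M ≫ j) from
      map_mul (F.homMonoidHom) _ _, MonObj.mul_comp, MonObj.comp_mul]
    simp [F, jK, hv.symm, Functor.Monoidal.μ_fst_assoc, Functor.Monoidal.μ_snd_assoc])
    ⟨(fst PM PM ≫ uφ) * (snd PM PM ≫ uφ), by simp [MonObj.mul_comp, huφ]⟩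
  obtain ⟨v₁, hv₁⟩ := hfac j⁻¹ v u⁻¹ inferInstance (by
    rw [show F.map j⁻¹ = (F.map j)⁻¹ from map_inv (F.homMonoidHom) j, GrpObj.inv_comp, GrpObj.comp_inv]
    exact congrArg (·⁻¹) hv.symm) ⟨uφ⁻¹, by rw [GrpObj.inv_comp, GrpObj.inv_comp, huφ]⟩
  letI : GrpObj M := GrpSchLib.grpObjOfFactor j e₁ he₁ m₁ hm₁ v₁ hv₁
  haveI : IsMonHom j := ⟨he₁, by show m₁ ≫ j = _; rw [hm₁]; simp [Hom.mul_def]⟩
  haveI : IsClosedImmersion (j ≫ t).left := inferInstanceAs (IsClosedImmersion (j.left ≫ t.left))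
  haveI : Mono (j ≫ t) := mono_comp _ _
  haveI : IsClosedImmersion O₀.ι := inferInstanceAs (IsClosedImmersion j.left)
  haveI : IsFinite M.hom := inferInstanceAs (IsFinite (O₀.ι ≫ T.hom))
  obtain ⟨Q₀, iQ₀, q₀, hQ₀p, hQ₀g, hq₀, hq₀s, -, hq₀k⟩ := FiniteQuot.exists_quot (j ≫ t) (isNormalHom _)
  haveI := hQ₀p
  haveI := hQ₀g
  haveI := hq₀
  let qK : A1 ⟶ Red.bc (bb k K) Q₀ := F.map q₀
  haveI : IsMonHom qK := inferInstanceAs (IsMonHom (F.map q₀))
  haveI : IsProper (Red.bc (bb k K) Q₀).hom := MorphismProperty.pullback_snd (P := @IsProper) _ _ inferInstance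
  have hqK : AlgGrp.IsKernel (F.map (j ≫ t) : Red.bc (bb k K) M ⟶ A1) qK := NIsog.isKernel_bc (bb k K) hq₀k
  have hjt : jK ≫ tK ≫ qK = 1 := by
    rw [← Category.assoc, ← Functor.map_comp, hqK.w, Hom.one_def]
  obtain ⟨An, iAn, an, ham, hac, -, hak⟩ := GrpSchLib.exists_kernel nA
  have han : an ≫ nA = 1 := by rw [hak.w, Hom.one_def]
  obtain ⟨g, hgm, hg⟩ := ChowExist.exists_factor nA an hak (lam ≫ qK) (by
    let b : An ⟶ P := hpk.lift an (toUnit _) (by rw [← Category.assoc, han, MonObj.one_comp, Hom.one_def])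
    have hb : b ≫ pA = an := hpk.lift_fst _ _ _
    have hbφ : b ≫ φ = 1 := by
      rw [← cancel_mono i, Category.assoc, hφ, ← Category.assoc, hb, han, MonObj.one_comp]
    obtain ⟨b', hb'⟩ := fac_of_range_subset u b (by
      rw [hur]
      rintro _ ⟨z, rfl⟩
      exact range_subset_of_fac e (b ≫ φ) ⟨1, by rw [MonObj.one_comp, hbφ]⟩ ⟨z, rfl⟩)
    rw [← hb, Category.assoc, ← reassoc_of% hPr, ← hb', Category.assoc, ← reassoc_of% hv, hjt,
      MonObj.comp_one, MonObj.comp_one])
  haveI := hgm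
  obtain ⟨a₀, ha₀, hla⟩ := h.fac Q₀ g
  haveI := ha₀
  haveI : IsMonHom ((Over.pullback (AbVar.ext k K)).map a₀) := inferInstance
  have hig : i ≫ g = 1 := by
    rw [← hla, ← Category.assoc, hik.w, ← Hom.one_def, MonObj.one_comp]
  refine ⟨N, i, hik, connectedSpace_iff_connectedComponent.2 ⟨η[N].left (IsLocalRing.closedPoint K), ?_⟩⟩
  rw [← her]
  refine Set.eq_univ_of_forall fun z => ?_
  obtain ⟨a, ha⟩ := nA.left.surjective (i.left z)
  obtain ⟨w, hw1, hw2⟩ := Scheme.Pullback.exists_preimage_pullback (f := nA.left) (g := i.left) a z ha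
  let q := (pullback nA.left i.left).fromSpecResidueField w
  let Z : Over (Spec (CommRingCat.of K)) := Over.mk (q ≫ pullback.snd nA.left i.left ≫ N.hom)
  let xn : Z ⟶ N := Over.homMk (q ≫ pullback.snd nA.left i.left) (by simp [Z])
  let xa : Z ⟶ A := Over.homMk (q ≫ pullback.fst nA.left i.left) (by
    show _ = q ≫ pullback.snd nA.left i.left ≫ N.hom
    rw [← Over.w i, ← pullback.condition_assoc, Over.w nA, Category.assoc])
  have hx : xa ≫ nA = xn ≫ i := Over.OverMorphism.ext (by simp [xa, xn, pullback.condition])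
  have hk1 : (xa ≫ lam) ≫ qK = 1 := by
    rw [Category.assoc, ← hg, reassoc_of% hx, hig, MonObj.comp_one]
  let c := hqK.lift (xa ≫ lam) (toUnit _) (by rw [hk1, Hom.one_def])
  have hc : c ≫ jK ≫ tK = xa ≫ lam := by
    rw [← Functor.map_comp]; exact hqK.lift_fst _ _ _
  let xp : Z ⟶ P := hpk.lift xa (toUnit _) (by
    rw [reassoc_of% hx, hik.w, ← Hom.one_def, MonObj.comp_one, Hom.one_def])
  have hxp : xp ≫ pA = xa := hpk.lift_fst _ _ _
  have hxφ : xp ≫ φ = xn := by
    rw [← cancel_mono i, Category.assoc, hφ, ← Category.assoc, hxp, hx]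
  have hxPr : xp ≫ Pr = c ≫ jK := by
    rw [← cancel_mono tK, Category.assoc, hPr, ← Category.assoc, hxp, Category.assoc, hc]
  obtain ⟨z₀⟩ : Nonempty Z.left := ⟨IsLocalRing.closedPoint _⟩
  have hz : xn.left z₀ = z := by
    show pullback.snd nA.left i.left (q z₀) = z
    rw [show q z₀ = w from Scheme.fromSpecResidueField_apply w z₀]; exact hw2
  rw [← hz, ← hxφ, Over.comp_left, Scheme.Hom.comp_apply]
  refine (hO _).1 ((hjK _).1 ⟨c.left z₀, ?_⟩)
  rw [← Scheme.Hom.comp_apply, ← Over.comp_left, ← hxPr]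
  rfl

end Groth.Agent.AVTors.ChowKernel
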