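import Groth.Agent.AVTors.TateInj
import Groth.Agent.S7790
import Groth.Agent.GrpSchLib.SmallestSubgroup

/-!
Homomorphisms killing the kernel points of an étale isogeny factor through it.
-/

set_option autoImplicit false
set_option linter.style.haveILetI false
set_option backward.isDefEq.respectTransparency false
set_option backward.isDefEq.respectTransparency.types false
set_option maxHeartbeats 1000000

universe u

open CategoryTheory CategoryTheory.Limits MonoidalCategory CartesianMonoidalCategory MonObj AlgebraicGeometry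

namespace Groth.Agent.AVTors

variable {k : Type u} [Field k] [IsAlgClosed k]

/-- Two morphisms from a finite étale scheme over an algebraically closed field agree if they agree on
rational points. -/
theorem ext_of_finite_etale {N Z : Over (Spec (CommRingCat.of k))} [IsFinite N.hom] [Etale N.hom] [IsSeparated Z.hom]
    (f g : N ⟶ Z) (h : ∀ a : pt0 k ⟶ N, a ≫ f = a ≫ g) : f = g := by
  haveI : GeometricallyReduced N.hom := H23.RigidGamma.geometricallyReduced_of_smooth N.hom
  haveI : AlgebraicGeometry.IsReduced N.left := GrpSchLib.SmallestSubgroup.isReduced_of_geometricallyReduced N.hom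
  refine ext_of_dense_pts Set.univ ?_ f g fun a _ => h a
  refine Set.eq_univ_of_univ_subset fun x _ => subset_closure ?_
  obtain ⟨⟨p, hp⟩, hpx⟩ := (sectEquiv N.hom).surjective x
  refine ⟨Over.homMk p hp, trivial, ?_⟩
  rw [← hpx]
  simp [sectEquiv]

theorem exists_factor {X Y Z : Over (Spec (CommRingCat.of k))} [GrpObj X] [IsCommMonObj X] [GrpObj Y] [IsSeparated Y.hom] [GrpObj Z]
    [IsSeparated Z.hom] (f : X ⟶ Y) [IsMonHom f] [IsFinite f.left] [Surjective f.left] [Etale f.left]
    (ψ : X ⟶ Z) [IsMonHom ψ] (h : ∀ P : pt0 k ⟶ X, P ≫ f = 1 → P ≫ ψ = 1) :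
    ∃ ρ : Y ⟶ Z, IsMonHom ρ ∧ f ≫ ρ = ψ ∧ ∀ ρ' : Y ⟶ Z, f ≫ ρ' = ψ → ρ' = ρ := by
  have hcov : FpqcDescLib.Covers f.left :=
    GrpSchLib.LiftLaw.covers_of_flat_qc_or_lfp f.left (Or.inl inferInstance)
  haveI : Epi f := hcov.over_epi
  obtain ⟨N, _, i, hi, hicl, -, hk⟩ := GrpSchLib.exists_kernel f
  haveI := hi
  have hsq : IsPullback i.left N.hom f.left (η[Y]).left := hk.map (Over.forget _)
  haveI : IsFinite N.hom := MorphismProperty.of_isPullback (P := @IsFinite) hsq inferInstance
  haveI : Etale N.hom := MorphismProperty.of_isPullback (P := @Etale) hsq inferInstance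
  have hN : i ≫ ψ = 1 := by
    refine ext_of_finite_etale _ _ fun a => ?_
    rw [← Category.assoc, MonObj.comp_one]
    refine h _ ?_
    rw [Category.assoc, hk.w, ← Category.assoc, toUnit_unique (a ≫ toUnit N) (toUnit _), Hom.one_def]
  have hkill : ∀ (T : Over _) (a b : T ⟶ X), a ≫ f = b ≫ f → a ≫ ψ = b ≫ ψ := by
    intro T a b hab
    have h1 : (a * b⁻¹) ≫ f = toUnit T ≫ η[Y] := by
      rw [MonObj.mul_comp, GrpObj.inv_comp, hab, mul_inv_cancel]
      rfl
    have h3 : (a * b⁻¹) ≫ ψ = 1 := by
      rw [← hk.lift_fst (a * b⁻¹) (toUnit T) h1, Category.assoc, hN, MonObj.comp_one]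
    rwa [MonObj.mul_comp, GrpObj.inv_comp, mul_inv_eq_one] at h3
  obtain ⟨ρ, hρ, huniq⟩ := hcov.over_desc ψ hkill
  refine ⟨ρ, ⟨?_, ?_⟩, hρ, fun ρ' h' => huniq ρ' h'⟩
  · rw [← IsMonHom.one_hom (f := f), Category.assoc, hρ, IsMonHom.one_hom]
  · haveI : Epi f.left := Flat.epi_of_flat_of_surjective _
    haveI : Epi (f ⊗ₘ f) := by
      haveI : Epi (f ⊗ₘ f).left := by
        have hm : ∀ {P : MorphismProperty Scheme.{u}} [P.IsStableUnderBaseChange] [P.IsStableUnderComposition],
            P f.left → P (f ⊗ₘ f).left := fun {P} _ _ hf => by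
          rw [Over.tensorHom_left]
          exact MorphismProperty.pullbackMap hf hf (Over.w f).symm (Over.w f).symm
        haveI : Flat (f ⊗ₘ f).left := hm (P := @Flat) inferInstance
        haveI : Surjective (f ⊗ₘ f).left := hm (P := @Surjective) inferInstance
        haveI : QuasiCompact (f ⊗ₘ f).left := hm (P := @QuasiCompact) inferInstance
        exact Flat.epi_of_flat_of_surjective _
      exact Over.epi_of_epi_left _
    rw [← cancel_epi (f ⊗ₘ f), ← Category.assoc, ← IsMonHom.mul_hom, Category.assoc, hρ,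
      IsMonHom.mul_hom (f := ψ), tensorHom_comp_tensorHom_assoc, hρ]

end Groth.Agent.AVTors
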