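import Groth.Agent.AVTors.FrobKernelHopf
import Groth.Agent.AVTors.EtaleFactor
import Groth.Agent.AVDegLib.MulN
import Groth.Agent.GrpSchLib.HomFlat
import Mathlib.AlgebraicGeometry.ZariskisMainTheorem
import Mathlib.FieldTheory.Finite.Basic

/-!
Multiplication by `q` factors through the geometric Frobenius of an abelian variety over a field with `q` elements.
-/

set_option autoImplicit false
set_option linter.style.haveILetI false
set_option backward.isDefEq.respectTransparency false
set_option backward.isDefEq.respectTransparency.types false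
set_option maxHeartbeats 1000000
set_option linter.unusedSectionVars false

universe u

open CategoryTheory CategoryTheory.Limits MonoidalCategory CartesianMonoidalCategory MonObj AlgebraicGeometry
open Groth.Agent.GrpSchLib.AffineHopf

namespace Groth.Agent.AVTors.Verschiebung

variable {k : Type u} [Field k] {X : Over (Spec (CommRingCat.of k))} [GrpObj X] [IsCommMonObj X] [IsProper X.hom]
  [GeometricallyIntegral X.hom] (π : X ⟶ X) [IsMonHom π] (hπb : π.left.base = 𝟙 _)
  (q : ℕ) (hπle : ∀ U : X.left.Opens, U ≤ π.left ⁻¹ᵁ U)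
  (hπapp : ∀ (U : X.left.Opens) (s : Γ(X.left, U)), (π.left.appLE U U (hπle U)).hom s = s ^ q)

include hπb in
theorem apply_eq (x : X.left) : π.left x = x := by
  show π.left.base x = x
  rw [hπb]; rfl

include hπb in
theorem isFinite_left : IsFinite π.left ∧ Surjective π.left := by
  haveI : IsProper (π.left ≫ X.hom) := by rw [Over.w]; infer_instance
  haveI : IsProper π.left := IsProper.of_comp π.left X.hom
  refine ⟨?_, ⟨fun x => ⟨x, apply_eq π hπb x⟩⟩⟩
  haveI : LocallyQuasiFinite π.left :=
    LocallyQuasiFinite.of_injective fun a b h => (apply_eq π hπb a).symm.trans (h.trans (apply_eq π hπb b))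
  exact IsFinite.of_isProper_of_locallyQuasiFinite π.left

include hπapp in
/-- On a scheme with image in an affine open, composition with the Frobenius is the power map on functions. -/
theorem comp_eq_of_affine {A : Type u} [CommRing A] (F : A →+* A) (hF : ∀ a, F a = a ^ q)
    (f : Spec (CommRingCat.of A) ⟶ X.left) {U : X.left.Opens} (hU : IsAffineOpen U) (hf : Set.range f ⊆ (U : Set X.left)) :
    f ≫ π.left = Spec.map (CommRingCat.ofHom F) ≫ f := by
  have hf' : Set.range f ⊆ Set.range hU.fromSpec := by rw [hU.range_fromSpec]; exact hf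
  let g := IsOpenImmersion.lift hU.fromSpec f hf'
  obtain ⟨φ, hφ⟩ : ∃ φ, Spec.map φ = g := ⟨_, Spec.map_preimage _⟩
  have hg : Spec.map φ ≫ hU.fromSpec = f := by rw [hφ]; exact IsOpenImmersion.lift_fac _ _ _
  rw [← hg, Category.assoc, ← hU.SpecMap_appLE_fromSpec π.left hU (hπle U), ← Category.assoc, ← Category.assoc,
    ← Spec.map_comp, ← Spec.map_comp]
  congr 2
  refine CommRingCat.hom_ext (RingHom.ext fun s => ?_)
  show φ.hom ((π.left.appLE U U (hπle U)).hom s) = F (φ.hom s)
  rw [hπapp, map_pow, hF]

include hπb hπapp in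
theorem exists_versch (p r : ℕ) [Fact p.Prime] [CharP k p] (hq : q = p ^ r) (hk : ∀ c : k, c ^ q = c) :
    ∃ (v : X ⟶ X) (_ : IsMonHom v), π ≫ v = (𝟙 X) ^ q ∧ v ≫ π = (𝟙 X) ^ q := by
  obtain ⟨hfin, hsurj⟩ := isFinite_left π hπb
  haveI := hfin
  haveI := hsurj
  haveI : AlgebraicGeometry.IsReduced X.left := by
    haveI := H23.MaxAbelian.isIntegral_of_geometricallyIntegral (X := X); infer_instance
  haveI : Flat π.left := GrpSchLib.flat_of_surjective_hom π
  haveI : QuasiCompact π.left := inferInstance
  have hcov : FpqcDescLib.Covers π.left := GrpSchLib.LiftLaw.covers_of_flat_qc_or_lfp π.left (Or.inl inferInstance)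
  haveI hepi : Epi π := hcov.over_epi
  obtain ⟨N, iN, i, hi, hicl, -, hker⟩ := GrpSchLib.exists_kernel π
  haveI := hi
  haveI := hicl
  haveI : Mono i := Over.mono_of_mono_left i
  have hsq : IsPullback i.left N.hom π.left (η[X]).left := hker.map (Over.forget _)
  haveI : IsFinite N.hom := MorphismProperty.of_isPullback (P := @IsFinite) hsq inferInstance
  haveI : IsAffine N.left := isAffine_of_isAffineHom N.hom
  haveI : IsCommMonObj N := ⟨by
    rw [← cancel_mono i]
    simp [IsMonHom.mul_hom, ← BraidedCategory.braiding_naturality_assoc]⟩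
  obtain ⟨A, _, _, ⟨e⟩⟩ := exists_hopf N
  let j : sp k A ⟶ N := e.hom.hom.hom
  haveI : IsMonHom j := e.hom.hom.isMonHom_hom
  haveI : IsIso j := ⟨e.inv.hom.hom, congrArg (fun z => z.hom.hom) e.hom_inv_id, congrArg (fun z => z.hom.hom) e.inv_hom_id⟩
  haveI : IsCommMonObj (sp k A) := ⟨by
    rw [← cancel_mono j]
    simp [IsMonHom.mul_hom, ← BraidedCategory.braiding_naturality_assoc]⟩
  haveI : Module.Finite k A := by
    haveI : IsFinite (sp k A).hom := by rw [← Over.w j]; infer_instance
    have h : IsFinite (Spec.map (CommRingCat.ofHom (algebraMap k A))) := ‹IsFinite (sp k A).hom›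
    rw [IsFinite.SpecMap_iff] at h
    exact RingHom.finite_algebraMap.1 h
  haveI : Nontrivial A := (Bialgebra.counitAlgHom k A).toRingHom.domain_nontrivial
  haveI : CharP A p := charP_of_injective_algebraMap (algebraMap k A).injective p
  let F : A →ₐ[k] A :=
    { iterateFrobenius A p r with
      commutes' := fun c => by
        show iterateFrobenius A p r (algebraMap k A c) = algebraMap k A c
        rw [iterateFrobenius_def, ← map_pow, ← hq, hk] }
  have hF : ∀ a, F a = a ^ p ^ r := fun a => iterateFrobenius_def p r a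
  have hjπ : (j ≫ i) ≫ π = 1 := by
    rw [Category.assoc, hker.w, ← Category.assoc, Hom.one_def, toUnit_unique (j ≫ toUnit N) (toUnit _)]
  have hF1 : spMap F = 1 := by
    haveI : Mono (j ≫ i) := mono_comp j i
    refine (cancel_mono (j ≫ i)).1 ?_
    rw [MonObj.one_comp, ← hjπ]
    refine Over.OverMorphism.ext ?_
    obtain ⟨_, ⟨U, hU, rfl⟩, hηU, -⟩ := X.left.isBasis_affineOpens.exists_subset_of_mem_open
      (Set.mem_univ (η[X].left (IsLocalRing.closedPoint k))) isOpen_univ
    have hr : Set.range (j ≫ i).left ⊆ (U : Set X.left) := by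
      rintro _ ⟨x, rfl⟩
      have h := congrArg (fun f : sp k A ⟶ X => f.left x) hjπ
      rw [show ((j ≫ i) ≫ π).left x = π.left ((j ≫ i).left x) from rfl, apply_eq π hπb] at h
      rw [h, Hom.one_def]
      show η[X].left ((toUnit (sp k A)).left x) ∈ U
      rwa [show (toUnit (sp k A)).left x = IsLocalRing.closedPoint k from
        @Subsingleton.elim (Spec (CommRingCat.of k)) inferInstance _ _]
    exact (comp_eq_of_affine π q hπle hπapp F.toRingHom (fun a => (hF a).trans (by rw [hq]))
      (j ≫ i).left hU hr).symm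
  have hkillA := FrobKilled.pow_eq_one_of_frob p r F hF hF1
  have hN : i ^ q = (1 : N ⟶ X) := by
    rw [← cancel_epi j, MonObj.comp_one, MonObj.comp_pow, hq,
      ← Category.id_comp (j ≫ i), ← MonObj.pow_comp, hkillA, MonObj.one_comp]
  have hkill : ∀ (T : Over (Spec (CommRingCat.of k))) (a b : T ⟶ X), a ≫ π = b ≫ π →
      a ≫ ((𝟙 X) ^ q) = b ≫ ((𝟙 X) ^ q) := by
    intro T a b hab
    have h1 : (a * b⁻¹) ≫ π = toUnit T ≫ η[X] := by
      rw [MonObj.mul_comp, GrpObj.inv_comp, hab, mul_inv_cancel]; rfl
    have h3 : (a * b⁻¹) ^ q = 1 := by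
      rw [← hker.lift_fst (a * b⁻¹) (toUnit T) h1, ← MonObj.comp_pow, hN, MonObj.comp_one]
    rw [mul_pow, inv_pow, mul_inv_eq_one] at h3
    rwa [MonObj.comp_pow, MonObj.comp_pow, Category.comp_id, Category.comp_id]
  obtain ⟨v, hv, -⟩ := hcov.over_desc ((𝟙 X) ^ q) hkill
  haveI : IsMonHom ((𝟙 X) ^ q : X ⟶ X) := AVDegLib.isMonHom_pow q
  have hmon : IsMonHom v := by
    refine ⟨?_, ?_⟩
    · refine (congrArg (· ≫ v) (IsMonHom.one_hom (f := π)).symm).trans ?_
      rw [Category.assoc, hv, IsMonHom.one_hom (f := ((𝟙 X) ^ q : X ⟶ X))]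
    · haveI : Epi (π ⊗ₘ π) := by
        haveI : Epi (π ⊗ₘ π).left := by
          have hm : ∀ {P : MorphismProperty Scheme.{u}} [P.IsStableUnderBaseChange] [P.IsStableUnderComposition],
              P π.left → P (π ⊗ₘ π).left := fun {P} _ _ hf => by
            rw [Over.tensorHom_left]
            exact MorphismProperty.pullbackMap hf hf (Over.w π).symm (Over.w π).symm
          haveI : Flat (π ⊗ₘ π).left := hm (P := @Flat) inferInstance
          haveI : Surjective (π ⊗ₘ π).left := hm (P := @Surjective) inferInstance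
          haveI : QuasiCompact (π ⊗ₘ π).left := hm (P := @QuasiCompact) inferInstance
          exact Flat.epi_of_flat_of_surjective _
        exact Over.epi_of_epi_left _
      rw [← cancel_epi (π ⊗ₘ π), ← Category.assoc, ← IsMonHom.mul_hom, Category.assoc, hv,
        IsMonHom.mul_hom (f := ((𝟙 X) ^ q : X ⟶ X)), tensorHom_comp_tensorHom_assoc, hv]
  refine ⟨v, hmon, hv, ?_⟩
  rw [← cancel_epi π, ← Category.assoc, hv, MonObj.pow_comp, Category.id_comp, MonObj.comp_pow, Category.comp_id]

end Groth.Agent.AVTors.Verschiebung
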