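import Groth.Agent.Lib.AVPoincare
import Groth.Agent.Lib.AVEnd0
import Groth.Agent.Lib.AVSemisimple
import Groth.Agent.Lib.AVFrobExists
import Groth.Agent.AVTors.ChowKernel
import Groth.Prelude.Def_EndRing

/-! Homomorphisms into a fixed abelian variety: generators and quotients. -/

set_option autoImplicit false
set_option linter.style.haveILetI false
set_option backward.isDefEq.respectTransparency false
set_option backward.isDefEq.respectTransparency.types false
set_option maxHeartbeats 2000000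
set_option synthInstance.maxHeartbeats 200000

universe u

open CategoryTheory CategoryTheory.Limits MonoidalCategory CartesianMonoidalCategory MonObj AlgebraicGeometry

namespace Groth.Agent.AVTors.AntiEquiv

variable {k : Type u} [Field k]
variable {Y A : Over (Spec (CommRingCat.of k))}
  [GrpObj Y] [IsCommMonObj Y] [IsProper Y.hom] [GeometricallyIntegral Y.hom]
  [GrpObj A] [IsCommMonObj A] [IsProper A.hom] [GeometricallyIntegral A.hom]

/-- Regularity, additively. -/
theorem exists_reg (x : EndAV.Hom Y A) : ∃ (y : EndAV.Hom A Y) (m : ℕ), 0 < m ∧ x ≫ y ≫ x = m • x := by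
  obtain ⟨y, m, hy, hm, h⟩ := AVPoincare.exists_regular x.toHom
  haveI := hy
  exact ⟨EndAV.Hom.of y, m, hm, EndAV.Hom.ext (by
    rw [EndAV.Hom.toHom_nsmul]
    exact h)⟩

/-- The combination of a family. -/
noncomputable def comb {n : ℕ} (ψ : Fin n → EndAV.Hom Y A) : (Fin n → EndAV.Hom A Y) →+ EndAV.Hom Y Y where
  toFun z := ∑ i, ψ i ≫ z i
  map_zero' := by simp
  map_add' z z' := by simp [Preadditive.comp_add, Finset.sum_add_distrib]

/-- A jointly faithful family has a multiple of the identity as a combination. -/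
theorem exists_sum_eq {n : ℕ} (ψ : Fin n → EndAV.Hom Y A)
    (h : ∀ v : EndAV.Hom Y Y, (∀ i, v ≫ ψ i = 0) → v = 0) :
    ∃ (N : ℕ) (z : Fin n → EndAV.Hom A Y), 0 < N ∧ ∑ i, ψ i ≫ z i = N • 𝟙 (CommGrp.mk Y) := by
  classical
  let I := (comb ψ).range
  have hI : ∀ a ∈ I, ∀ t : EndAV.Hom Y Y, a ≫ t ∈ I := by
    rintro _ ⟨z, rfl⟩ t
    exact ⟨fun i => z i ≫ t, by simp [comb, Preadditive.sum_comp]⟩
  have hψ : ∀ (i : Fin n) (t : EndAV.Hom A Y), ψ i ≫ t ∈ I := fun i t => by
    refine ⟨Pi.single i t, ?_⟩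
    show ∑ j, ψ j ≫ Pi.single (M := fun _ => EndAV.Hom A Y) i t j = _
    rw [Finset.sum_eq_single i (fun j _ hj => by rw [Pi.single_eq_of_ne hj, Limits.comp_zero])
      (fun hh => absurd (Finset.mem_univ i) hh), Pi.single_eq_same]
  have key : ∀ s : Finset (Fin n), ∃ (N : ℕ) (a : EndAV.Hom Y Y), 0 < N ∧ a ∈ I ∧
      ∀ i ∈ s, (N • 𝟙 (CommGrp.mk Y) - a) ≫ ψ i = 0 := by
    intro s
    induction s using Finset.induction with
    | empty => exact ⟨1, 0, one_pos, zero_mem _, fun i hi => absurd hi (Finset.notMem_empty i)⟩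
    | insert j s _ ih =>
      obtain ⟨N, a, hN, ha, hs⟩ := ih
      let v : EndAV.Hom Y Y := N • 𝟙 (CommGrp.mk Y) - a
      obtain ⟨y, m, hm, hy⟩ := exists_reg (v ≫ ψ j)
      let b : EndAV.Hom Y Y := (v ≫ ψ j) ≫ y
      have hb : b ∈ I := by
        show ((N • 𝟙 (CommGrp.mk Y) - a) ≫ ψ j) ≫ y ∈ I
        rw [Category.assoc, Preadditive.sub_comp, Preadditive.nsmul_comp, Category.id_comp]
        exact I.sub_mem (I.nsmul_mem (hψ j y) N) (hI a ha _)
      refine ⟨m * N, m • a + b ≫ v, Nat.mul_pos hm hN, I.add_mem (I.nsmul_mem ha m) (hI b hb v), ?_⟩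
      have hnew : (m * N) • 𝟙 (CommGrp.mk Y) - (m • a + b ≫ v) = m • v - b ≫ v := by
        simp only [v, smul_sub, mul_nsmul']
        abel
      intro i hi
      rw [hnew, Preadditive.sub_comp, Preadditive.nsmul_comp, Category.assoc]
      rcases Finset.mem_insert.1 hi with rfl | his
      · show m • (v ≫ ψ i) - ((v ≫ ψ i) ≫ y) ≫ v ≫ ψ i = 0
        rw [Category.assoc (v ≫ ψ i) y, hy, sub_self]
      · rw [show v ≫ ψ i = 0 from hs i his, Limits.comp_zero, smul_zero, sub_zero]
  obtain ⟨N, a, hN, ⟨z, hz⟩, hs⟩ := key Finset.univ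
  refine ⟨N, z, hN, ?_⟩
  have h0 := h _ fun i => hs i (Finset.mem_univ i)
  rw [sub_eq_zero] at h0
  exact hz.trans h0.symm

/-- The common kernel of a finite family of homomorphisms. -/
theorem exists_common_kernel {n : ℕ} (ψ : Fin n → EndAV.Hom Y A) :
    ∃ (C : Over (Spec (CommRingCat.of k))) (_ : GrpObj C) (i : C ⟶ Y), IsMonHom i ∧ IsClosedImmersion i.left ∧
      (∀ j, i ≫ (ψ j).toHom = 1) ∧
      ∀ (T : Over (Spec (CommRingCat.of k))) (x : T ⟶ Y), (∀ j, x ≫ (ψ j).toHom = 1) → ∃ y : T ⟶ C, y ≫ i = x := by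
  induction n with
  | zero => exact ⟨Y, inferInstance, 𝟙 Y, inferInstance, inferInstanceAs (IsClosedImmersion (𝟙 _)),
      fun j => Fin.elim0 j, fun T x _ => ⟨x, Category.comp_id x⟩⟩
  | succ n ih =>
    obtain ⟨C, iC, i, him, hic, hi, huniv⟩ := ih (fun j => ψ j.castSucc)
    haveI := him
    haveI := hic
    obtain ⟨D, iD, e, hem, hec, -, hek⟩ := GrpSchLib.exists_kernel (i ≫ (ψ (Fin.last n)).toHom)
    haveI := hem
    haveI := hec
    refine ⟨D, iD, e ≫ i, inferInstance, inferInstanceAs (IsClosedImmersion (e.left ≫ i.left)), fun j => ?_, fun T x hx => ?_⟩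
    · induction j using Fin.lastCases with
      | last => rw [Category.assoc, hek.w, ← Hom.one_def]
      | cast j => rw [Category.assoc, hi, MonObj.comp_one]
    · obtain ⟨y, hy⟩ := huniv T x fun j => hx _
      refine ⟨hek.lift y (toUnit _) (by rw [← Category.assoc, hy, hx, Hom.one_def]), ?_⟩
      rw [hek.lift_fst_assoc, hy]

omit [IsCommMonObj Y] [IsCommMonObj A] in
theorem epi_of_surjective (q : Y ⟶ A) [IsMonHom q] [Surjective q.left] : Epi q := by
  haveI : IsReduced A.left := ChowExist.isReduced_left A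
  haveI : QuasiCompact q.left := by
    haveI : QuasiCompact (q.left ≫ A.hom) := by rw [Over.w q]; infer_instance
    exact QuasiCompact.of_comp q.left A.hom
  haveI : Flat q.left := GrpSchLib.flat_of_surjective_hom q
  haveI := Flat.epi_of_flat_of_surjective q.left
  exact (Over.forget _).epi_of_epi_map (inferInstanceAs (Epi q.left))

theorem epi_hom {Q : Over (Spec (CommRingCat.of k))} [GrpObj Q] [IsCommMonObj Q] [IsProper Q.hom]
    [GeometricallyIntegral Q.hom] (q : EndAV.Hom Y Q) [Surjective q.toHom.left] {Z : Over (Spec (CommRingCat.of k))}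
    [GrpObj Z] [IsCommMonObj Z] {a b : EndAV.Hom Q Z} (h : q ≫ a = q ≫ b) : a = b := by
  haveI := epi_of_surjective q.toHom
  exact EndAV.Hom.ext ((cancel_epi q.toHom).1 (congrArg EndAV.Hom.toHom h))

/-- Quotient by a finite subgroup, with its Frobenius. -/
theorem exists_quot_frob [Finite k] (P : Polynomial ℤ)
    (πY : Y ⟶ Y) [IsMonHom πY] (hπYle : ∀ U : Y.left.Opens, U ≤ πY.left ⁻¹ᵁ U)
    (hπYapp : ∀ (U : Y.left.Opens) (s : Γ(Y.left, U)), (πY.left.appLE U U (hπYle U)).hom s = s ^ Nat.card k)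
    (hPY : Polynomial.eval₂ (Int.castRingHom (EndAV.End Y)) (EndAV.End.of πY) P = 0)
    {H : Over (Spec (CommRingCat.of k))} [GrpObj H] [IsFinite H.hom] (i : H ⟶ Y) [IsMonHom i] [IsClosedImmersion i.left] :
    ∃ (Q : Over (Spec (CommRingCat.of k))) (_ : GrpObj Q) (_ : IsCommMonObj Q) (_ : IsProper Q.hom)
      (_ : GeometricallyIntegral Q.hom) (πQ : Q ⟶ Q) (_ : IsMonHom πQ) (_ : πQ.left.base = 𝟙 _)
      (hπQle : ∀ U : Q.left.Opens, U ≤ πQ.left ⁻¹ᵁ U)
      (_ : ∀ (U : Q.left.Opens) (s : Γ(Q.left, U)), (πQ.left.appLE U U (hπQle U)).hom s = s ^ Nat.card k)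
      (_ : Polynomial.eval₂ (Int.castRingHom (EndAV.End Q)) (EndAV.End.of πQ) P = 0)
      (q : EndAV.Hom Y Q), Surjective q.toHom.left ∧ AlgGrp.IsKernel i q.toHom := by
  haveI : Mono i := Over.mono_of_mono_left i
  obtain ⟨Q, iQ, q, hQp, hQg, hqm, hqs, -, hqk⟩ := FiniteQuot.exists_quot i (ChowKernel.isNormalHom i)
  haveI := hQp
  haveI := hQg
  haveI := hqm
  haveI := ChowKernel.comm Q
  obtain ⟨πQ, hπQm, hπQle, hπQb, hπQapp⟩ := AVFrobExists.exists_frob Q
  haveI := hπQm
  haveI := Fintype.ofFinite k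
  obtain ⟨p, hp⟩ := CharP.exists k
  haveI := hp
  obtain ⟨r, hpp, hr⟩ := FiniteField.card k p
  haveI : Fact p.Prime := ⟨hpp⟩
  have hnat : πY ≫ q = q ≫ πQ := AVSemisimple.frob_natural q πY πQ (Nat.card k) p r
    (by rw [Nat.card_eq_fintype_card, hr]) hπYle hπYapp hπQle hπQapp
  let q' : EndAV.Hom Y Q := EndAV.Hom.of q
  have hnat' : (EndAV.End.of πY : EndAV.Hom Y Y) ≫ q' = q' ≫ (EndAV.End.of πQ : EndAV.Hom Q Q) :=
    EndAV.Hom.ext hnat
  let eY : Polynomial ℤ → EndAV.Hom Y Y := fun F =>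
    (Polynomial.eval₂ (Int.castRingHom (EndAV.End Y)) (EndAV.End.of πY) F : EndAV.End Y)
  let eQ : Polynomial ℤ → EndAV.Hom Q Q := fun F =>
    (Polynomial.eval₂ (Int.castRingHom (EndAV.End Q)) (EndAV.End.of πQ) F : EndAV.End Q)
  have hF : ∀ F : Polynomial ℤ, eY F ≫ q' = q' ≫ eQ F := by
    intro F
    simp only [eY, eQ]
    induction F using Polynomial.induction_on' with
    | add p p' h h' => rw [Polynomial.eval₂_add, Polynomial.eval₂_add, Preadditive.add_comp, Preadditive.comp_add, h, h']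
    | monomial n c =>
      rw [Polynomial.eval₂_monomial, Polynomial.eval₂_monomial]
      induction n with
      | zero =>
        rw [pow_zero, pow_zero, _root_.mul_one, _root_.mul_one, eq_intCast, eq_intCast]
        apply EndAV.Hom.ext
        show EndAV.End.toHom (c : EndAV.End Y) ≫ q = q ≫ EndAV.End.toHom (c : EndAV.End Q)
        rw [EndAV.End.toHom_intCast, EndAV.End.toHom_intCast, GrpObj.comp_zpow, GrpObj.zpow_comp, Category.id_comp,
          Category.comp_id]
      | succ n ih =>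
        rw [pow_succ, pow_succ, ← _root_.mul_assoc, ← _root_.mul_assoc]
        exact (Category.assoc _ _ _).trans ((congrArg (fun z => CategoryStruct.comp _ z) ih).trans
          (((Category.assoc _ _ _).symm.trans (congrArg (fun z => CategoryStruct.comp z _) hnat')).trans (Category.assoc _ _ _)))
  haveI : Surjective q'.toHom.left := hqs
  refine ⟨Q, iQ, inferInstance, hQp, hQg, πQ, hπQm, hπQb, hπQle, hπQapp, ?_, q', hqs, hqk⟩
  refine epi_hom q' ((hF P).symm.trans ?_)
  rw [show eY P = 0 from hPY]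
  exact Limits.zero_comp.trans Limits.comp_zero.symm

end Groth.Agent.AVTors.AntiEquiv
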