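import Mathlib.NumberTheory.Padics.ProperSpace
import Mathlib.LinearAlgebra.Matrix.ToLin
import Mathlib.RingTheory.PrincipalIdealDomain
import Mathlib.Topology.Algebra.Module.Basic
import Mathlib.Topology.Instances.Matrix

/-! Compactness for endomorphisms of finite free modules over the `l`-adic integers. -/

set_option autoImplicit false

universe u

open Filter Topology

namespace Groth.Agent.AVTors.PadicLimit

variable {l : ℕ} [Fact l.Prime]

/-- Submodules of finite modules are closed. -/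
theorem isClosed_submodule {M : Type*} [TopologicalSpace M] [T2Space M] [AddCommGroup M] [Module ℤ_[l] M]
    [IsTopologicalAddGroup M] [ContinuousSMul ℤ_[l] M] [Module.Finite ℤ_[l] M] (N : Submodule ℤ_[l] M) :
    IsClosed (N : Set M) := by
  haveI : IsNoetherian ℤ_[l] M := isNoetherian_of_isNoetherianRing_of_finite ℤ_[l] M
  obtain ⟨s, g, hg⟩ := Submodule.fg_iff_exists_fin_generating_family.1 (IsNoetherian.noetherian N)
  have hr : (N : Set M) = Set.range fun a : Fin s → ℤ_[l] => ∑ i, a i • g i := by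
    ext x
    rw [← hg, SetLike.mem_coe, Submodule.mem_span_range_iff_exists_fun]
    exact Iff.rfl
  rw [hr]
  exact (isCompact_range (by fun_prop)).isClosed

variable {T : Type u} [AddCommGroup T] [Module ℤ_[l] T] [Module.Free ℤ_[l] T] [Module.Finite ℤ_[l] T]

/-- A limit endomorphism. -/
theorem exists_limit (E : Submodule ℤ_[l] (Module.End ℤ_[l] T)) (W : Submodule ℤ_[l] T) (c : ℤ_[l])
    (e : ℕ → Module.End ℤ_[l] T) (he : ∀ j, e j ∈ E)
    (hle : ∀ j t, ∃ w ∈ W, ∃ x : T, e j t = w + (l : ℤ_[l]) ^ j • x)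
    (hge : ∀ j, ∀ w ∈ W, ∃ t, e j t = c • w) :
    ∃ f ∈ E, (∀ t, f t ∈ W) ∧ ∀ w ∈ W, ∃ t, f t = c • w := by
  classical
  let ι := Module.Free.ChooseBasisIndex ℤ_[l] T
  let b : Module.Basis ι ℤ_[l] T := Module.Free.chooseBasis ℤ_[l] T
  let Φ : Module.End ℤ_[l] T ≃ₗ[ℤ_[l]] Matrix ι ι ℤ_[l] := LinearMap.toMatrix b b
  let c₀ : T ≃ₗ[ℤ_[l]] (ι → ℤ_[l]) := b.equivFun
  have hΦ : ∀ f t, c₀ (f t) = (Φ f).mulVec (c₀ t) := fun f t => by
    simp only [c₀, Φ, Module.Basis.equivFun_apply]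
    exact (LinearMap.toMatrix_mulVec_repr b b f t).symm
  haveI : CompactSpace (Matrix ι ι ℤ_[l]) := inferInstanceAs (CompactSpace (ι → ι → ℤ_[l]))
  haveI : FirstCountableTopology (Matrix ι ι ℤ_[l]) :=
    inferInstanceAs (FirstCountableTopology (ι → ι → ℤ_[l]))
  haveI : Module.Finite ℤ_[l] (Matrix ι ι ℤ_[l]) := Module.Finite.equiv Φ
  haveI : IsTopologicalAddGroup (Matrix ι ι ℤ_[l]) := inferInstanceAs (IsTopologicalAddGroup (ι → ι → ℤ_[l]))
  haveI : ContinuousSMul ℤ_[l] (Matrix ι ι ℤ_[l]) := inferInstanceAs (ContinuousSMul ℤ_[l] (ι → ι → ℤ_[l]))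
  haveI : T2Space (Matrix ι ι ℤ_[l]) := inferInstanceAs (T2Space (ι → ι → ℤ_[l]))
  let E' : Submodule ℤ_[l] (Matrix ι ι ℤ_[l]) := E.map Φ.toLinearMap
  let W' : Submodule ℤ_[l] (ι → ℤ_[l]) := W.map c₀.toLinearMap
  have hEc : IsClosed (E' : Set (Matrix ι ι ℤ_[l])) := isClosed_submodule E'
  have hWc : IsClosed (W' : Set (ι → ℤ_[l])) := isClosed_submodule W'
  obtain ⟨A, φ, hφ, hA⟩ := CompactSpace.tendsto_subseq fun j => Φ (e j)
  obtain ⟨f, hfE, hfA⟩ : A ∈ E' :=
    hEc.mem_of_tendsto hA (Eventually.of_forall fun j => Submodule.mem_map_of_mem (he _))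
  have hcont : Continuous fun p : Matrix ι ι ℤ_[l] × (ι → ℤ_[l]) => p.1.mulVec p.2 :=
    continuous_fst.matrix_mulVec continuous_snd
  refine ⟨f, hfE, fun t => ?_, fun w hw => ?_⟩
  · choose w hw x hx using fun j => hle (φ j) t
    have h1 : Tendsto (fun j => c₀ (e (φ j) t)) atTop (𝓝 (c₀ (f t))) := by
      simp only [hΦ]
      rw [show Φ f = A from hfA]
      have h0 := (hcont.tendsto (A, c₀ t)).comp (Tendsto.prodMk_nhds hA (tendsto_const_nhds (x := c₀ t)))
      simpa only [Function.comp_def] using h0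
    have hl : ‖(l : ℤ_[l])‖ < 1 := by
      rw [PadicInt.norm_p]
      exact inv_lt_one_of_one_lt₀ (by exact_mod_cast (Fact.out : l.Prime).one_lt)
    have h2 : Tendsto (fun j => ((l : ℤ_[l]) ^ φ j) • c₀ (x j)) atTop (𝓝 0) := by
      rw [tendsto_pi_nhds]
      intro i
      refine squeeze_zero_norm (fun j => ?_) ((tendsto_pow_atTop_nhds_zero_of_lt_one (norm_nonneg _) hl).comp
        hφ.tendsto_atTop)
      rw [Pi.smul_apply, smul_eq_mul, norm_mul, norm_pow]
      exact mul_le_of_le_one_right (by positivity) (PadicInt.norm_le_one _)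
    have h3 : Tendsto (fun j => c₀ (w j)) atTop (𝓝 (c₀ (f t))) := by
      have h := h1.sub h2
      rw [sub_zero] at h
      refine h.congr fun j => ?_
      rw [hx, map_add, map_smul, add_sub_cancel_right]
    obtain ⟨w', hw', hw''⟩ := hWc.mem_of_tendsto h3 (Eventually.of_forall fun j => Submodule.mem_map_of_mem (hw j))
    exact c₀.injective hw'' ▸ hw'
  · choose t ht using fun j => hge (φ j) w hw
    obtain ⟨v, ψ, hψ, hv⟩ := CompactSpace.tendsto_subseq fun j => c₀ (t j)
    refine ⟨c₀.symm v, c₀.injective (tendsto_nhds_unique (l := (atTop : Filter ℕ)) ?_ tendsto_const_nhds)⟩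
    have h1 : Tendsto (fun j => (Φ (e (φ (ψ j)))).mulVec (c₀ (t (ψ j)))) atTop (𝓝 ((Φ f).mulVec v)) := by
      rw [show Φ f = A from hfA]
      have h0 := (hcont.tendsto (A, v)).comp ((hA.comp hψ.tendsto_atTop).prodMk_nhds hv)
      simpa only [Function.comp_def] using h0
    rw [hΦ, LinearEquiv.apply_symm_apply]
    refine h1.congr fun j => ?_
    rw [← hΦ, ht]

end Groth.Agent.AVTors.PadicLimit
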