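import Groth.Agent.AVTors.GalSub
import Groth.Agent.AVTors.FiniteQuot
import Groth.Agent.AVTors.PadicLimit
import Groth.Agent.AVTors.AntiEquiv
import Groth.Prelude.Def_AbDual

/-! Tate's argument: Galois-stable submodules of the Tate module from the finiteness condition. -/

set_option autoImplicit false
set_option linter.style.haveILetI false
set_option linter.unusedSectionVars false
set_option backward.isDefEq.respectTransparency false
set_option backward.isDefEq.respectTransparency.types false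
set_option maxHeartbeats 2000000
set_option synthInstance.maxHeartbeats 200000

universe u

open CategoryTheory CategoryTheory.Limits MonoidalCategory CartesianMonoidalCategory MonObj AlgebraicGeometry

namespace Groth.Agent.AVTors.TateArg

variable {k : Type u} [Field k] {Ω : Type u} [Field Ω] [Algebra k Ω] {l : ℕ} [Fact l.Prime]

/-- A component as a point. -/
noncomputable abbrev cmp (X : Over (Spec (CommRingCat.of k))) [GrpObj X] [IsCommMonObj X] (n : ℕ)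
    (t : AbDual.TateMod X l (SGA7.pt Ω)) : SGA7.pt Ω ⟶ X :=
  (AbDual.TateMod.component X l (SGA7.pt Ω) n t).toMul

variable {X Y : Over (Spec (CommRingCat.of k))} [GrpObj X] [IsCommMonObj X] [GrpObj Y] [IsCommMonObj Y]

theorem nsmul_shift (t : AbDual.TateMod X l (SGA7.pt Ω)) (j i : ℕ) :
    (l ^ j) • (t : ℕ → Additive (SGA7.pt Ω ⟶ X)) (i + j) = (t : ℕ → Additive (SGA7.pt Ω ⟶ X)) i := by
  induction j generalizing i with
  | zero => rw [pow_zero, one_nsmul, add_zero]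
  | succ j ih => rw [pow_succ, mul_nsmul', ← add_assoc, AbDual.TateMod.compat t (i + j), ih]

/-- An element with vanishing `m`-th component is divisible by `l ^ m`. -/
theorem exists_smul_of_component_eq (t : AbDual.TateMod X l (SGA7.pt Ω)) (m : ℕ) (h : cmp X m t = 1) :
    ∃ x : AbDual.TateMod X l (SGA7.pt Ω), (l : ℤ_[l]) ^ m • x = t := by
  refine ⟨⟨fun j => (t : ℕ → Additive (SGA7.pt Ω ⟶ X)) (j + m), fun j => ?_, fun j => ?_⟩, ?_⟩
  · dsimp only
    rw [add_comm j m, nsmul_shift]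
    exact h
  · dsimp only
    rw [show j + 1 + m = j + m + 1 by omega]
    exact AbDual.TateMod.compat t (j + m)
  · rw [← Nat.cast_pow, Nat.cast_smul_eq_nsmul]
    refine AbDual.TateMod.ext fun j => ?_
    exact nsmul_shift t m j

variable [IsProper X.hom] [GeometricallyIntegral X.hom]

/-- A Galois-stable group of `l`-power torsion points gives an isogeny. -/
theorem exists_isogeny [IsAlgClosure k Ω] (hl : (l : k) ≠ 0) (n : ℕ) (S : Subgroup (SGA7.pt Ω ⟶ X))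
    (htor : ∀ x ∈ S, x ^ (l ^ n) = 1) (hgal : ∀ (σ : Ω ≃ₐ[k] Ω), ∀ x ∈ S, SGA7.galAct σ x ∈ S) :
    ∃ (Q : Over (Spec (CommRingCat.of k))) (_ : GrpObj Q) (_ : IsCommMonObj Q) (_ : IsProper Q.hom)
      (_ : GeometricallyIntegral Q.hom) (u : X ⟶ Q) (_ : IsMonHom u) (v : Q ⟶ X) (_ : IsMonHom v),
      u ≫ v = (𝟙 X) ^ (l ^ n) ∧ v ≫ u = (𝟙 Q) ^ (l ^ n) ∧
      ∀ t : AbDual.TateMod X l (SGA7.pt Ω), cmp X n t ∈ S ↔
        ∃ z, AbDual.tateMapₗ (l := l) (T := SGA7.pt Ω) v z = t := by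
  haveI : IsAlgClosed Ω := IsAlgClosure.isAlgClosed k
  have hN : ((l ^ n : ℕ) : k) ≠ 0 := by rw [Nat.cast_pow]; exact pow_ne_zero n hl
  obtain ⟨K, iK, i, him, hic, hKf, hi, hpts⟩ := GalSub.exists_subgroup X (l ^ n) hN S htor hgal
  letI := iK
  haveI := him
  haveI := hic
  haveI := hKf
  haveI : Mono i := Over.mono_of_mono_left i
  obtain ⟨Q, iQ, u, hQp, hQg, hum, hus, huf, huk⟩ := FiniteQuot.exists_quot i
    (ChowKernel.isNormalHom i)
  letI := iQ
  haveI := hQp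
  haveI := hQg
  haveI := hum
  haveI := hus
  haveI := huf
  haveI := ChowKernel.comm Q
  haveI : QuasiCompact u.left := by
    haveI : QuasiCompact (u.left ≫ Q.hom) := by rw [Over.w u]; infer_instance
    exact QuasiCompact.of_comp u.left Q.hom
  haveI : IsMonHom ((𝟙 X) ^ (l ^ n) : X ⟶ X) := by
    rw [show ((𝟙 X) ^ (l ^ n) : X ⟶ X) = EndAV.Hom.toHom ((l ^ n) • 𝟙 (CommGrp.mk X)) from
      (EndAV.Hom.toHom_nsmul (l ^ n) (𝟙 (CommGrp.mk X))).symm]
    infer_instance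
  obtain ⟨v, hvm, huv⟩ := GalSub.exists_fac i u huk ((𝟙 X) ^ (l ^ n)) hi
  haveI := hvm
  haveI := AntiEquiv.epi_of_surjective u
  have hvu : v ≫ u = (𝟙 Q) ^ (l ^ n) := by
    rw [← cancel_epi u, ← Category.assoc, huv, MonObj.pow_comp, MonObj.comp_pow, Category.id_comp, Category.comp_id]
  haveI : IsFinite u.left := by
    obtain ⟨h1, -, -⟩ := AVDegLib.zpow_props (A := X) ((l ^ n : ℕ) : ℤ)
      (by exact_mod_cast (pow_pos (Fact.out : l.Prime).pos n).ne')
    rw [zpow_natCast, ← huv, Over.comp_left] at h1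
    haveI := h1
    haveI : IsSeparated (v.left ≫ X.hom) := by rw [Over.w v]; infer_instance
    haveI : IsSeparated v.left := IsSeparated.of_comp v.left X.hom
    exact MorphismProperty.of_postcomp (W := @IsFinite) (W' := @IsSeparated) u.left v.left inferInstance h1
  refine ⟨Q, iQ, inferInstance, hQp, hQg, u, hum, v, hvm, huv, hvu, fun t => ⟨fun ht => ?_, ?_⟩⟩
  · have hu0 : cmp X n t ≫ u = 1 := by
      obtain ⟨y, hy⟩ := (hpts _).2 ht
      rw [← hy, Category.assoc, huk.w, ← Category.assoc, comp_toUnit, Hom.one_def]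
    refine ⟨⟨fun m => Additive.ofMul (cmp X (m + n) t ≫ u), fun m => ?_, fun m => ?_⟩, ?_⟩
    · refine (AbDual.nsmul_comp u (l ^ m) _).symm.trans ?_
      refine (congrArg (fun z => Additive.ofMul (z.toMul ≫ u)) (?_ : _ = Additive.ofMul (cmp X n t))).trans
        (congrArg Additive.ofMul hu0)
      rw [add_comm m n]
      exact nsmul_shift t m n
    · rw [← AbDual.nsmul_comp, show m + 1 + n = m + n + 1 by omega]
      exact congrArg (fun z => Additive.ofMul (z.toMul ≫ u)) (AbDual.TateMod.compat t (m + n))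
    · refine AbDual.TateMod.ext fun m => ?_
      show Additive.ofMul ((cmp X (m + n) t ≫ u) ≫ v) = _
      rw [Category.assoc, huv, MonObj.comp_pow, Category.comp_id]
      exact nsmul_shift t n m
  · rintro ⟨z, rfl⟩
    obtain ⟨x, hx⟩ := exists_lift u (cmp Q n z)
    have hS : x ^ (l ^ n) ∈ S := by
      have h1 : (x ^ (l ^ n)) ≫ u = 1 := by
        rw [MonObj.pow_comp, hx]
        exact AbDual.TateMod.component_mem z n
      exact (hpts _).1 ⟨huk.lift _ _ (h1.trans Hom.one_def), huk.lift_fst _ _ _⟩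
    show cmp Q n z ≫ v ∈ S
    rw [← hx, Category.assoc, huv, MonObj.comp_pow, Category.comp_id]
    exact hS

/-- An isomorphism of schemes between abelian varieties gives a split epimorphism of abelian varieties. -/
theorem exists_hom_of_iso {A B : Over (Spec (CommRingCat.of k))} [GrpObj A] [IsCommMonObj A] [IsProper A.hom]
    [GeometricallyIntegral A.hom] [GrpObj B] [IsCommMonObj B] [IsProper B.hom] [GeometricallyIntegral B.hom]
    (φ : A ≅ B) : ∃ (g : A ⟶ B) (_ : IsMonHom g) (g' : B ⟶ A) (_ : IsMonHom g'), g' ≫ g = 𝟙 B := by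
  let g : A ⟶ B := φ.hom * (toUnit A ≫ η[A] ≫ φ.hom)⁻¹
  let g' : B ⟶ A := φ.inv * (toUnit B ≫ η[B] ≫ φ.inv)⁻¹
  have key : ∀ {A B : Over (Spec (CommRingCat.of k))} [GrpObj A] [GrpObj B] (f : A ⟶ B),
      η[A] ≫ (f * (toUnit A ≫ η[A] ≫ f)⁻¹) = η[B] := by
    intro A B _ _ f
    rw [MonObj.comp_mul, GrpObj.comp_inv, ← Category.assoc η[A] (toUnit A),
      toUnit_unique (η[A] ≫ toUnit A) (𝟙 _), Category.id_comp, mul_inv_cancel, Hom.one_def,
      toUnit_unique (toUnit _) (𝟙 _), Category.id_comp]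
  haveI hg : IsMonHom g := AVDegPoly.isMonHom_of_one g (key φ.hom)
  haveI hg' : IsMonHom g' := AVDegPoly.isMonHom_of_one g' (key φ.inv)
  refine ⟨g, hg, g', hg', ?_⟩
  show (φ.inv * (toUnit B ≫ η[B] ≫ φ.inv)⁻¹) ≫ g = 𝟙 B
  rw [MonObj.mul_comp, GrpObj.inv_comp]
  show φ.inv ≫ (φ.hom * (toUnit A ≫ η[A] ≫ φ.hom)⁻¹) *
    ((toUnit B ≫ η[B] ≫ φ.inv) ≫ (φ.hom * (toUnit A ≫ η[A] ≫ φ.hom)⁻¹))⁻¹ = 𝟙 B
  simp only [MonObj.comp_mul, GrpObj.comp_inv, Category.assoc, comp_toUnit_assoc, φ.inv_hom_id,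
    Category.comp_id]
  rw [mul_inv_rev, inv_inv, ← Hom.one_def]
  group

/-- Tate's lemma. -/
theorem exists_span_range [IsAlgClosure k Ω] (hl : (l : k) ≠ 0)
    (hFin : (∃ (J : Type u) (_ : Finite J) (F : J → Over (Spec (CommRingCat.of k))),
        ∀ (Y : Over (Spec (CommRingCat.of k))) [GrpObj Y] [IsCommMonObj Y] [IsProper Y.hom] [GeometricallyIntegral Y.hom]
          (u : X ⟶ Y) [IsMonHom u] (v : Y ⟶ X) [IsMonHom v] (m : ℕ),
          u ≫ v = (𝟙 X) ^ (l ^ m) → v ≫ u = (𝟙 Y) ^ (l ^ m) → ∃ i, Nonempty (Y ≅ F i)))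
    [Module.Free ℤ_[l] (AbDual.TateMod X l (SGA7.pt Ω))] [Module.Finite ℤ_[l] (AbDual.TateMod X l (SGA7.pt Ω))]
    (W : Submodule ℤ_[l] (AbDual.TateMod X l (SGA7.pt Ω)))
    (hW : ∀ (σ : Ω ≃ₐ[k] Ω), ∀ w ∈ W, ∀ n, ∃ w' ∈ W, SGA7.galAct σ (cmp X n w) = cmp X n w') :
    ∃ f ∈ Submodule.span ℤ_[l] {ψ : Module.End ℤ_[l] (AbDual.TateMod X l (SGA7.pt Ω)) |
        ∃ (f : X ⟶ X) (_ : IsMonHom f), ψ = AbDual.tateMapₗ (l := l) (T := SGA7.pt Ω) f},
      (∀ t, f t ∈ W) ∧ ∃ c : ℤ_[l], c ≠ 0 ∧ ∀ w ∈ W, ∃ t, f t = c • w := by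
  let S : ℕ → Subgroup (SGA7.pt Ω ⟶ X) := fun n =>
    { carrier := {x | ∃ w ∈ W, cmp X n w = x}
      one_mem' := ⟨0, W.zero_mem, by simp [cmp]⟩
      mul_mem' := by
        rintro _ _ ⟨a, ha, rfl⟩ ⟨b, hb, rfl⟩
        exact ⟨a + b, W.add_mem ha hb, by simp [cmp]⟩
      inv_mem' := by
        rintro _ ⟨a, ha, rfl⟩
        exact ⟨-a, W.neg_mem ha, by simp [cmp]⟩ }
  have hex := fun n => exists_isogeny (X := X) (Ω := Ω) hl n (S n)
    (by rintro _ ⟨w, -, rfl⟩; exact AbDual.TateMod.component_mem w n)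
    (by rintro σ _ ⟨w, hw, rfl⟩; obtain ⟨w', hw', h⟩ := hW σ w hw n; exact ⟨w', hw', h.symm⟩)
  choose Q iQ hQc hQp hQg u hum v hvm huv hvu hv using hex
  obtain ⟨J, hJ, F, hF⟩ := hFin
  have hidx : ∀ n, ∃ i, Nonempty (Q n ≅ F i) := fun n =>
    @hF (Q n) (iQ n) (hQc n) (hQp n) (hQg n) (u n) (hum n) (v n) (hvm n) n (huv n) (hvu n)
  choose idx hidx using hidx
  obtain ⟨i₀, hi₀⟩ := Finite.exists_infinite_fiber idx
  have hinf : {n | idx n = i₀}.Infinite := Set.infinite_coe_iff.1 hi₀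
  obtain ⟨n₀, hn₀⟩ := hinf.nonempty
  choose nj hnj hgt using fun j : ℕ => hinf.exists_gt j
  letI := iQ n₀
  haveI := hQc n₀
  haveI := hQp n₀
  haveI := hQg n₀
  haveI := hum n₀
  haveI := hvm n₀
  have hstep : ∀ j, ∃ e ∈ Submodule.span ℤ_[l] {ψ : Module.End ℤ_[l] (AbDual.TateMod X l (SGA7.pt Ω)) |
        ∃ (f : X ⟶ X) (_ : IsMonHom f), ψ = AbDual.tateMapₗ (l := l) (T := SGA7.pt Ω) f},
      (∀ t, ∃ w ∈ W, ∃ x, e t = w + (l : ℤ_[l]) ^ j • x) ∧
        ∀ w ∈ W, ∃ t, e t = (l : ℤ_[l]) ^ n₀ • w := by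
    intro j
    letI := iQ (nj j)
    haveI := hQc (nj j)
    haveI := hQp (nj j)
    haveI := hQg (nj j)
    haveI := hum (nj j)
    haveI := hvm (nj j)
    obtain ⟨a⟩ := hidx n₀
    obtain ⟨b⟩ := hidx (nj j)
    rw [show idx n₀ = i₀ from hn₀] at a
    rw [show idx (nj j) = i₀ from hnj j] at b
    obtain ⟨g, hg, g', hg', hgg⟩ := exists_hom_of_iso (a ≪≫ b.symm)
    haveI := hg
    haveI := hg'
    refine ⟨AbDual.tateMapₗ (l := l) (T := SGA7.pt Ω) (u n₀ ≫ g ≫ v (nj j)),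
      Submodule.subset_span ⟨_, inferInstance, rfl⟩, fun t => ?_, fun w hw => ?_⟩
    · obtain ⟨w', hw', hw''⟩ := (hv (nj j) (AbDual.tateMapₗ (l := l) (T := SGA7.pt Ω) (u n₀ ≫ g ≫ v (nj j)) t)).2
        ⟨AbDual.tateMapₗ (l := l) (T := SGA7.pt Ω) (u n₀ ≫ g) t, AbDual.TateMod.ext fun m =>
          congrArg Additive.ofMul (by
            show (_ ≫ u n₀ ≫ g) ≫ v (nj j) = _ ≫ u n₀ ≫ g ≫ v (nj j)
            simp only [Category.assoc])⟩
      obtain ⟨x, hx⟩ := exists_smul_of_component_eq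
        (AbDual.tateMapₗ (l := l) (T := SGA7.pt Ω) (u n₀ ≫ g ≫ v (nj j)) t - w') (nj j) (by
          show (AbDual.TateMod.component X l (SGA7.pt Ω) (nj j) _).toMul = 1
          rw [map_sub, toMul_sub, div_eq_one]
          exact hw''.symm)
      refine ⟨w', hw', (l : ℤ_[l]) ^ (nj j - j) • x, ?_⟩
      rw [smul_smul, ← pow_add, Nat.add_sub_cancel' (hgt j).le, hx]
      abel
    · obtain ⟨z, hz⟩ := (hv (nj j) w).1 ⟨w, hw, rfl⟩
      refine ⟨AbDual.tateMapₗ (l := l) (T := SGA7.pt Ω) (v n₀)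
        (AbDual.tateMapₗ (l := l) (T := SGA7.pt Ω) g' z), ?_⟩
      rw [← hz, ← map_smul, ← Nat.cast_pow, Nat.cast_smul_eq_nsmul]
      refine AbDual.TateMod.ext fun m => congrArg Additive.ofMul ?_
      show ((cmp (Q (nj j)) m z ≫ g') ≫ v n₀) ≫ u n₀ ≫ g ≫ v (nj j) = (cmp (Q (nj j)) m z ^ (l ^ n₀)) ≫ v (nj j)
      rw [Category.assoc (cmp _ m z ≫ g'), reassoc_of% (hvu n₀), MonObj.pow_comp, MonObj.comp_pow, Category.id_comp,
        Category.assoc, reassoc_of% hgg, MonObj.pow_comp]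
  choose e he hle hge using hstep
  obtain ⟨f, hf, h1, h2⟩ := PadicLimit.exists_limit _ W ((l : ℤ_[l]) ^ n₀) e he hle hge
  exact ⟨f, hf, h1, _, pow_ne_zero _ (by exact_mod_cast (Fact.out : l.Prime).ne_zero), h2⟩

end Groth.Agent.AVTors.TateArg
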