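import Groth.Agent.AVTors.TatePt
import Mathlib.RingTheory.Coprime.Lemmas

/-!
Geometric points under an isogeny.
-/

set_option autoImplicit false
set_option linter.style.haveILetI false
set_option linter.unusedSectionVars false
set_option backward.isDefEq.respectTransparency false
set_option backward.isDefEq.respectTransparency.types false
set_option maxHeartbeats 1000000

universe u

open CategoryTheory CategoryTheory.Limits MonoidalCategory CartesianMonoidalCategory MonObj AlgebraicGeometry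

namespace Groth.Agent.AVTors

variable {k : Type u} [Field k] {Ω : Type u} [Field Ω] [Algebra k Ω] [IsAlgClosed Ω]
  {X Y : Over (Spec (CommRingCat.of k))}

/-- The lifts of a point along a finite morphism. -/
noncomputable def liftsEquiv (f : X ⟶ Y) [IsFinite f.left] (y : SGA7.pt Ω ⟶ Y) :
    {x : SGA7.pt Ω ⟶ X // x ≫ f = y} ≃ ↥(pullback y.left f.left) :=
  haveI : IsFinite (pullback.fst y.left f.left) := MorphismProperty.pullback_fst (P := @IsFinite) _ _ inferInstance
  Equiv.trans
    { toFun := fun x => ⟨pullback.lift (𝟙 _) x.1.left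
          ((Category.id_comp _).trans (congrArg Over.Hom.left x.2).symm), pullback.lift_fst _ _ _⟩
      invFun := fun p => ⟨Over.homMk (p.1 ≫ pullback.snd _ _) (by
          rw [Category.assoc, ← Over.w f, ← pullback.condition_assoc, Over.w y, ← Category.assoc, p.2]
          exact Category.id_comp _),
        Over.OverMorphism.ext (by
          show (p.1 ≫ pullback.snd _ _) ≫ f.left = y.left
          rw [Category.assoc, ← pullback.condition, ← Category.assoc, p.2]
          exact Category.id_comp _)⟩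
      left_inv := fun x => Subtype.ext (Over.OverMorphism.ext (pullback.lift_snd _ _ _))
      right_inv := fun p => Subtype.ext (pullback.hom_ext ((pullback.lift_fst _ _ _).trans p.2.symm)
        (pullback.lift_snd _ _ _)) }
    (sectEquiv (pullback.fst y.left f.left))

theorem finite_lifts (f : X ⟶ Y) [IsFinite f.left] (y : SGA7.pt Ω ⟶ Y) :
    Finite {x : SGA7.pt Ω ⟶ X // x ≫ f = y} := by
  haveI : IsFinite (pullback.fst y.left f.left) := MorphismProperty.pullback_fst (P := @IsFinite) _ _ inferInstance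
  have hfin : ((pullback.fst y.left f.left) ⁻¹' {IsLocalRing.closedPoint Ω}).Finite :=
    (pullback.fst y.left f.left).finite_preimage_singleton _
  haveI : Finite ↥(pullback y.left f.left) := Set.finite_univ_iff.1 (hfin.subset fun w _ =>
    show _ = _ from @Subsingleton.elim (Spec (CommRingCat.of Ω)) inferInstance _ _)
  exact Finite.of_equiv _ (liftsEquiv f y).symm

theorem exists_lift (f : X ⟶ Y) [IsFinite f.left] [Surjective f.left] (y : SGA7.pt Ω ⟶ Y) :
    ∃ x : SGA7.pt Ω ⟶ X, x ≫ f = y := by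
  haveI : Surjective (pullback.fst y.left f.left) := MorphismProperty.pullback_fst (P := @Surjective) _ _ inferInstance
  obtain ⟨w, -⟩ := (pullback.fst y.left f.left).surjective (IsLocalRing.closedPoint Ω)
  exact ⟨_, ((liftsEquiv f y).symm w).2⟩

variable [GrpObj X] [IsCommMonObj X] [GrpObj Y] [IsCommMonObj Y] (f : X ⟶ Y) [IsMonHom f]

/-- The kernel on points. -/
noncomputable def kerPts (Ω : Type u) [Field Ω] [Algebra k Ω] : Subgroup (SGA7.pt Ω ⟶ X) where
  carrier := {x | x ≫ f = 1}
  one_mem' := MonObj.one_comp f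
  mul_mem' := fun {a b} ha hb => by
    show (a * b) ≫ f = 1
    rw [MonObj.mul_comp, show a ≫ f = 1 from ha, show b ≫ f = 1 from hb, _root_.one_mul]
  inv_mem' := fun {a} ha => by
    show a⁻¹ ≫ f = 1
    rw [GrpObj.inv_comp, show a ≫ f = 1 from ha, inv_one]

theorem finite_kerPts [IsFinite f.left] : Finite (kerPts f Ω) := finite_lifts f 1

theorem pow_card_kerPts [IsFinite f.left] (x : SGA7.pt Ω ⟶ X) (h : x ≫ f = 1) : x ^ Nat.card (kerPts f Ω) = 1 :=
  congrArg Subtype.val (pow_card_eq_one' (x := (⟨x, h⟩ : kerPts f Ω)))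

theorem exists_factor_card [IsFinite f.left] (l : ℕ) (hl : l.Prime) :
    ∃ a u, Nat.card (kerPts f Ω) = l ^ a * u ∧ l.Coprime u := by
  haveI := finite_kerPts (Ω := Ω) f
  obtain ⟨a, u, hu, heq⟩ := Nat.exists_eq_pow_mul_and_not_dvd (Nat.card_pos (α := kerPts f Ω)).ne' l hl.ne_one
  exact ⟨a, u, heq, hl.coprime_iff_not_dvd.2 hu⟩

/-- A prime power torsion point lifts to a prime power torsion point. -/
theorem exists_lift_torsion [IsFinite f.left] [Surjective f.left] (l : ℕ) {a u : ℕ}
    (hcard : Nat.card (kerPts f Ω) = l ^ a * u) (hu : l.Coprime u) (m : ℕ) (y : SGA7.pt Ω ⟶ Y) (hy : y ^ (l ^ m) = 1) :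
    ∃ x : SGA7.pt Ω ⟶ X, x ≫ f = y ∧ x ^ (l ^ (m + a)) = 1 := by
  obtain ⟨x, hx⟩ := exists_lift f y
  have h1 : (x ^ (l ^ m)) ^ (l ^ a * u) = 1 := by
    rw [← hcard]
    exact pow_card_kerPts f _ (by rw [MonObj.pow_comp, hx, hy])
  obtain ⟨t, s, hts⟩ : IsCoprime (u : ℤ) ((l ^ m : ℕ) : ℤ) := Nat.isCoprime_iff_coprime.2 (hu.symm.pow_right m)
  refine ⟨x ^ ((u : ℤ) * t), ?_, ?_⟩
  · have hy' : y ^ ((l ^ m : ℕ) : ℤ) = 1 := by rw [zpow_natCast]; exact hy
    rw [GrpObj.zpow_comp, hx]
    calc y ^ ((u : ℤ) * t) = y ^ ((u : ℤ) * t) * (y ^ ((l ^ m : ℕ) : ℤ)) ^ s := by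
          rw [hy', one_zpow, _root_.mul_one]
      _ = y ^ ((u : ℤ) * t + ((l ^ m : ℕ) : ℤ) * s) := by rw [zpow_add, ← zpow_mul]
      _ = y := by rw [show (u : ℤ) * t + ((l ^ m : ℕ) : ℤ) * s = 1 by rw [← hts]; ring, zpow_one]
  · rw [← zpow_natCast, ← zpow_mul, show (u : ℤ) * t * ((l ^ (m + a) : ℕ) : ℤ) = ((l ^ m * (l ^ a * u) : ℕ) : ℤ) * t by
      push_cast; rw [pow_add]; ring, zpow_mul, zpow_natCast, pow_mul, h1, one_zpow]

end Groth.Agent.AVTors
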