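import Groth.Agent.AVTors.AntiEquiv
import Groth.Agent.H23.MaxAbelian
import Groth.Agent.Lib.AVHomLattice

/-! Finite powers of an abelian variety and images of homomorphisms, with Frobenius. -/

set_option autoImplicit false
set_option linter.style.haveILetI false
set_option backward.isDefEq.respectTransparency false
set_option backward.isDefEq.respectTransparency.types false
set_option maxHeartbeats 2000000
set_option synthInstance.maxHeartbeats 200000

universe u

open CategoryTheory CategoryTheory.Limits MonoidalCategory CartesianMonoidalCategory MonObj AlgebraicGeometry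

namespace Groth.Agent.AVTors.AntiEquiv

variable {k : Type u} [Field k]
variable {Y Q : Over (Spec (CommRingCat.of k))}
  [GrpObj Y] [IsCommMonObj Y] [IsProper Y.hom] [GeometricallyIntegral Y.hom]
  [GrpObj Q] [IsCommMonObj Q] [IsProper Q.hom] [GeometricallyIntegral Q.hom]

/-- Polynomials in the Frobenius commute with every homomorphism. -/
theorem frob_eval [Finite k] (πY : Y ⟶ Y) [IsMonHom πY] (hYle : ∀ U : Y.left.Opens, U ≤ πY.left ⁻¹ᵁ U)
    (hY : ∀ (U : Y.left.Opens) (s : Γ(Y.left, U)), (πY.left.appLE U U (hYle U)).hom s = s ^ Nat.card k)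
    (πQ : Q ⟶ Q) [IsMonHom πQ] (hQle : ∀ U : Q.left.Opens, U ≤ πQ.left ⁻¹ᵁ U)
    (hQ : ∀ (U : Q.left.Opens) (s : Γ(Q.left, U)), (πQ.left.appLE U U (hQle U)).hom s = s ^ Nat.card k)
    (q : EndAV.Hom Y Q) (F : Polynomial ℤ) :
    (show EndAV.Hom Y Y from (Polynomial.eval₂ (Int.castRingHom (EndAV.End Y)) (EndAV.End.of πY) F : EndAV.End Y)) ≫ q =
      q ≫ (show EndAV.Hom Q Q from (Polynomial.eval₂ (Int.castRingHom (EndAV.End Q)) (EndAV.End.of πQ) F : EndAV.End Q)) := by
  haveI := Fintype.ofFinite k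
  obtain ⟨p, hp⟩ := CharP.exists k
  haveI := hp
  obtain ⟨r, hpp, hr⟩ := FiniteField.card k p
  haveI : Fact p.Prime := ⟨hpp⟩
  have hnat : πY ≫ q.toHom = q.toHom ≫ πQ := AVSemisimple.frob_natural q.toHom πY πQ (Nat.card k) p r
    (by rw [Nat.card_eq_fintype_card, hr]) hYle hY hQle hQ
  have hnat' : (EndAV.End.of πY : EndAV.Hom Y Y) ≫ q = q ≫ (EndAV.End.of πQ : EndAV.Hom Q Q) :=
    EndAV.Hom.ext hnat
  induction F using Polynomial.induction_on' with
  | add p p' h h' => rw [Polynomial.eval₂_add, Polynomial.eval₂_add, Preadditive.add_comp, Preadditive.comp_add, h, h']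
  | monomial n c =>
    rw [Polynomial.eval₂_monomial, Polynomial.eval₂_monomial]
    induction n with
    | zero =>
      rw [pow_zero, pow_zero, _root_.mul_one, _root_.mul_one, eq_intCast, eq_intCast]
      apply EndAV.Hom.ext
      show EndAV.End.toHom (c : EndAV.End Y) ≫ q.toHom = q.toHom ≫ EndAV.End.toHom (c : EndAV.End Q)
      rw [EndAV.End.toHom_intCast, EndAV.End.toHom_intCast, GrpObj.comp_zpow, GrpObj.zpow_comp, Category.id_comp,
        Category.comp_id]
    | succ n ih =>
      rw [pow_succ, pow_succ, ← _root_.mul_assoc, ← _root_.mul_assoc]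
      exact (Category.assoc _ _ _).trans ((congrArg (fun z => CategoryStruct.comp _ z) ih).trans
        (((Category.assoc _ _ _).symm.trans (congrArg (fun z => CategoryStruct.comp z _) hnat')).trans (Category.assoc _ _ _)))

/-- Finite powers, with projections and inclusions. -/
theorem exists_power (A : Over (Spec (CommRingCat.of k))) [GrpObj A] [IsCommMonObj A] [IsProper A.hom]
    [GeometricallyIntegral A.hom] (n : ℕ) :
    ∃ (B : Over (Spec (CommRingCat.of k))) (_ : GrpObj B) (_ : IsCommMonObj B) (_ : IsProper B.hom)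
      (_ : GeometricallyIntegral B.hom) (pr : Fin n → EndAV.Hom B A) (inc : Fin n → EndAV.Hom A B),
      ∑ i, pr i ≫ inc i = 𝟙 (CommGrp.mk B) ∧ (∀ i, inc i ≫ pr i = 𝟙 (CommGrp.mk A)) ∧
        ∀ i j, i ≠ j → inc i ≫ pr j = 0 := by
  induction n with
  | zero =>
    haveI : IsProper (𝟙_ (Over (Spec (CommRingCat.of k)))).hom :=
      inferInstanceAs (IsProper (𝟙 (Spec (CommRingCat.of k))))
    haveI : GeometricallyIntegral (𝟙_ (Over (Spec (CommRingCat.of k)))).hom :=
      (H23.MaxAbelian.geometricallyIntegral_of_pullback (𝟙 (Spec (CommRingCat.of k))) fun L _ x =>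
        isIntegral_of_isOpenImmersion (pullback.snd (𝟙 (Spec (CommRingCat.of k))) x) :)
    refine ⟨𝟙_ _, inferInstance, inferInstance, inferInstance, inferInstance, Fin.elim0, Fin.elim0, ?_,
      fun i => i.elim0, fun i => i.elim0⟩
    exact EndAV.Hom.ext (toUnit_unique _ _)
  | succ n ih =>
    obtain ⟨B, iB, hBc, hBp, hBg, pr, inc, hsum, hd, ho⟩ := ih
    letI := iB
    haveI := hBc
    haveI := hBp
    haveI := hBg
    haveI : IsProper (A ⊗ B).hom := by
      rw [Over.tensorObj_hom]; infer_instance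
    haveI : GeometricallyIntegral (A ⊗ B).hom := H23.MaxAbelian.geometricallyIntegral_tensor A B
    haveI : IsCommMonObj (A ⊗ B) := ChowKernel.comm (A ⊗ B)
    let p₁ : EndAV.Hom (A ⊗ B) A := EndAV.Hom.of (fst A B)
    let p₂ : EndAV.Hom (A ⊗ B) B := EndAV.Hom.of (snd A B)
    haveI : IsMonHom (lift (𝟙 A) (1 : A ⟶ B)) := AVDegPoly.isMonHom_of_one _ (by
      apply CartesianMonoidalCategory.hom_ext <;>
        simp [MonObj.one_eq_one, MonObj.comp_one, MonObj.one_comp])
    haveI : IsMonHom (lift (1 : B ⟶ A) (𝟙 B)) := AVDegPoly.isMonHom_of_one _ (by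
      apply CartesianMonoidalCategory.hom_ext <;>
        simp [MonObj.one_eq_one, MonObj.comp_one, MonObj.one_comp])
    let i₁ : EndAV.Hom A (A ⊗ B) := EndAV.Hom.of (lift (𝟙 A) (1 : A ⟶ B))
    let i₂ : EndAV.Hom B (A ⊗ B) := EndAV.Hom.of (lift (1 : B ⟶ A) (𝟙 B))
    have h11 : i₁ ≫ p₁ = 𝟙 _ := EndAV.Hom.ext (lift_fst _ _)
    have h12 : i₁ ≫ p₂ = 0 := EndAV.Hom.ext (lift_snd _ _)
    have h21 : i₂ ≫ p₁ = 0 := EndAV.Hom.ext (lift_fst _ _)
    have h22 : i₂ ≫ p₂ = 𝟙 _ := EndAV.Hom.ext (lift_snd _ _)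
    refine ⟨A ⊗ B, inferInstance, inferInstance, inferInstance, inferInstance,
      Fin.cons p₁ (fun i => p₂ ≫ pr i), Fin.cons i₁ (fun i => inc i ≫ i₂), ?_, ?_, ?_⟩
    · rw [Fin.sum_univ_succ]
      simp only [Fin.cons_zero, Fin.cons_succ]
      rw [show ∑ i, (p₂ ≫ pr i) ≫ inc i ≫ i₂ = p₂ ≫ (∑ i, pr i ≫ inc i) ≫ i₂ by
        rw [Preadditive.sum_comp, Preadditive.comp_sum]
        exact Finset.sum_congr rfl fun i _ => by simp only [Category.assoc], hsum, Category.id_comp]
      apply EndAV.Hom.ext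
      simp only [EndAV.Hom.toHom_add, EndAV.Hom.toHom_comp, EndAV.Hom.toHom_id, p₁, p₂, i₁, i₂, EndAV.Hom.toHom_of]
      apply CartesianMonoidalCategory.hom_ext
      · rw [MonObj.mul_comp, Category.assoc, Category.assoc, lift_fst, lift_fst, Category.comp_id, Category.id_comp,
          MonObj.comp_one, _root_.mul_one]
      · rw [MonObj.mul_comp, Category.assoc, Category.assoc, lift_snd, lift_snd, Category.comp_id, Category.id_comp,
          MonObj.comp_one, _root_.one_mul]
    · intro i
      induction i using Fin.cases with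
      | zero => simp [h11]
      | succ i => simp only [Fin.cons_succ, Category.assoc]; rw [reassoc_of% h22, hd]
    · intro i j hij
      induction i using Fin.cases with
      | zero =>
        induction j using Fin.cases with
        | zero => exact absurd rfl hij
        | succ j => simp only [Fin.cons_zero, Fin.cons_succ]; rw [reassoc_of% h12, Limits.zero_comp]
      | succ i =>
        induction j using Fin.cases with
        | zero => simp only [Fin.cons_zero, Fin.cons_succ, Category.assoc, h21, Limits.comp_zero]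
        | succ j =>
          simp only [Fin.cons_succ, Category.assoc]
          rw [reassoc_of% h22]
          exact ho i j fun h => hij (congrArg Fin.succ h)

/-- The image of a homomorphism. -/
theorem exists_hom_image (e : EndAV.Hom Y Q) :
    ∃ (X : Over (Spec (CommRingCat.of k))) (_ : GrpObj X) (_ : IsCommMonObj X) (_ : IsProper X.hom)
      (_ : GeometricallyIntegral X.hom) (j : EndAV.Hom X Q) (e' : EndAV.Hom Y X),
      IsClosedImmersion j.toHom.left ∧ Surjective e'.toHom.left ∧ e' ≫ j = e := by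
  haveI : IsReduced Y.left := ChowExist.isReduced_left Y
  obtain ⟨X, iX, j, hjm, hjc, hXp, hXg, hr⟩ := H23.MaxAbelian.exists_image e.toHom
    ⟨η[Y], IsMonHom.one_hom e.toHom⟩
    ⟨μ[Y], by rw [IsMonHom.mul_hom e.toHom]; simp [Hom.mul_def]⟩
    ⟨GrpObj.inv, by rw [GrpObj.inv_eq_inv, GrpObj.inv_comp, Category.id_comp]⟩
  letI := iX
  haveI := hjm
  haveI := hjc
  haveI := hXp
  haveI := hXg
  haveI := ChowKernel.comm X
  obtain ⟨g, hg⟩ := H23.RedSub.exists_lift_closed e.toHom.left j.left hr.ge
  let g' : Y ⟶ X := Over.homMk g (by rw [← Over.w j, reassoc_of% hg, Over.w e.toHom])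
  have hg' : g' ≫ j = e.toHom := Over.OverMorphism.ext hg
  haveI : IsClosedImmersion j.left := hjc
  haveI : Mono j := Over.mono_of_mono_left j
  haveI : IsMonHom g' :=
    { one_hom := by rw [← cancel_mono j, Category.assoc, hg', IsMonHom.one_hom, IsMonHom.one_hom]
      mul_hom := by
        rw [← cancel_mono j, Category.assoc, Category.assoc, hg', IsMonHom.mul_hom, IsMonHom.mul_hom, ← hg']
        simp only [← MonoidalCategory.tensorHom_comp_tensorHom, Category.assoc] }
  refine ⟨X, iX, inferInstance, hXp, hXg, EndAV.Hom.of j, EndAV.Hom.of g', hjc, ⟨fun x => ?_⟩, EndAV.Hom.ext hg'⟩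
  obtain ⟨y, hy⟩ := hr.le ⟨x, rfl⟩
  refine ⟨y, (Scheme.Hom.isClosedEmbedding j.left).injective ?_⟩
  rw [← Scheme.Hom.comp_apply]
  show (g ≫ j.left) y = _
  rw [hg]
  exact hy

end Groth.Agent.AVTors.AntiEquiv
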