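import Groth.Agent.S15889
import Groth.Agent.GrpSchLib.QuasiFinitePow
import Groth.Agent.GrpSchLib.AffineHopf
import Mathlib.Algebra.CharP.Frobenius

/-!
A finite commutative group on which the `q`-th power map of functions is trivial is killed by `q`.
-/

set_option autoImplicit false
set_option linter.style.haveILetI false

universe u

open WithConv CategoryTheory MonoidalCategory CartesianMonoidalCategory MonObj AlgebraicGeometry

namespace Groth.Agent.AVTors.FrobKilled

variable (p : ℕ) [Fact p.Prime] {k : Type u} [Field k] [CharP k p] {A : Type u} [CommRing A] [HopfAlgebra k A]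
  [Coalgebra.IsCocomm k A] [Module.Finite k A] [CharP A p]

theorem powConv_pow_mem_span (r : ℕ) (a : A) :
    SGA3b.powConv k A (p ^ r) a ∈ Submodule.span k (Set.range fun b : A => b ^ p ^ r) := by
  induction r generalizing a with
  | zero =>
    refine Submodule.subset_span ⟨a, ?_⟩
    simp [SGA3b.powConv]
  | succ r ih =>
    classical
    let β := Module.Free.chooseBasis k A
    let n := Fintype.card (Module.Free.ChooseBasisIndex k A)
    let E := Fintype.equivFin (Module.Free.ChooseBasisIndex k A)
    let x : Fin n → CartDual.D k A := fun i => toConv (β.coord (E.symm i))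
    let e : Fin n → A := fun i => β (E.symm i)
    have hdual : ∀ a : A, a = ∑ i, x i a • e i := fun a => by
      conv_lhs => rw [← β.sum_repr a]
      exact Fintype.sum_equiv E _ _ fun i => by
        show β.repr a i • β i = β.coord (E.symm (E i)) a • β (E.symm (E i))
        rw [Equiv.symm_apply_apply]; rfl
    rw [pow_succ, GrpSchLib.QuasiFinitePow.powConv_mul, S15889.powConv_eq p x e hdual, map_sum]
    refine Submodule.sum_mem _ fun i _ => ?_
    rw [map_smul, map_pow]
    refine Submodule.smul_mem _ _ ?_
    refine Submodule.span_induction (p := fun z _ => z ^ p ∈ Submodule.span k (Set.range fun b : A => b ^ (p ^ r * p)))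
      ?_ ?_ ?_ ?_ (ih (e i))
    · rintro _ ⟨b, rfl⟩
      exact Submodule.subset_span ⟨b, by simp only [pow_mul]⟩
    · rw [zero_pow (Fact.out : p.Prime).ne_zero]; exact zero_mem _
    · intro y z _ _ hy hz
      rw [add_pow_char]; exact add_mem hy hz
    · intro c z _ hz
      rw [smul_pow]; exact Submodule.smul_mem _ _ hz

/-- If `a ^ q` is the constant `ε(a) ^ q` for all functions, multiplication by `q` is trivial. -/
theorem powConv_eq_counit (r : ℕ)
    (h : ∀ a : A, a ^ p ^ r = algebraMap k A (Bialgebra.counitAlgHom k A (a ^ p ^ r))) (a : A) :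
    SGA3b.powConv k A (p ^ r) a = algebraMap k A (Bialgebra.counitAlgHom k A a) := by
  have hmem : SGA3b.powConv k A (p ^ r) a ∈ (Submodule.span k {(1 : A)}) := by
    refine Submodule.span_le.2 ?_ (powConv_pow_mem_span p r a)
    rintro _ ⟨b, rfl⟩
    show b ^ p ^ r ∈ _
    rw [h b, Algebra.algebraMap_eq_smul_one]
    exact Submodule.smul_mem _ _ (Submodule.mem_span_singleton_self _)
  obtain ⟨c, hc⟩ := Submodule.mem_span_singleton.1 hmem
  rw [← Algebra.algebraMap_eq_smul_one] at hc
  have := GrpSchLib.QuasiFinitePow.counit_powConv (R := k) (C := A) (p ^ r) a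
  rw [← hc, AlgHom.commutes, Algebra.algebraMap_self, RingHom.id_apply] at this
  rw [← hc, this]

end Groth.Agent.AVTors.FrobKilled
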