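import Groth.Agent.AVTors.TateInj
import Groth.Agent.GrpSchLib.GeomRedDense
import Groth.Agent.H23.GeomConn
import Groth.Agent.H23.TorsRed
import Groth.Agent.S15608
import Mathlib.AlgebraicGeometry.AlgClosed.Basic

/-!
The torsion of order invertible in the field of a connected closed subgroup of an abelian variety is dense
and geometrically reduced.
-/

set_option autoImplicit false
set_option linter.style.haveILetI false
set_option backward.isDefEq.respectTransparency false
set_option backward.isDefEq.respectTransparency.types false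
set_option maxHeartbeats 1000000
set_option synthInstance.maxHeartbeats 100000

universe u

open CategoryTheory CategoryTheory.Limits MonoidalCategory CartesianMonoidalCategory MonObj AlgebraicGeometry

namespace Groth.Agent.AVTors.RedConn

variable {k : Type u} [Field k]

/-- Unramified schemes of finite type over a field are reduced. -/
theorem isReduced_of_unramified {L : Type u} [Field L] {W : Scheme.{u}} (f : W ⟶ Spec (CommRingCat.of L))
    [FormallyUnramified f] [LocallyOfFiniteType f] : AlgebraicGeometry.IsReduced W := by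
  have key : ∀ (A : CommRingCat.{u}) (ψ : CommRingCat.of L ⟶ A), ψ.hom.FormallyUnramified → ψ.hom.FiniteType →
      AlgebraicGeometry.IsReduced (Spec A) := fun A ψ h1 h2 => by
    letI : Algebra L A := ψ.hom.toAlgebra
    haveI : Algebra.FormallyUnramified L A := h1
    haveI : Algebra.FiniteType L A := h2
    haveI : _root_.IsReduced A := Algebra.FormallyUnramified.isReduced_of_field L A
    infer_instance
  haveI : ∀ U : W.affineCover.I₀, AlgebraicGeometry.IsReduced (W.affineCover.X U) := fun U => by
    obtain ⟨φ, hφ⟩ : ∃ φ, Spec.map φ = W.affineCover.f U ≫ f := ⟨_, Spec.map_preimage _⟩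
    haveI : FormallyUnramified (Spec.map φ) := by
      rw [hφ]; exact MorphismProperty.comp_mem _ _ _ inferInstance inferInstance
    haveI : LocallyOfFiniteType (Spec.map φ) := hφ ▸ inferInstance
    exact key _ φ ((HasRingHomProperty.Spec_iff (P := @FormallyUnramified)).1 ‹_›)
      ((HasRingHomProperty.Spec_iff (P := @LocallyOfFiniteType)).1 ‹_›)
  exact IsReduced.of_openCover W W.affineCover

theorem geometricallyReduced_of_unramified {W : Scheme.{u}} (f : W ⟶ Spec (CommRingCat.of k))
    [FormallyUnramified f] [LocallyOfFiniteType f] : GeometricallyReduced f := by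
  refine ⟨fun L _ y P a b h => ?_⟩
  haveI : FormallyUnramified b := MorphismProperty.of_isPullback h inferInstance
  haveI : LocallyOfFiniteType b := MorphismProperty.of_isPullback h inferInstance
  exact isReduced_of_unramified b

/-- A connected closed subgroup of an abelian variety over an algebraically closed field is, as a space, an
abelian variety: its torsion points of order prime to the characteristic are dense. -/
theorem dense_tors_pts {K : Type u} [Field K] [IsAlgClosed K] {A C : Over (Spec (CommRingCat.of K))} [GrpObj A]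
    [IsProper A.hom] [GeometricallyIntegral A.hom] [GrpObj C] (c : C ⟶ A) [IsMonHom c] [IsClosedImmersion c.left]
    [ConnectedSpace C.left] (l : ℕ) [Fact l.Prime] (hl : (l : K) ≠ 0) :
    Dense {w : C.left | ∃ (n : ℕ) (a : pt0 K ⟶ C), a ^ (l ^ n) = 1 ∧ a.left (IsLocalRing.closedPoint K) = w} := by
  letI : GrpObj (Over.mk A.hom) := inferInstanceAs (GrpObj A)
  haveI : Smooth A.hom := smooth_of_grpObj A.hom
  haveI : Mono c := Over.mono_of_mono_left _
  haveI : LocallyOfFiniteType C.hom := by rw [← Over.w c]; infer_instance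
  let φ : (pt0 K ⟶ C) →* (pt0 K ⟶ A) :=
    { toFun := fun a => a ≫ c
      map_one' := MonObj.one_comp _
      map_mul' := fun x y => MonObj.mul_comp x y _ }
  obtain ⟨H, iH, j, hj, hjcl, hHsm, hjr⟩ := S15608.result K A φ.range
  have hr : Set.range j.left = Set.range c.left := by
    refine hjr.trans (le_antisymm ?_ ?_)
    · refine closure_minimal ?_ c.left.isClosedEmbedding.isClosed_range
      rintro _ ⟨_, ⟨a, rfl⟩, rfl⟩
      exact ⟨a.left (IsLocalRing.closedPoint K), rfl⟩
    · rintro _ ⟨y, rfl⟩
      haveI : JacobsonSpace C.left := LocallyOfFiniteType.jacobsonSpace C.hom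
      refine map_mem_closure c.left.continuous (closure_closedPoints (X := C.left) ▸ Set.mem_univ y) ?_
      intro z hz
      refine ⟨φ (Over.homMk (pointOfClosedPoint C.hom z hz) (pointOfClosedPoint_comp _ z hz)), ⟨_, rfl⟩, ?_⟩
      exact congrArg c.left (pointOfClosedPoint_apply C.hom z hz _)
  haveI : IsProper H.hom := by rw [← Over.w j]; infer_instance
  haveI : ConnectedSpace H.left := by
    have h1 : _root_.IsConnected (j.left '' Set.univ) := by
      rw [Set.image_univ, hr, ← Set.image_univ]
      exact isConnected_univ.image _ c.left.continuous.continuousOn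
    rw [connectedSpace_iff_univ]
    refine ⟨?_, (j.left.isEmbedding.isInducing.isPreconnected_image).1 h1.2⟩
    obtain ⟨_, ⟨x, -, -⟩⟩ := h1.1
    exact ⟨x, trivial⟩
  haveI : GeometricallyReduced H.hom := H23.RigidGamma.geometricallyReduced_of_smooth H.hom
  haveI : GeometricallyIntegral H.hom := H23.MaxAbelian.geometricallyIntegral_of_connected H
  haveI : IsCommMonObj H := isCommMonObj_of_isProper_of_geometricallyIntegral H
  have hd := dense_lPow H l hl
  intro z
  obtain ⟨x, hx⟩ : c.left z ∈ Set.range j.left := hr.symm ▸ ⟨z, rfl⟩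
  have hxc : x ∈ closure _ := hd.symm ▸ Set.mem_univ x
  rw [c.left.isEmbedding.isInducing.closure_eq_preimage_closure_image]
  show c.left z ∈ closure _
  rw [← hx]
  refine map_mem_closure j.left.continuous hxc ?_
  rintro _ ⟨a, ⟨n, hn⟩, rfl⟩
  obtain ⟨e, he⟩ := exists_lift_pt c (a ≫ j) (hr ▸ ⟨_, rfl⟩)
  refine ⟨_, ⟨n, e, (cancel_mono c).1 ?_, rfl⟩, ?_⟩
  · rw [MonObj.pow_comp, he, ← MonObj.pow_comp, hn, MonObj.one_comp, MonObj.one_comp]
  · rw [← Scheme.Hom.comp_apply, ← Over.comp_left, he]; rfl

/-- The kernel of multiplication by an integer invertible in the field is étale. -/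
theorem _root_.Groth.Agent.AVTors.etale_tors {A : Over (Spec (CommRingCat.of k))} [GrpObj A] [IsProper A.hom]
    [GeometricallyIntegral A.hom] (N : ℕ) (hN : (N : k) ≠ 0) :
    Etale (pullback.fst η[A].left (𝟙 A ^ N : A ⟶ A).left) := by
  refine MorphismProperty.pullback_fst (P := @Etale) _ _ ?_
  have hu : IsUnit ((N : ℤ) : Γ(Spec (CommRingCat.of k), ⊤)) := by
    have h := (isUnit_iff_ne_zero.2 hN).map (Scheme.ΓSpecIso (CommRingCat.of k)).inv.hom
    rw [map_natCast] at h
    simpa using h
  haveI : GeometricallyConnected A.hom := H23.CubeAb.geometricallyConnected_of_integral A.hom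
  haveI : LocallyOfFinitePresentation A.hom := inferInstance
  letI : GrpObj (Over.mk A.hom) := inferInstanceAs (GrpObj A)
  haveI : Smooth A.hom := smooth_of_grpObj A.hom
  have := H23.MulEtale.etale_zpow (X := A) (N : ℤ) hu
  rwa [zpow_natCast] at this

variable {X Y : Over (Spec (CommRingCat.of k))} [GrpObj X] [IsProper X.hom] [GeometricallyIntegral X.hom]
  [GrpObj Y] (i : Y ⟶ X) [IsMonHom i] [IsClosedImmersion i.left]

include i

theorem geometricallyReduced_tors (N : ℕ) (hN : (N : k) ≠ 0) :
    GeometricallyReduced (pullback.fst η[Y].left (𝟙 Y ^ N : Y ⟶ Y).left) := by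
  haveI := etale_tors (A := X) N hN
  haveI : IsSeparated Y.hom := by rw [← Over.w i]; infer_instance
  let m : H23.TorsRed.tors Y N ⟶ H23.TorsRed.tors X N :=
    pullback.map η[Y].left (𝟙 Y ^ N : Y ⟶ Y).left η[X].left (𝟙 X ^ N : X ⟶ X).left (𝟙 _) i.left i.left
      (by rw [← Over.comp_left, IsMonHom.one_hom, Category.id_comp])
      (by rw [← Over.comp_left, ← Over.comp_left, MonObj.pow_comp, MonObj.comp_pow, Category.id_comp,
        Category.comp_id])
  have hm1 : m ≫ pullback.fst _ _ = pullback.fst η[Y].left (𝟙 Y ^ N : Y ⟶ Y).left := by simp [m]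
  have hm2 : m ≫ pullback.snd _ _ = pullback.snd η[Y].left (𝟙 Y ^ N : Y ⟶ Y).left ≫ i.left := by simp [m]
  haveI : Mono m := by
    refine ⟨fun {Z} g g' h => pullback.hom_ext ?_ ((cancel_mono i.left).1 ?_)⟩
    · rw [← hm1, reassoc_of% h]
    · rw [Category.assoc, Category.assoc, ← hm2, reassoc_of% h]
  haveI : FormallyUnramified m := inferInstance
  haveI : FormallyUnramified (pullback.fst η[Y].left (𝟙 Y ^ N : Y ⟶ Y).left) := by
    rw [← hm1]; exact MorphismProperty.comp_mem _ _ _ inferInstance inferInstance
  haveI : LocallyOfFiniteType Y.hom := by rw [← Over.w i]; infer_instance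
  haveI : LocallyOfFiniteType (𝟙 Y ^ N : Y ⟶ Y).left := by
    haveI : LocallyOfFiniteType ((𝟙 Y ^ N : Y ⟶ Y).left ≫ Y.hom) := by rw [Over.w]; infer_instance
    exact locallyOfFiniteType_of_comp _ Y.hom
  exact geometricallyReduced_of_unramified _

theorem dense_tors [ConnectedSpace Y.left] (l : ℕ) [Fact l.Prime] (hl : (l : k) ≠ 0) :
    Dense (⋃ n : ℕ, Set.range (pullback.snd η[Y].left (𝟙 Y ^ (l ^ n) : Y ⟶ Y).left)) := by
  let b : Spec (CommRingCat.of (AlgebraicClosure k)) ⟶ Spec (CommRingCat.of k) :=
    Spec.map (CommRingCat.ofHom (algebraMap k (AlgebraicClosure k)))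
  haveI : IsProper ((Over.pullback b).obj X).hom := inferInstanceAs (IsProper (pullback.snd X.hom b))
  haveI : GeometricallyIntegral ((Over.pullback b).obj X).hom :=
    inferInstanceAs (GeometricallyIntegral (pullback.snd X.hom b))
  haveI : IsClosedImmersion ((Over.pullback b).map i).left :=
    MorphismProperty.overPullbackMap (P := @IsClosedImmersion) b i inferInstance
  haveI : ConnectedSpace ((Over.pullback b).obj Y).left := by
    haveI : GeometricallyConnected Y.hom := H23.GeomConn.of_point k Y.hom η[Y].left (Over.w η[Y])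
    show ConnectedSpace ↥(pullback Y.hom b)
    infer_instance
  have hlK : (l : AlgebraicClosure k) ≠ 0 := fun h =>
    hl ((algebraMap k (AlgebraicClosure k)).injective (by rwa [map_natCast, map_zero]))
  have hd := dense_tors_pts ((Over.pullback b).map i) l hlK
  intro y
  obtain ⟨z, hz⟩ := (pullback.fst Y.hom b).surjective y
  subst hz
  refine map_mem_closure (pullback.fst Y.hom b).continuous (hd z) ?_
  rintro _ ⟨n, a, ha, rfl⟩
  refine Set.mem_iUnion.2 ⟨n, ?_⟩
  obtain ⟨q, rfl⟩ := (bcPts b (pt0 (AlgebraicClosure k)) Y).surjective a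
  have hq : q ^ (l ^ n) = 1 := (bcPts b _ Y).injective (by rw [map_pow, ha, map_one])
  let t := H23.TorsRed.ptsEquiv Y (l ^ n) _ ⟨q, hq⟩
  have ht : t.1 ≫ pullback.snd η[Y].left (𝟙 Y ^ (l ^ n) : Y ⟶ Y).left = q.left := pullback.lift_snd _ _ _
  refine ⟨t.1 (IsLocalRing.closedPoint (AlgebraicClosure k)), ?_⟩
  rw [← Scheme.Hom.comp_apply, ht]
  have hl' : (bcPts b _ Y q).left ≫ pullback.fst Y.hom b = q.left := by
    show ((Over.mapPullbackAdj b).homEquiv _ Y q).left ≫ pullback.fst Y.hom b = q.left
    simp [Adjunction.homEquiv_unit]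
    exact Category.id_comp _
  exact congrArg (fun f : Spec (CommRingCat.of (AlgebraicClosure k)) ⟶ Y.left =>
    f (IsLocalRing.closedPoint (AlgebraicClosure k))) hl'.symm

end Groth.Agent.AVTors.RedConn
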