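import Groth.Agent.AVTors.IsogPts
import Groth.Agent.AVTors.RedConn
import Groth.Agent.AVTors.DescSub
import Groth.Agent.GrpSchLib.IdentityComp
import Groth.Agent.AVTors.ChowKernel
import Groth.Agent.Lib.AVDegPoly
import Groth.Agent.GrpSchLib.SmoothReduced
import Groth.Prelude.Def_SGA7a

/-! Galois-stable groups of torsion points come from finite subgroup schemes. -/

set_option autoImplicit false
set_option linter.style.haveILetI false
set_option linter.unusedSectionVars false
set_option backward.isDefEq.respectTransparency false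
set_option backward.isDefEq.respectTransparency.types false
set_option maxHeartbeats 2000000
set_option synthInstance.maxHeartbeats 200000

universe u

open CategoryTheory CategoryTheory.Limits MonoidalCategory CartesianMonoidalCategory MonObj AlgebraicGeometry

namespace Groth.Agent.AVTors.GalSub

variable {k : Type u} [Field k] {Ω : Type u} [Field Ω] [Algebra k Ω]

/-- The closed point of the spectrum of the field of values. -/
noncomputable abbrev cp (Ω : Type u) [Field Ω] : Spec (CommRingCat.of Ω) := IsLocalRing.closedPoint Ω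

/-- Points with the same image are conjugate. -/
theorem exists_galAct_of_eq [IsAlgClosure k Ω] {X : Over (Spec (CommRingCat.of k))} (x y : SGA7.pt Ω ⟶ X)
    (h : x.left (cp Ω) = y.left (cp Ω)) : ∃ σ : Ω ≃ₐ[k] Ω, SGA7.galAct σ x = y := by
  obtain ⟨⟨p, a⟩, ha⟩ := (Scheme.SpecToEquivOfField Ω X.left).symm.surjective x.left
  obtain ⟨⟨q, b⟩, hb⟩ := (Scheme.SpecToEquivOfField Ω X.left).symm.surjective y.left
  change Spec.map a ≫ X.left.fromSpecResidueField p = x.left at ha
  change Spec.map b ≫ X.left.fromSpecResidueField q = y.left at hb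
  have hpq : p = q := by
    rw [← ha, ← hb, Scheme.Hom.comp_apply, Scheme.Hom.comp_apply, Scheme.fromSpecResidueField_apply,
      Scheme.fromSpecResidueField_apply] at h
    exact h
  subst hpq
  let c : CommRingCat.of k ⟶ X.left.residueField p := Spec.preimage (X.left.fromSpecResidueField p ≫ X.hom)
  have hca : c ≫ a = CommRingCat.ofHom (algebraMap k Ω) := by
    refine Spec.map_injective ?_
    rw [Spec.map_comp, Spec.map_preimage, ← Category.assoc, ha]
    exact Over.w x
  have hcb : c ≫ b = CommRingCat.ofHom (algebraMap k Ω) := by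
    refine Spec.map_injective ?_
    rw [Spec.map_comp, Spec.map_preimage, ← Category.assoc, hb]
    exact Over.w y
  letI : Algebra k (X.left.residueField p) := c.hom.toAlgebra
  let α : X.left.residueField p →ₐ[k] Ω :=
    { toRingHom := a.hom, commutes' := fun r => congrArg (fun z => z.hom r) hca }
  let β : X.left.residueField p →ₐ[k] Ω :=
    { toRingHom := b.hom, commutes' := fun r => congrArg (fun z => z.hom r) hcb }
  haveI : Algebra.IsAlgebraic k Ω := IsAlgClosure.isAlgebraic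
  haveI : IsAlgClosed Ω := IsAlgClosure.isAlgClosed k
  haveI : Normal k Ω := IsAlgClosure.normal k Ω
  let f : α.fieldRange →ₐ[k] Ω := β.comp (AlgEquiv.ofInjectiveField α).symm.toAlgHom
  let τ : Ω ≃ₐ[k] Ω := AlgEquiv.ofBijective (f.liftNormal Ω) (Algebra.IsAlgebraic.algHom_bijective _)
  have hτ : ∀ r, τ (α r) = β r := fun r => by
    have h1 := f.liftNormal_commutes Ω (AlgEquiv.ofInjectiveField α r)
    show f.liftNormal Ω (α r) = β r
    refine (h1.trans ?_)
    show β ((AlgEquiv.ofInjectiveField α).symm (AlgEquiv.ofInjectiveField α r)) = β r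
    rw [AlgEquiv.symm_apply_apply]
  refine ⟨τ, Over.OverMorphism.ext ?_⟩
  show Spec.map (CommRingCat.ofHom (τ : Ω →+* Ω)) ≫ x.left = y.left
  rw [← ha, ← hb, ← Category.assoc, ← Spec.map_comp]
  congr 2
  ext r
  exact hτ r

/-- Every point of a finite scheme carries a geometric point. -/
theorem exists_pt [IsAlgClosed Ω] {W : Over (Spec (CommRingCat.of k))} [IsFinite W.hom] (z : W.left) :
    ∃ x : SGA7.pt Ω ⟶ W, x.left (cp Ω) = z := by
  let v : Spec (CommRingCat.of Ω) ⟶ Spec (CommRingCat.of k) := (SGA7.pt (K := k) Ω).hom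
  haveI : Surjective v := ⟨fun _ => ⟨cp Ω, Subsingleton.elim (α := PrimeSpectrum k) _ _⟩⟩
  haveI : Surjective (pullback.snd v W.hom) := MorphismProperty.pullback_snd (P := @Surjective) _ _ inferInstance
  haveI : IsFinite (pullback.fst v W.hom) := MorphismProperty.pullback_fst (P := @IsFinite) _ _ inferInstance
  obtain ⟨w, hw⟩ := (pullback.snd v W.hom).surjective z
  obtain ⟨⟨p, hp⟩, hpw⟩ := (sectEquiv (pullback.fst v W.hom)).surjective w
  refine ⟨Over.homMk (p ≫ pullback.snd v W.hom) ?_, ?_⟩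
  · rw [Category.assoc, ← pullback.condition, ← Category.assoc, hp]
    exact Category.id_comp _
  · show (p ≫ pullback.snd v W.hom) (cp Ω) = z
    rw [Scheme.Hom.comp_apply, ← hw, ← hpw]
    rfl

/-- A finite Galois-stable group of torsion points, prime to the characteristic, is the group of points of a
finite subgroup scheme. -/
theorem exists_subgroup [IsAlgClosure k Ω] (A : Over (Spec (CommRingCat.of k))) [GrpObj A] [IsCommMonObj A]
    [IsProper A.hom] [GeometricallyIntegral A.hom] (N : ℕ) (hN : (N : k) ≠ 0)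
    (S : Subgroup (SGA7.pt Ω ⟶ A)) (htor : ∀ x ∈ S, x ^ N = 1)
    (hgal : ∀ (σ : Ω ≃ₐ[k] Ω), ∀ x ∈ S, SGA7.galAct σ x ∈ S) :
    ∃ (K : Over (Spec (CommRingCat.of k))) (_ : GrpObj K) (i : K ⟶ A), IsMonHom i ∧ IsClosedImmersion i.left ∧
      IsFinite K.hom ∧ i ≫ (𝟙 A ^ N) = 1 ∧ ∀ x : SGA7.pt Ω ⟶ A, (∃ y : SGA7.pt Ω ⟶ K, y ≫ i = x) ↔ x ∈ S := by
  haveI : IsAlgClosed Ω := IsAlgClosure.isAlgClosed k
  have hN0 : 0 < N := Nat.pos_of_ne_zero fun h => hN (by simp [h])
  haveI := DescSub.finite_tors (A := A) N hN0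
  haveI := etale_tors (A := A) N hN
  let E : Over (Spec (CommRingCat.of k)) := Over.mk (pullback.fst η[A].left (𝟙 A ^ N : A ⟶ A).left)
  let j : E ⟶ A := Over.homMk (pullback.snd η[A].left (𝟙 A ^ N : A ⟶ A).left) (by
    show pullback.snd η[A].left (𝟙 A ^ N : A ⟶ A).left ≫ A.hom = pullback.fst _ _
    rw [← Over.w (𝟙 A ^ N : A ⟶ A), ← pullback.condition_assoc, Over.w η[A]]
    exact Category.comp_id _)
  haveI : IsFinite E.hom := inferInstanceAs (IsFinite (pullback.fst η[A].left (𝟙 A ^ N : A ⟶ A).left))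
  haveI : Etale E.hom := inferInstanceAs (Etale (pullback.fst η[A].left (𝟙 A ^ N : A ⟶ A).left))
  haveI : IsSeparated A.hom := inferInstance
  haveI : IsClosedImmersion η[A].left := by
    haveI : IsClosedImmersion (η[A].left ≫ A.hom) := by
      rw [Over.w η[A]]
      exact inferInstanceAs (IsClosedImmersion (𝟙 (Spec (CommRingCat.of k))))
    exact IsClosedImmersion.of_comp η[A].left A.hom
  haveI hjc : IsClosedImmersion j.left :=
    MorphismProperty.pullback_snd (P := @IsClosedImmersion) _ _ inferInstance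
  have hj : j ≫ (𝟙 A ^ N) = toUnit E ≫ η[A] := Over.OverMorphism.ext pullback.condition.symm
  have hlift : ∀ x : SGA7.pt Ω ⟶ A, x ^ N = 1 → ∃ y : SGA7.pt Ω ⟶ E, y ≫ j = x := fun x hx => by
    refine ⟨Over.homMk (pullback.lift (toUnit (SGA7.pt Ω)).left x.left ?_) ?_, Over.OverMorphism.ext ?_⟩
    · rw [← Over.comp_left, ← Over.comp_left, MonObj.comp_pow, Category.comp_id, hx, Hom.one_def]
    · exact (pullback.lift_fst _ _ _).trans ((Category.comp_id _).symm.trans (Over.w (toUnit (SGA7.pt Ω))))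
    · exact pullback.lift_snd _ _ _
  let Z : Set E.left := {z | ∃ y : SGA7.pt Ω ⟶ E, y ≫ j ∈ S ∧ y.left (cp Ω) = z}
  haveI : DiscreteTopology E.left := by
    haveI : Finite E.left := Set.finite_univ_iff.1 <| (E.hom.finite_preimage_singleton (IsLocalRing.closedPoint k)).subset
      fun x _ => Subsingleton.elim (α := Spec (CommRingCat.of k)) _ _
    haveI : T1Space E.left := ⟨fun x => isClosed_point E.hom x⟩
    infer_instance
  let U : E.left.Opens := ⟨Z, isOpen_discrete _⟩
  let K : Over (Spec (CommRingCat.of k)) := Over.mk (U.ι ≫ E.hom)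
  let e : K ⟶ E := Over.homMk U.ι rfl
  haveI : IsOpenImmersion e.left := inferInstanceAs (IsOpenImmersion U.ι)
  haveI : IsClosedImmersion e.left := by
    refine IsClosedImmersion.of_isPreimmersion U.ι ?_
    exact isClosed_discrete _
  let i : K ⟶ A := e ≫ j
  haveI : IsClosedImmersion i.left := by rw [Over.comp_left]; infer_instance
  haveI : Mono i := Over.mono_of_mono_left i
  haveI : IsFinite K.hom := by
    show IsFinite (U.ι ≫ E.hom)
    haveI : IsFinite U.ι := inferInstanceAs (IsFinite e.left)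
    infer_instance
  haveI : Etale K.hom := inferInstanceAs (Etale (U.ι ≫ E.hom))
  have hre : Set.range e.left = Z := U.range_ι
  have hmem : ∀ y : SGA7.pt Ω ⟶ K, y ≫ i ∈ S := fun y => by
    obtain ⟨y', hy', hyz⟩ := (hre.subset ⟨y.left (cp Ω), rfl⟩ : e.left (y.left (cp Ω)) ∈ Z)
    obtain ⟨σ, hσ⟩ := exists_galAct_of_eq y' (y ≫ e) (hyz.trans (by rw [Over.comp_left, Scheme.Hom.comp_apply]))
    have := hgal σ _ hy'
    rw [show SGA7.galAct σ (y' ≫ j) = y ≫ i from by
      rw [SGA7.galAct, ← Category.assoc, ← SGA7.galAct, hσ, Category.assoc]] at this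
    exact this
  have hpts : ∀ x : SGA7.pt Ω ⟶ A, (∃ y : SGA7.pt Ω ⟶ K, y ≫ i = x) ↔ x ∈ S := fun x => by
    refine ⟨fun ⟨y, hy⟩ => hy ▸ hmem y, fun hx => ?_⟩
    obtain ⟨y, hy⟩ := hlift x (htor x hx)
    obtain ⟨y', hy'⟩ := ChowKernel.fac_of_range_subset e y (by
      rintro _ ⟨t, rfl⟩
      rw [hre, show t = cp Ω from Subsingleton.elim (α := PrimeSpectrum Ω) _ _]
      exact ⟨y, hy.symm ▸ hx, rfl⟩)
    exact ⟨y', by rw [← Category.assoc, hy', hy]⟩
  have hfac : ∀ {T : Over (Spec (CommRingCat.of k))} [IsFinite T.hom] [Etale T.hom] (f : T ⟶ A),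
      (∀ y : SGA7.pt Ω ⟶ T, y ≫ f ∈ S) → ∃ f₀ : T ⟶ K, f₀ ≫ i = f := by
    intro T _ _ f hf
    haveI : IsReduced T.left := GrpSchLib.isReduced_of_smooth_field T.hom
    have hr : Set.range f.left ⊆ Set.range i.left := by
      rintro _ ⟨t, rfl⟩
      obtain ⟨y, rfl⟩ := exists_pt (Ω := Ω) t
      obtain ⟨y', hy'⟩ := (hpts _).2 (hf y)
      exact ⟨y'.left (cp Ω), by rw [← Scheme.Hom.comp_apply, ← Scheme.Hom.comp_apply, ← Over.comp_left,
        ← Over.comp_left, hy']⟩
    obtain ⟨g, hg⟩ := H23.RedSub.exists_lift_closed f.left i.left hr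
    exact ⟨Over.homMk g (by rw [← Over.w i, reassoc_of% hg, Over.w f]), Over.OverMorphism.ext hg⟩
  haveI : IsFinite (K ⊗ K).hom := by rw [Over.tensorObj_hom]; infer_instance
  haveI : Etale (K ⊗ K).hom := by rw [Over.tensorObj_hom]; infer_instance
  haveI : IsFinite (𝟙_ (Over (Spec (CommRingCat.of k)))).hom := inferInstanceAs (IsFinite (𝟙 _))
  haveI : Etale (𝟙_ (Over (Spec (CommRingCat.of k)))).hom := inferInstanceAs (Etale (𝟙 _))
  obtain ⟨e₀, he₀⟩ := hfac η[A] fun y => by
    rw [toUnit_unique y (toUnit _), ← Hom.one_def]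
    exact S.one_mem
  obtain ⟨m₀, hm₀⟩ := hfac ((fst K K ≫ i) * (snd K K ≫ i)) fun y => by
    rw [MonObj.comp_mul, ← Category.assoc y (fst K K) i, ← Category.assoc y (snd K K) i]
    exact S.mul_mem (hmem (y ≫ fst K K)) (hmem (y ≫ snd K K))
  obtain ⟨v₀, hv₀⟩ := hfac i⁻¹ fun y => by
    rw [GrpObj.comp_inv]
    exact S.inv_mem (hmem _)
  letI inst : GrpObj K := GrpSchLib.grpObjOfFactor i e₀ he₀ m₀ hm₀ v₀ hv₀
  refine ⟨K, inst, i, ⟨he₀, ?_⟩, inferInstance, inferInstance, ?_, hpts⟩
  · show m₀ ≫ i = _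
    rw [hm₀]
    simp [Hom.mul_def]
  · rw [Category.assoc, hj, ← Category.assoc, comp_toUnit, Hom.one_def]

/-- A homomorphism killing the kernel of a quotient map factors. -/
theorem exists_fac {X Q Z N : Over (Spec (CommRingCat.of k))} [GrpObj X] [GrpObj Q] [GrpObj Z]
    [IsProper Q.hom] [GeometricallyIntegral Q.hom] [IsProper Z.hom] [GeometricallyIntegral Z.hom] [IsCommMonObj Z]
    (i : N ⟶ X) (q : X ⟶ Q) [IsMonHom q] [Flat q.left] [Surjective q.left] [QuasiCompact q.left]
    (hq : AlgGrp.IsKernel i q) (g : X ⟶ Z) [IsMonHom g] (hg : i ≫ g = 1) :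
    ∃ h : Q ⟶ Z, IsMonHom h ∧ q ≫ h = g := by
  have key : ∀ (Y : Over (Spec (CommRingCat.of k))) (a b : Y ⟶ X), a ≫ q = b ≫ q → a ≫ g = b ≫ g := by
    intro Y a b hab
    have h0 : (a * b⁻¹) ≫ q = toUnit Y ≫ η[Q] := by
      rw [MonObj.mul_comp, GrpObj.inv_comp, hab, mul_inv_cancel, Hom.one_def]
    have h1 : (a * b⁻¹) ≫ g = 1 := by
      rw [← hq.lift_fst _ _ h0, Category.assoc, hg, MonObj.comp_one]
    rw [MonObj.mul_comp, GrpObj.inv_comp, mul_inv_eq_one] at h1
    exact h1
  let e₀ := EffectiveEpi.desc q.left g.left fun {Y} g₁ g₂ hgg => by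
    have hw : g₂ ≫ X.hom = g₁ ≫ X.hom := by rw [← Over.w q, ← Category.assoc, ← hgg, Category.assoc]
    exact congrArg CommaMorphism.left
      (key (Over.mk (g₁ ≫ X.hom)) (Over.homMk g₁ rfl) (Over.homMk g₂ hw) (Over.OverMorphism.ext hgg))
  have he : q.left ≫ e₀ = g.left := EffectiveEpi.fac _ _ _
  let h : Q ⟶ Z := Over.homMk e₀ (by rw [← cancel_epi q.left, reassoc_of% he, Over.w g, Over.w q])
  have hh : q ≫ h = g := Over.OverMorphism.ext he
  refine ⟨h, AVDegPoly.isMonHom_of_one h ?_, hh⟩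
  rw [← IsMonHom.one_hom q, Category.assoc, hh, IsMonHom.one_hom]

end Groth.Agent.AVTors.GalSub
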