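import Groth.Agent.H23.RigidAb
import Groth.Agent.H23.RigidGamma
import Groth.Agent.H23.GeomConn
import Mathlib.AlgebraicGeometry.Morphisms.Affine

/-!
Homomorphisms from abelian schemes to affine group schemes are trivial.
-/

set_option autoImplicit false
set_option linter.style.haveILetI false

universe u

open CategoryTheory CategoryTheory.Limits MonoidalCategory CartesianMonoidalCategory MonObj AlgebraicGeometry
open scoped CategoryTheory.Obj

namespace Groth.Agent.AVTors

/-- A map from a scheme with constant functions on its fibres to an affine scheme is constant. -/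
theorem eq_comp_section_of_affine {X Y S : Scheme.{u}} (p : X ⟶ S) [Flat p] [LocallyOfFinitePresentation p]
    [IsProper p] (h0 : H23.RigidApply.ConstFibres p) (e : S ⟶ X) (he : e ≫ p = 𝟙 S) (g : Y ⟶ S)
    [IsAffineHom g] (π : X ⟶ Y) (hπ : π ≫ g = p) : π = p ≫ e ≫ π := by
  have hle : ⊤ ≤ H23.RigidNoeth.agreeLocus π (p ≫ e ≫ π) := fun x _ => by
    obtain ⟨_, ⟨W, hW, rfl⟩, hsW, -⟩ := S.isBasis_affineOpens.exists_subset_of_mem_open (Set.mem_univ (p x)) isOpen_univ
    exact H23.RigidGen.agree_of_affine p h0 e he π hW (hW.preimage g)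
      (fun x' hx' => show g (π x') ∈ W by rw [← Scheme.Hom.comp_apply, hπ]; exact hx') hsW
  have := H23.RigidNoeth.agreeLocus_eq π (p ≫ e ≫ π)
  rw [top_unique hle] at this
  haveI : IsIso (⊤ : X.Opens).ι := X.topIso.isIso_hom
  exact (cancel_epi (⊤ : X.Opens).ι).1 (by assumption)

/-- Homomorphisms from an abelian scheme to an affine group scheme are trivial. -/
theorem hom_affine_eq_one {S : Scheme.{u}} {A T : Over S} [GrpObj A] [Smooth A.hom] [IsProper A.hom]
    [GeometricallyConnected A.hom] [GrpObj T] [IsAffineHom T.hom] (f : A ⟶ T) [IsMonHom f] : f = 1 := by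
  haveI : LocallyOfFinitePresentation A.hom := inferInstance
  haveI : GeometricallyReduced A.hom := H23.RigidGamma.geometricallyReduced_of_smooth A.hom
  have h := eq_comp_section_of_affine A.hom (H23.RigidGamma.constFibres A.hom) η[A].left (Over.w η[A])
    T.hom f.left (Over.w f)
  have h' : f = toUnit A ≫ η[A] ≫ f := Over.OverMorphism.ext h
  rw [h', IsMonHom.one_hom f, ← Hom.one_def]

/-- The same after a change of base. -/
theorem hom_affine_bc_eq_one {S S' : Scheme.{u}} (t : S' ⟶ S) {A T : Over S} [GrpObj A] [Smooth A.hom]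
    [IsProper A.hom] (hA : ∀ s : S, ConnectedSpace ↥(A.hom.fiber s)) [GrpObj T] [IsAffineHom T.hom]
    (f : (Over.pullback t).obj A ⟶ (Over.pullback t).obj T) [IsMonHom f] : f = 1 := by
  haveI : GeometricallyConnected A.hom := H23.GeomConn.of_grp A hA
  haveI : Smooth ((Over.pullback t).obj A).hom := inferInstanceAs (Smooth (pullback.snd A.hom t))
  haveI : IsProper ((Over.pullback t).obj A).hom := inferInstanceAs (IsProper (pullback.snd A.hom t))
  haveI : GeometricallyConnected ((Over.pullback t).obj A).hom :=
    inferInstanceAs (GeometricallyConnected (pullback.snd A.hom t))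
  haveI : IsAffineHom ((Over.pullback t).obj T).hom := MorphismProperty.pullback_snd (P := @IsAffineHom) T.hom t inferInstance
  exact hom_affine_eq_one f

end Groth.Agent.AVTors
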