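import Groth.Agent.AVTors.LineConst
import Groth.Agent.GrpSchLib.FieldReduced

/-! Maps `X × 𝔸ⁿ → G` into semi-abelian groups do not depend on the second variable. -/

set_option autoImplicit false
set_option linter.style.haveILetI false
set_option backward.isDefEq.respectTransparency false
set_option backward.isDefEq.respectTransparency.types false
set_option maxHeartbeats 4000000
set_option synthInstance.maxHeartbeats 100000
universe u

open CategoryTheory CategoryTheory.Limits MonoidalCategory CartesianMonoidalCategory MonObj AlgebraicGeometry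

namespace Groth.Agent.AVTors.LineConst

open H23.RatProductK

variable {k : Type u} [Field k]

theorem origin_over (K : Type u) [Field K] (N : Type u) :
    (origin K N).left ≫ (𝔸(N; Spec (CommRingCat.of K)) ↘ Spec (CommRingCat.of K)) = 𝟙 (Spec (CommRingCat.of K)) :=
  AffineSpace.homOfVector_over _ _

theorem map_origin {K : Type u} [Field K] (b : Spec (CommRingCat.of K) ⟶ Spec (CommRingCat.of k)) (N : Type u) :
    (origin K N).left ≫ AffineSpace.map N b = b ≫ (origin k N).left := by
  refine AffineSpace.hom_ext ?_ (fun j => ?_)
  · rw [Category.assoc, AffineSpace.map_over, ← Category.assoc, Category.assoc]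
    rw [← Category.assoc, Category.assoc b]
    erw [origin_over k N, origin_over K N]
    exact (Category.id_comp b).trans (Category.comp_id b).symm
  · rw [Scheme.Hom.comp_appTop, Scheme.Hom.comp_appTop, CommRingCat.comp_apply, CommRingCat.comp_apply,
      ]
    erw [AffineSpace.map_appTop_coord]
    simp only [origin, Over.homMk_left]
    erw [AffineSpace.homOfVector_appTop_coord, AffineSpace.homOfVector_appTop_coord]
    exact (map_zero _).symm

theorem isIso_affine_isReduced (N : Type u) : IsReduced (affine k N).left := by
  haveI : IsReduced (Spec (CommRingCat.of (MvPolynomial N k))) := inferInstance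
  exact isReduced_of_isOpenImmersion (AffineSpace.SpecIso N (CommRingCat.of k)).hom

theorem exists_fst_factor [PerfectField k] {N : Type u} [Finite N] {X G G0 T A : Over (Spec (CommRingCat.of k))}
    [IsReduced X.left] [GrpObj G] [IsSeparated G.hom] [GrpObj G0] [GrpObj T] [GrpObj A]
    (e : G0 ⟶ G) [IsMonHom e] [IsOpenImmersion e.left] (i : T ⟶ G0) [IsMonHom i] [IsClosedImmersion i.left]
    (hT : Red.IsTorus T) [IsProper A.hom] [GeometricallyIntegral A.hom] (q : G0 ⟶ A) [IsMonHom q]
    (hker : AlgGrp.IsKernel i q) (φ : X ⊗ affine k N ⟶ G) :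
    φ = fst X (affine k N) ≫ lift (𝟙 X) (toUnit X ≫ origin k N) ≫ φ := by
  haveI : IsReduced (affine k N).left := isIso_affine_isReduced N
  haveI : IsReduced (X ⊗ affine k N).left :=
    GrpSchLib.isReduced_pullback_of_perfectField X.hom (affine k N).hom
  let σ : X ⟶ X ⊗ affine k N := lift (𝟙 X) (toUnit X ≫ origin k N)
  let W := (X ⊗ affine k N).left
  refine Over.OverMorphism.ext (ext_of_fromSpecResidueField_eq _ _ G.hom Set.univ dense_univ ?_
    ((Over.w φ).trans (Over.w _).symm))
  intro y _
  let K : Type u := AlgebraicClosure (W.residueField y)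
  let ρ : Spec (CommRingCat.of K) ⟶ Spec (W.residueField y) :=
    Spec.map (CommRingCat.ofHom (algebraMap (W.residueField y) K))
  haveI : Flat ρ := (HasRingHomProperty.Spec_iff (P := @Flat)).2 (RingHom.flat_algebraMap_iff.2 inferInstance)
  haveI : Surjective ρ := ⟨fun z => ⟨IsLocalRing.closedPoint K, Subsingleton.elim _ _⟩⟩
  haveI := Flat.epi_of_flat_of_surjective ρ
  rw [← cancel_epi ρ]
  let pK : Spec (CommRingCat.of K) ⟶ W := ρ ≫ W.fromSpecResidueField y
  let b := pK ≫ (X ⊗ affine k N).hom
  let AN := (Over.map b).obj (affine K N)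
  let p : Over.mk b ⟶ X ⊗ affine k N := Over.homMk pK rfl
  suffices h : p ≫ φ = p ≫ fst X (affine k N) ≫ σ ≫ φ by
    have h' := congrArg CommaMorphism.left h
    simp only [Over.comp_left, p, Over.homMk_left, pK, Category.assoc] at h'
    simpa only [Over.comp_left, Category.assoc] using h'
  let str : AN ⟶ Over.mk b := Over.homMk (affine K N).hom rfl
  let cn : AN ⟶ affine k N := Over.homMk (AffineSpace.map N b) (AffineSpace.map_over b)
  let ιx : AN ⟶ X ⊗ affine k N := lift (str ≫ p ≫ fst X (affine k N)) cn
  let d : X ⊗ affine k N ⟶ G := φ / (fst X (affine k N) ≫ σ ≫ φ)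
  have horig : (Over.map b).map (origin K N) ≫ cn = (Over.map b).map (origin K N) ≫ toUnit AN ≫ origin k N := by
    apply Over.OverMorphism.ext
    show (origin K N).left ≫ AffineSpace.map N b = (origin K N).left ≫ ((affine K N).hom ≫ b) ≫ (origin k N).left
    rw [map_origin, ← Category.assoc, ← Category.assoc,
      show (origin K N).left ≫ (affine K N).hom = 𝟙 _ from Over.w (origin K N)]
    exact (Category.id_comp (b ≫ _)).symm.trans (Category.assoc _ _ _).symm
  have hd : ιx ≫ d = 1 := by
    refine semiabelian_const b e i hT q hker _ ?_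
    have hfix : (Over.map b).map (origin K N) ≫ ιx =
        (Over.map b).map (origin K N) ≫ str ≫ p ≫ fst X (affine k N) ≫ σ := by
      simp only [ιx, σ, comp_lift, Category.comp_id, horig]
      refine congrArg (lift _) ?_
      simp only [← Category.assoc]
      exact congrArg (· ≫ origin k N) (toUnit_unique _ _)
    rw [← Category.assoc, hfix, GrpObj.comp_div, div_eq_one]
    simp only [Category.assoc, σ, lift_fst_assoc, Category.id_comp]
  -- the point `p` is the image of a point of the affine space over `K`
  let t : 𝟙_ (Over (Spec (CommRingCat.of K))) ⟶ affine K N :=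
    Over.homMk (AffineSpace.homOfVector (𝟙 _) fun j =>
      (p ≫ snd X (affine k N)).left.appTop (AffineSpace.coord _ j)) (AffineSpace.homOfVector_over _ _)
  let t' : Over.mk b ⟶ AN := Over.homMk t.left (by
    show t.left ≫ (affine K N).hom ≫ b = b
    rw [← Category.assoc, show t.left ≫ (affine K N).hom = 𝟙 _ from Over.w t]
    exact Category.id_comp b)
  have ht : t' ≫ ιx = p := by
    refine CartesianMonoidalCategory.hom_ext _ _ ?_ ?_
    · rw [Category.assoc, lift_fst, ← Category.assoc]
      have : t' ≫ str = 𝟙 _ := Over.OverMorphism.ext (Over.w t)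
      rw [this, Category.id_comp]
    · rw [Category.assoc, lift_snd]
      apply Over.OverMorphism.ext
      show t.left ≫ AffineSpace.map N b = (p ≫ snd X (affine k N)).left
      refine AffineSpace.hom_ext ?_ (fun j => ?_)
      · rw [Category.assoc, AffineSpace.map_over, ← Category.assoc,
          show t.left ≫ (𝔸(N; Spec (CommRingCat.of K)) ↘ Spec (CommRingCat.of K)) = 𝟙 (Spec (CommRingCat.of K)) from Over.w t,
          show (p ≫ snd X (affine k N)).left ≫ (𝔸(N; Spec (CommRingCat.of k)) ↘ _) = b from
            Over.w (p ≫ snd X (affine k N))]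
        exact Category.id_comp b
      · rw [Scheme.Hom.comp_appTop, CommRingCat.comp_apply]
        erw [AffineSpace.map_appTop_coord]
        simp only [t, Over.homMk_left]
        erw [AffineSpace.homOfVector_appTop_coord]
        rfl
  have hpd : p ≫ d = 1 := by rw [← ht, Category.assoc, hd, MonObj.comp_one]
  rwa [GrpObj.comp_div, div_eq_one] at hpd

end Groth.Agent.AVTors.LineConst
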