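import Groth.Agent.AVTors.HomDescend
import Groth.Agent.GrpSchLib.KernelGrp
import Groth.Agent.GrpSchLib.MultTypeRigid
import Groth.Agent.GrpSchLib.HomFlat
import Groth.Agent.H23.FinCondSch
import Groth.Agent.AGFLib.AntPart
import Groth.Prelude.Def_W4bk6langav68Chow

/-! Existence of the `K/k`-image of an abelian variety. -/

set_option autoImplicit false
set_option linter.style.haveILetI false
set_option backward.isDefEq.respectTransparency false
set_option backward.isDefEq.respectTransparency.types false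
set_option maxHeartbeats 4000000
set_option synthInstance.maxHeartbeats 100000

universe u

open CategoryTheory CategoryTheory.Limits MonoidalCategory CartesianMonoidalCategory MonObj AlgebraicGeometry

namespace Groth.Agent.AVTors.ChowExist

section Ker

variable {S : Scheme.{u}} {A Q R : Over S} [GrpObj Q]

/-- The ideal of the scheme-theoretic kernel. -/
noncomputable def kI (f : A ⟶ Q) : A.left.IdealSheafData := (pullback.fst f.left η[Q].left).ker

theorem one_left (Y : Over S) : (1 : Y ⟶ Q).left = Y.hom ≫ η[Q].left := by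
  rw [Hom.one_def, Over.comp_left]
  rfl

theorem kI_le_comp [GrpObj R] (f : A ⟶ Q) (j : Q ⟶ R) [IsMonHom j] : True ∧
    kI (f ≫ j) ≤ kI f := by
  refine ⟨trivial, ?_⟩
  let l : pullback f.left η[Q].left ⟶ pullback (f ≫ j).left η[R].left :=
    pullback.lift (pullback.fst _ _) (pullback.snd _ _) (by
      rw [Over.comp_left, pullback.condition_assoc, ← Over.comp_left, IsMonHom.one_hom j])
  have hl : l ≫ pullback.fst (f ≫ j).left η[R].left = pullback.fst f.left η[Q].left := pullback.lift_fst _ _ _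
  unfold kI
  rw [← hl]
  exact Scheme.Hom.le_ker_comp _ _

theorem comp_eq_one_of_le [GrpObj R] [IsSeparated R.hom] {N : Over S} (i : N ⟶ A) (f : A ⟶ Q) (g : A ⟶ R)
    (hi : i ≫ f = 1) (hle : kI g ≤ kI f) : i ≫ g = 1 := by
  haveI : IsClosedImmersion η[R].left := by
    haveI : IsClosedImmersion (η[R].left ≫ R.hom) := by
      rw [Over.w η[R]]; exact inferInstanceAs (IsClosedImmersion (𝟙 _))
    exact IsClosedImmersion.of_comp η[R].left R.hom
  let l : N.left ⟶ pullback f.left η[Q].left := pullback.lift i.left N.hom (by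
    rw [← Over.comp_left, hi, one_left])
  let m := IsClosedImmersion.lift (pullback.fst g.left η[R].left) (pullback.fst f.left η[Q].left) hle
  have hm : m ≫ pullback.fst g.left η[R].left = pullback.fst f.left η[Q].left := IsClosedImmersion.lift_fac _ _ _
  have hi' : i.left = l ≫ m ≫ pullback.fst g.left η[R].left := by
    rw [hm]; exact (pullback.lift_fst _ _ _).symm
  apply Over.OverMorphism.ext
  rw [Over.comp_left, one_left, hi', Category.assoc, Category.assoc, pullback.condition, ← Category.assoc l,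
    ← Category.assoc (l ≫ m)]
  congr 1
  have h := congrArg (fun x => x ≫ R.hom) (pullback.condition (f := g.left) (g := η[R].left))
  simp only [Category.assoc, Over.w g, Over.w η[R]] at h
  rw [Category.assoc, ← Over.w i, hi', Category.assoc, Category.assoc]
  exact congrArg (fun x => l ≫ m ≫ x) ((Category.comp_id _).symm.trans h.symm)

end Ker

variable {k : Type u} [Field k]

theorem isReduced_left (A : Over (Spec (CommRingCat.of k))) [GeometricallyIntegral A.hom] :
    IsReduced A.left := by
  haveI : IsIntegral A.left := H23.MaxAbelian.isIntegral_of_geometricallyIntegral (X := A)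
  infer_instance

/-- Descent along a surjective homomorphism of abelian varieties. -/
theorem exists_factor {N A Q R : Over (Spec (CommRingCat.of k))} [GrpObj N] [GrpObj A] [GrpObj Q] [GrpObj R]
    [IsProper A.hom] [IsProper Q.hom] [GeometricallyIntegral Q.hom]
    (α : A ⟶ Q) [IsMonHom α] [Surjective α.left] (i : N ⟶ A) (hk : AlgGrp.IsKernel i α)
    (g : A ⟶ R) [IsMonHom g] (hg : i ≫ g = 1) : ∃ g' : Q ⟶ R, IsMonHom g' ∧ α ≫ g' = g := by
  haveI : IsReduced Q.left := isReduced_left Q
  haveI : QuasiCompact α.left := by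
    haveI : QuasiCompact (α.left ≫ Q.hom) := by rw [Over.w α]; infer_instance
    exact QuasiCompact.of_comp α.left Q.hom
  haveI : Flat α.left := GrpSchLib.flat_of_surjective_hom α
  haveI : IsLocallyNoetherian Q.left := LocallyOfFiniteType.isLocallyNoetherian Q.hom
  haveI : LocallyOfFiniteType α.left := by
    haveI : LocallyOfFiniteType (α.left ≫ Q.hom) := by rw [Over.w α]; infer_instance
    exact locallyOfFiniteType_of_comp α.left Q.hom
  haveI : LocallyOfFinitePresentation α.left := inferInstance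
  obtain ⟨e, he⟩ := GrpSchLib.MultTypeRigid.exists_desc (Z := 𝟙_ (Over (Spec (CommRingCat.of k)))) i α hk
    (fst A (𝟙_ _) ≫ g) (fun Y h n z => by
      rw [lift_fst_assoc, lift_fst_assoc, MonObj.mul_comp, Category.assoc, hg, MonObj.comp_one, _root_.one_mul])
  let g' : Q ⟶ R := lift (𝟙 Q) (toUnit Q) ≫ e
  have hg' : α ≫ g' = g := by
    have h := he A (𝟙 A) (toUnit A)
    rw [lift_fst_assoc, Category.id_comp, Category.id_comp] at h
    rw [← h, comp_lift_assoc, Category.comp_id, comp_toUnit]
  haveI : Epi α := by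
    haveI := Flat.epi_of_flat_of_surjective α.left
    exact (Over.forget _).epi_of_epi_map (inferInstanceAs (Epi α.left))
  haveI : Epi (α ⊗ₘ α) := by
    haveI : Flat (α ⊗ₘ α).left := AGFLib.AntPart.property_tensorHom α α @Flat inferInstance inferInstance
    haveI : Surjective (α ⊗ₘ α).left :=
      AGFLib.AntPart.property_tensorHom α α @Surjective inferInstance inferInstance
    haveI : QuasiCompact (α ⊗ₘ α).left :=
      AGFLib.AntPart.property_tensorHom α α @QuasiCompact inferInstance inferInstance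
    haveI := Flat.epi_of_flat_of_surjective (α ⊗ₘ α).left
    exact (Over.forget _).epi_of_epi_map (inferInstanceAs (Epi (α ⊗ₘ α).left))
  refine ⟨g', ⟨?_, ?_⟩, hg'⟩
  · rw [← IsMonHom.one_hom α, Category.assoc, hg', IsMonHom.one_hom g]
  · rw [← cancel_epi (α ⊗ₘ α), ← IsMonHom.mul_hom_assoc, hg', IsMonHom.mul_hom g, ← Category.assoc,
      MonoidalCategory.tensorHom_comp_tensorHom, hg']

variable {K : Type u} [Field K] [Algebra k K]

open HomDescend (bb)

theorem exists_image (hprim : ∀ x : K, IsSeparable k x → x ∈ (algebraMap k K).range)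
    (A : Over (Spec (CommRingCat.of K))) [GrpObj A] [IsProper A.hom] [GeometricallyIntegral A.hom] :
    ∃ (A₀ : Over (Spec (CommRingCat.of k))) (_ : GrpObj A₀),
      IsProper A₀.hom ∧ GeometricallyIntegral A₀.hom ∧
        ∃ lam : A ⟶ Red.bc (AbVar.ext k K) A₀, AbVar.IsChowImage k K A A₀ lam := by
  haveI : IsLocallyNoetherian A.left := LocallyOfFiniteType.isLocallyNoetherian A.hom
  haveI : CompactSpace A.left := QuasiCompact.compactSpace_of_compactSpace A.hom
  haveI : IsNoetherian A.left := { }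
  haveI : IsReduced A.left := isReduced_left A
  let P : Set A.left.IdealSheafData := {I | ∃ (B : Over (Spec (CommRingCat.of k))) (_ : GrpObj B) (_ : IsProper B.hom)
    (_ : GeometricallyIntegral B.hom) (α : A ⟶ Red.bc (bb k K) B), IsMonHom α ∧ kI α = I}
  haveI hone : IsProper (𝟙_ (Over (Spec (CommRingCat.of k)))).hom := inferInstanceAs (IsProper (𝟙 _))
  haveI hone' : GeometricallyIntegral (𝟙_ (Over (Spec (CommRingCat.of k)))).hom :=
    (H23.MaxAbelian.geometricallyIntegral_of_pullback (𝟙 (Spec (CommRingCat.of k))) fun L _ x =>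
      isIntegral_of_isOpenImmersion (pullback.snd (𝟙 (Spec (CommRingCat.of k))) x) :)
  have hterm : ∀ {T : Over (Spec (CommRingCat.of K))} (x y : T ⟶ Red.bc (bb k K) (𝟙_ _)), x = y := fun x y =>
    (cancel_mono (Functor.Monoidal.εIso (Over.pullback (bb k K))).inv).1 (toUnit_unique _ _)
  have hP : P.Nonempty := ⟨_, 𝟙_ _, inferInstance, hone, hone', (1 : A ⟶ Red.bc (bb k K) (𝟙_ _)),
    ⟨hterm _ _, hterm _ _⟩, rfl⟩
  haveI := H23.FinCondSch.wellFoundedGT (X := A.left)
  obtain ⟨I, ⟨B, iB, hB1, hB2, α, hα, rfl⟩, hmax⟩ :=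
    (wellFounded_gt (α := A.left.IdealSheafData)).has_min P hP
  haveI : IsProper (Red.bc (bb k K) B).hom := MorphismProperty.pullback_snd (P := @IsProper) _ _ inferInstance
  -- the image of `α` is defined over `k`
  obtain ⟨N, iN, j, hj, hjc, hNp, hNg, hjr⟩ := H23.MaxAbelian.exists_image α
    ⟨η[A], IsMonHom.one_hom α⟩
    ⟨μ[A], by rw [IsMonHom.mul_hom α]; simp [Hom.mul_def]⟩
    ⟨ι[A], by rw [GrpObj.inv_eq_inv, GrpObj.inv_comp, Category.id_comp]⟩
  obtain ⟨A₀, iA₀, i, hA₀p, hA₀g, hi, hic, e, he⟩ := S12017.result k K hprim B N j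
  obtain ⟨a, ha⟩ := H23.RedSub.exists_lift_closed α.left j.left hjr.symm.subset
  let α₁ : A ⟶ N := Over.homMk a (by rw [← Over.w j, ← Category.assoc, ha, Over.w α])
  have hα₁ : α₁ ≫ j = α := Over.OverMorphism.ext ha
  haveI : Mono j := (Over.forget _).mono_of_mono_map (inferInstanceAs (Mono j.left))
  haveI : IsMonHom α₁ := ⟨by rw [← cancel_mono j, Category.assoc, hα₁, IsMonHom.one_hom α, IsMonHom.one_hom j], by
    rw [← cancel_mono j, Category.assoc, hα₁, IsMonHom.mul_hom α, Category.assoc, IsMonHom.mul_hom j,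
      MonoidalCategory.tensorHom_comp_tensorHom_assoc, hα₁]⟩
  haveI : IsMonHom e.hom := by
    have : IsMonHom (e.hom ≫ j) := by rw [he]; infer_instance
    exact ⟨by rw [← cancel_mono j, Category.assoc, IsMonHom.one_hom (e.hom ≫ j), IsMonHom.one_hom j], by
      rw [← cancel_mono j, Category.assoc, IsMonHom.mul_hom (e.hom ≫ j), Category.assoc, IsMonHom.mul_hom j,
        MonoidalCategory.tensorHom_comp_tensorHom_assoc]⟩
  let lam : A ⟶ Red.bc (AbVar.ext k K) A₀ := α₁ ≫ e.inv
  have hlam : lam ≫ (Over.pullback (bb k K)).map i = α := by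
    show (α₁ ≫ e.inv) ≫ _ = α
    rw [← he, Category.assoc, Iso.inv_hom_id_assoc, hα₁]
  haveI : IsMonHom lam := inferInstanceAs (IsMonHom (α₁ ≫ e.inv))
  haveI : Surjective α₁.left := ⟨fun y => by
    obtain ⟨x, hx⟩ : j.left y ∈ Set.range α.left := hjr.subset ⟨y, rfl⟩
    exact ⟨x, j.left.isClosedEmbedding.injective (by rw [← Scheme.Hom.comp_apply, show α₁.left ≫ j.left = α.left from ha, hx])⟩⟩
  haveI : Surjective lam.left := by
    show Surjective (α₁.left ≫ e.inv.left)
    infer_instance
  haveI : IsProper (Red.bc (AbVar.ext k K) A₀).hom := MorphismProperty.pullback_snd (P := @IsProper) _ _ hA₀p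
  haveI : GeometricallyIntegral (Red.bc (AbVar.ext k K) A₀).hom :=
    MorphismProperty.pullback_snd (P := @GeometricallyIntegral) _ _ hA₀g
  have hle0 : kI α ≤ kI lam := hlam ▸ (kI_le_comp lam ((Over.pullback (bb k K)).map i)).2
  refine ⟨A₀, iA₀, hA₀p, hA₀g, lam, ‹IsMonHom lam›, ‹Surjective lam.left›, ?_⟩
  intro C iC hCp hCg g hg
  let F := Over.pullback (bb k K)
  haveI : IsProper (A₀ ⊗ C).hom := inferInstanceAs (IsProper (pullback.fst A₀.hom C.hom ≫ A₀.hom))
  haveI : GeometricallyIntegral (A₀ ⊗ C).hom := H23.MaxAbelian.geometricallyIntegral_tensor A₀ C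
  let h : A ⟶ Red.bc (bb k K) (A₀ ⊗ C) := lift lam g ≫ Functor.LaxMonoidal.μ F A₀ C
  haveI : IsMonHom h := inferInstance
  haveI : IsProper (Red.bc (bb k K) (A₀ ⊗ C)).hom := MorphismProperty.pullback_snd (P := @IsProper) _ _ inferInstance
  haveI : IsProper (Red.bc (bb k K) C).hom := MorphismProperty.pullback_snd (P := @IsProper) _ _ inferInstance
  have h1 : h ≫ F.map (fst A₀ C) = lam := by simp [h, F, Functor.Monoidal.μ_fst]
  have h2 : h ≫ F.map (snd A₀ C) = g := by simp [h, F, Functor.Monoidal.μ_snd]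
  have hle : kI lam ≤ kI h := h1 ▸ (kI_le_comp h (F.map (fst A₀ C))).2
  have heq : kI h ≤ kI lam := by
    have h3 : ¬ (kI h > kI α) := hmax (kI h) ⟨A₀ ⊗ C, inferInstance, inferInstance, inferInstance, h, inferInstance, rfl⟩
    rcases lt_or_eq_of_le (hle0.trans hle) with hlt | heq
    · exact absurd hlt h3
    · rw [← heq]; exact hle0
  obtain ⟨Nk, iNk, ik, hikm, hikc, -, hik⟩ := GrpSchLib.exists_kernel lam
  have hil : ik ≫ lam = 1 := by rw [hik.w, Hom.one_def]
  have hih : ik ≫ h = 1 := comp_eq_one_of_le ik lam h hil heq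
  have hig : ik ≫ g = 1 := by rw [← h2, ← Category.assoc, hih, MonObj.one_comp]
  obtain ⟨g', hg'm, hg'⟩ := exists_factor lam ik hik g hig
  obtain ⟨g₀, hg₀m, hg₀⟩ := HomDescend.exists_hom hprim A₀ C g'
  exact ⟨g₀, hg₀m, by rw [hg₀, hg']⟩

end Groth.Agent.AVTors.ChowExist
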