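import Groth.Agent.VarDim.Local
import Groth.Agent.VarDim.Top
import Groth.Agent.S2345
import Groth.Agent.CurveCohLib.RegularCurve
import Groth.Agent.NormCurve.Nagata
import Groth.Agent.NagataLib.Field
import Groth.Agent.H23.EquidimFibres
import Mathlib.RingTheory.Ideal.KrullsHeightTheorem
import Mathlib.FieldTheory.IntermediateField.Adjoin.Algebra
import Mathlib.AlgebraicGeometry.Birational.RationalMap
import Mathlib.RingTheory.DedekindDomain.Dvr
import Groth.Agent.SmoothVarLib.Basic
import Groth.Agent.H23.InsepBC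

/-!
Curves through a point of a variety, their normalisations and their complete models.
-/

noncomputable section

set_option linter.style.haveILetI false
set_option linter.unusedSectionVars false
set_option backward.isDefEq.respectTransparency false
set_option backward.isDefEq.respectTransparency.types false
set_option maxHeartbeats 1000000
set_option autoImplicit false

universe u

open CategoryTheory CategoryTheory.Limits MonoidalCategory CartesianMonoidalCategory AlgebraicGeometry TopologicalSpace Order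

namespace Groth.Agent.AVTors

/-- A prime immediately below a given one avoiding a given element. -/
theorem exists_covBy_not_mem {A : Type u} [CommRing A] [IsDomain A] [IsNoetherianRing A]
    (m : PrimeSpectrum A) {a : A} (ha0 : a ≠ 0) (ham : a ∈ m.asIdeal) :
    ∃ P : PrimeSpectrum A, P ⋖ m ∧ a ∉ P.asIdeal := by
  obtain ⟨P, ⟨hP, hPm, haP⟩, hmax⟩ := (wellFounded_gt (α := Ideal A)).has_min
    {q : Ideal A | q.IsPrime ∧ q ≤ m.asIdeal ∧ a ∉ q} ⟨⊥, Ideal.isPrime_bot, bot_le, by simpa using ha0⟩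
  refine ⟨⟨P, hP⟩, ⟨lt_of_le_of_ne hPm fun h => haP (by
    rw [show P = m.asIdeal from congrArg PrimeSpectrum.asIdeal h]; exact ham), fun r h1 h2 => ?_⟩, haP⟩
  have hmem : ∀ q : Ideal A, q.IsPrime → P < q → q ≤ m.asIdeal → a ∈ q := fun q hq h h' => by
    by_contra hc
    exact hmax q ⟨hq, h', hc⟩ h
  -- pass to the quotient
  let B := A ⧸ P
  let π := Ideal.Quotient.mk P
  have hsur : Function.Surjective π := Ideal.Quotient.mk_surjective
  have hker : RingHom.ker π = P := Ideal.mk_ker
  let M := m.asIdeal.map π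
  haveI hM : M.IsPrime := Ideal.map_isPrime_of_surjective hsur (hker.le.trans hPm)
  let R := r.asIdeal.map π
  have hPr : P < r.asIdeal := h1
  haveI hR : R.IsPrime := Ideal.map_isPrime_of_surjective hsur (hker.le.trans hPr.le)
  have hcR : R.comap π = r.asIdeal := by
    rw [Ideal.comap_map_of_surjective π hsur, ← RingHom.ker_eq_comap_bot, hker, sup_eq_left.2 hPr.le]
  have hcM : M.comap π = m.asIdeal := by
    rw [Ideal.comap_map_of_surjective π hsur, ← RingHom.ker_eq_comap_bot, hker, sup_eq_left.2 hPm]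
  have hRbot : R ≠ ⊥ := fun h => hPr.ne (by rw [← hcR, h, ← RingHom.ker_eq_comap_bot, hker])
  have hRM : R < M := by
    refine lt_of_le_of_ne (Ideal.map_mono h2.le) fun h => h2.ne ?_
    refine PrimeSpectrum.ext ?_
    rw [← hcR, h, hcM]
  have hmem' : ∀ q : Ideal B, q.IsPrime → q ≠ ⊥ → q ≤ M → π a ∈ q := fun q hq hq0 hqM => by
    refine hmem (q.comap π) (Ideal.IsPrime.comap π) (lt_of_le_of_ne ?_ ?_) (hcM ▸ Ideal.comap_mono hqM)
    · exact hker.ge.trans (Ideal.comap_mono (bot_le (a := q)))
    · exact fun h => hq0 (by rw [← Ideal.map_comap_of_surjective π hsur q, ← h, Ideal.map_quotient_self])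
  have haB : π a ≠ 0 := fun h => haP (Ideal.Quotient.eq_zero_iff_mem.1 h)
  have hfin := Ideal.finite_minimalPrimes_of_isNoetherianRing B (Ideal.span {π a})
  by_cases hsub : (M : Set B) ⊆ ⋃ q ∈ hfin.toFinset, (q : Set B)
  · obtain ⟨q, hq, hMq⟩ := (Ideal.subset_union_prime ⊥ ⊥ fun q hq _ _ =>
      ((Set.Finite.mem_toFinset _).1 hq).1.1).1 hsub
    rw [Set.Finite.mem_toFinset] at hq
    have h3 : q ≤ R := hq.2 ⟨hR, by
      rw [Ideal.span_singleton_le_iff_mem]; exact hmem' R hR hRbot hRM.le⟩ (hRM.le.trans hMq)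
    exact hRM.not_ge (hMq.trans h3)
  · obtain ⟨b, hbM, hb⟩ := Set.not_subset.1 hsub
    obtain ⟨q, hq, hqM⟩ := Ideal.exists_minimalPrimes_le (J := M) (I := Ideal.span {b})
      (by rwa [Ideal.span_singleton_le_iff_mem])
    haveI := hq.1.1
    have hbq : b ∈ q := hq.1.2 (Ideal.mem_span_singleton_self b)
    have hq1 : q.height ≤ 1 := Ideal.height_le_one_of_isPrincipal_of_mem_minimalPrimes (Ideal.span {b}) q hq
    have hb0 : b ≠ 0 := by
      rintro rfl
      obtain ⟨q₀, hq₀, -⟩ := Ideal.exists_minimalPrimes_le (J := M) (I := Ideal.span {π a})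
        (by rw [Ideal.span_singleton_le_iff_mem]; exact hmem' M hM (ne_bot_of_le_ne_bot hRbot hRM.le) le_rfl)
      exact hb (Set.mem_biUnion ((Set.Finite.mem_toFinset hfin).2 hq₀) q₀.zero_mem)
    obtain ⟨q', hq', hq'q⟩ := Ideal.exists_minimalPrimes_le (J := q) (I := Ideal.span {π a})
      (by rw [Ideal.span_singleton_le_iff_mem]; exact hmem' q hq.1.1 (fun h => hb0 (by simpa [h] using hbq)) hqM)
    haveI := hq'.1.1
    have hq'0 : q' ≠ ⊥ := fun h => haB (by simpa [h] using hq'.1.2 (Ideal.mem_span_singleton_self _))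
    refine hb (Set.mem_biUnion ((Set.Finite.mem_toFinset hfin).2 hq') ?_)
    by_contra hbq'
    have hlt : q' < q := lt_of_le_of_ne hq'q fun h => hbq' (by rw [h]; exact hbq)
    haveI : (⊥ : Ideal B).IsPrime := Ideal.isPrime_bot
    have e1 := Ideal.height_strict_mono_of_isPrime (bot_lt_iff_ne_bot.2 hq'0 : (⊥ : Ideal B) < q')
    have e2 := Ideal.height_strict_mono_of_isPrime hlt
    exact absurd ((Order.add_one_le_of_lt e2).trans hq1)
      (not_le.2 (by
        have : (1 : ℕ∞) ≤ q'.height := Order.one_le_iff_pos.2 (lt_of_le_of_lt zero_le e1)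
        exact lt_of_lt_of_le (by norm_num) (add_le_add_left this 1)))

theorem dimensionLEOne_of_dim {C : Type u} [CommRing C] [IsDomain C] [IsNoetherianRing C] (h : ringKrullDim C ≤ 1) :
    Ring.DimensionLEOne C :=
  ⟨fun {p} hp hp' => by
    haveI := hp'
    obtain ⟨M, hM, hpM⟩ := p.exists_le_maximal hp'.ne_top
    by_contra hnm
    have hlt : p < M := lt_of_le_of_ne hpM fun h => hnm (h ▸ hM)
    haveI : (⊥ : Ideal C).IsPrime := Ideal.isPrime_bot
    have e1 := Ideal.height_strict_mono_of_isPrime (bot_lt_iff_ne_bot.2 hp : (⊥ : Ideal C) < p)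
    have e2 := Ideal.height_strict_mono_of_isPrime hlt
    have e3 : (M.height : WithBot ℕ∞) ≤ 1 := (Ideal.height_le_ringKrullDim_of_ne_top hM.ne_top).trans h
    have e3' : M.height ≤ 1 := by exact_mod_cast e3
    exact absurd ((Order.add_one_le_of_lt e2).trans e3') (not_le.2 (lt_of_lt_of_le (by norm_num)
      (add_le_add_left (Order.one_le_iff_pos.2 (lt_of_le_of_lt zero_le e1)) 1)))⟩

variable {k : Type u} [Field k] [IsAlgClosed k] {X : Over (Spec (CommRingCat.of k))} [IsIntegral X.left]
  [LocallyOfFiniteType X.hom]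

/-- A curve through a closed point leaving a given proper closed subset. -/
theorem exists_curve_leaving {x : X.left} (hx : IsClosed ({x} : Set X.left)) {Z : Set X.left} (hZc : IsClosed Z)
    (hZ : Z ≠ Set.univ) (hxZ : x ∈ Z) : ∃ ξ : X.left, ξ ⤳ x ∧ VarDim.deg X.hom ξ = 1 ∧ ξ ∉ Z := by
  obtain ⟨U, hU, hxU, -⟩ := exists_isAffineOpen_mem_and_subset (x := x) (U := ⊤) trivial
  obtain ⟨m, rfl⟩ := VarDim.exists_fromSpec_eq hU hxU
  obtain ⟨_, hft⟩ := VarDim.exists_algebra X.hom hU
  haveI : IsNoetherianRing Γ(X.left, U) := Algebra.FiniteType.isNoetherianRing k _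
  haveI : Nonempty U := ⟨⟨_, hxU⟩⟩
  obtain ⟨I, hI⟩ := (PrimeSpectrum.isClosed_iff_zeroLocus_ideal (hU.fromSpec ⁻¹' Z)).1
    (hZc.preimage hU.fromSpec.continuous)
  have hI0 : I ≠ ⊥ := by
    rintro rfl
    rw [Submodule.bot_coe, PrimeSpectrum.zeroLocus_singleton_zero] at hI
    refine hZ (hZc.closure_eq ▸ Set.eq_univ_of_univ_subset ?_)
    rw [← (U.2.dense ⟨_, hxU⟩).closure_eq]
    refine closure_mono fun y hy => ?_
    obtain ⟨p, rfl⟩ := VarDim.exists_fromSpec_eq hU hy
    exact hI.ge (Set.mem_univ p)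
  obtain ⟨a, haI, ha0⟩ := Submodule.exists_mem_ne_zero_of_ne_bot hI0
  obtain ⟨P, hPm, haP⟩ := exists_covBy_not_mem m ha0 ((hI.le (show m ∈ hU.fromSpec ⁻¹' Z from hxZ)) haI)
  refine ⟨hU.fromSpec P, (VarDim.fromSpec_specializes_iff hU P m).2 hPm.1.le, ?_, fun h => haP (hI.le h haI)⟩
  have h1 := VarDim.coheight_of_covBy k hPm
  have h2 := (VarDim.closedPoint_iff_deg_eq_zero X.hom _).1 hx
  rw [VarDim.deg_eq_coheight X.hom hU, VarDim.deg_eq_coheight X.hom hU, h2] at h1
  exact_mod_cast h1


/-- The structure map seen at a stalk. -/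
theorem fromSpecStalk_comp_base {S : Scheme.{u}} (f : S ⟶ Spec (CommRingCat.of k)) (x : S) :
    S.fromSpecStalk x ≫ f =
      Spec.map (CommRingCat.ofHom ((S.presheaf.germ ⊤ x trivial).hom.comp (VarDim.baseMap f))) := by
  have h1 : f = S.toSpecΓ ≫ Spec.map (CommRingCat.ofHom (VarDim.baseMap f)) := by
    rw [VarDim.baseMap, CommRingCat.ofHom_hom, Spec.map_comp, ← Scheme.toSpecΓ_naturality_assoc, toSpecΓ_SpecMap_ΓSpecIso_inv]
    exact (Category.comp_id _).symm
  conv_lhs => rw [h1]
  rw [← Category.assoc, Scheme.fromSpecStalk_toSpecΓ, ← Spec.map_comp]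
  rfl

/-- The normalisation of a curve through a rational point. -/
theorem exists_normal_curve (x₀ : 𝟙_ (Over (Spec (CommRingCat.of k))) ⟶ X) [IsSeparated X.hom] {ξ : X.left}
    (hξ : ξ ⤳ x₀.left (IsLocalRing.closedPoint k)) (hdeg : VarDim.deg X.hom ξ = 1) :
    ∃ (D : Over (Spec (CommRingCat.of k))) (_ : IsIntegral D.left) (_ : Smooth D.hom) (_ : IsSeparated D.hom)
      (_ : QuasiCompact D.hom) (w : D ⟶ X) (q : 𝟙_ (Over (Spec (CommRingCat.of k))) ⟶ D),
      q ≫ w = x₀ ∧ w.left (genericPoint D.left) = ξ := by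
  classical
  set x := x₀.left (IsLocalRing.closedPoint k)
  obtain ⟨U, hU, hxU, -⟩ := exists_isAffineOpen_mem_and_subset (x := x) (U := ⊤) trivial
  obtain ⟨P, rfl⟩ := VarDim.exists_fromSpec_eq hU (hξ.mem_open U.2 hxU)
  obtain ⟨m, hm⟩ := VarDim.exists_fromSpec_eq hU hxU
  have hPm : P ≤ m := (VarDim.fromSpec_specializes_iff hU P m).1 (hm.symm ▸ hξ)
  obtain ⟨φ, hφ⟩ := Spec.map_surjective (hU.fromSpec ≫ X.hom)
  let A := Γ(X.left, U)
  letI : Algebra k A := φ.hom.toAlgebra
  haveI : Algebra.FiniteType k A := by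
    have h : LocallyOfFiniteType (hU.fromSpec ≫ X.hom) := inferInstance
    rw [← hφ, HasRingHomProperty.Spec_iff (P := @LocallyOfFiniteType)] at h
    exact h
  haveI : P.asIdeal.IsPrime := P.isPrime
  let B := A ⧸ P.asIdeal
  haveI : IsDomain B := Ideal.Quotient.isDomain P.asIdeal
  haveI : Algebra.FiniteType k B := Algebra.FiniteType.trans (S := A) inferInstance inferInstance
  let L := FractionRing B
  let C := integralClosure B L
  haveI hfin : Module.Finite B C :=
    NormCurve.finite_integralClosure_of_nagata (NagataLib.isNagata_of_finiteType k B) L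
  haveI : IsNoetherianRing B := Algebra.FiniteType.isNoetherianRing k B
  haveI : Algebra.FiniteType k C := Algebra.FiniteType.trans (S := B) inferInstance inferInstance
  haveI : IsNoetherianRing C := Algebra.FiniteType.isNoetherianRing k C
  haveI : FaithfulSMul B C := (faithfulSMul_iff_algebraMap_injective B C).2 fun a b h =>
    IsFractionRing.injective B L (congrArg Subtype.val h)
  haveI : IsIntegrallyClosed C := integralClosure.isIntegrallyClosedOfFiniteExtension L
  have hdimC : ringKrullDim C = 1 := by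
    rw [VarDim.ringKrullDim_eq_of_isIntegral (R := B) (S := C),
      ← VarDim.coheight_eq_ringKrullDim_quotient P, VarDim.deg_eq_coheight X.hom hU, hdeg]
    rfl
  haveI : Ring.KrullDimLE 1 C := Ring.krullDimLE_iff.2 (by exact le_of_eq hdimC)
  haveI : Ring.DimensionLEOne C := dimensionLEOne_of_dim hdimC.le
  haveI : IsDedekindRing C := IsDedekindRing.mk
  haveI : IsDedekindDomain C := IsDedekindDomain.mk
  haveI : Algebra.Smooth k C := SmoothVarLib.smooth_of_regular k C
  let D : Over (Spec (CommRingCat.of k)) := Over.mk (Spec.map (CommRingCat.ofHom (algebraMap k C)))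
  haveI : IsIntegral D.left := inferInstanceAs (IsIntegral (Spec (CommRingCat.of C)))
  haveI : IsSeparated D.hom := inferInstanceAs (IsSeparated (Spec.map _))
  haveI : QuasiCompact D.hom := inferInstanceAs (QuasiCompact (Spec.map _))
  haveI : Smooth D.hom := by
    show Smooth (Spec.map _)
    rw [HasRingHomProperty.Spec_iff (P := @Smooth)]
    exact RingHom.smooth_algebraMap.2 inferInstance
  let π : A →+* C := (algebraMap B C).comp (Ideal.Quotient.mk P.asIdeal)
  have hπk : φ ≫ CommRingCat.ofHom π = CommRingCat.ofHom (algebraMap k C) := rfl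
  let w : D ⟶ X := Over.homMk (Spec.map (CommRingCat.ofHom π) ≫ hU.fromSpec) (by
    show (Spec.map (CommRingCat.ofHom π) ≫ hU.fromSpec) ≫ X.hom = Spec.map _
    rw [Category.assoc, ← hφ, ← Spec.map_comp, hπk])
  have hw : ∀ p : PrimeSpectrum C, w.left p = hU.fromSpec ⟨p.asIdeal.comap π, Ideal.IsPrime.comap π⟩ := fun p => rfl
  -- a point over `x`
  haveI : Algebra.IsIntegral B C := Algebra.IsIntegral.of_finite B C
  let mB := m.asIdeal.map (Ideal.Quotient.mk P.asIdeal)
  have hcm : mB.comap (Ideal.Quotient.mk P.asIdeal) = m.asIdeal := by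
    rw [Ideal.comap_map_of_surjective _ Ideal.Quotient.mk_surjective, ← RingHom.ker_eq_comap_bot, Ideal.mk_ker,
      sup_eq_left.2 (show P.asIdeal ≤ m.asIdeal from hPm)]
  haveI : mB.IsPrime := Ideal.map_isPrime_of_surjective Ideal.Quotient.mk_surjective (Ideal.mk_ker.le.trans hPm)
  obtain ⟨Q, -, hQp, hQ⟩ := Ideal.exists_ideal_over_prime_of_isIntegral mB (⊥ : Ideal C) (by
    rw [← RingHom.ker_eq_comap_bot, (RingHom.injective_iff_ker_eq_bot _).1 (FaithfulSMul.algebraMap_injective B C)]
    exact bot_le)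
  have hxc : IsClosed ({x} : Set X.left) := (pointEquivClosedPoint X.hom ⟨x₀.left, Over.w x₀⟩).2
  have hmB : mB.IsMaximal := by
    have hmm : m.asIdeal.IsMaximal := by
      refine (PrimeSpectrum.isClosed_singleton_iff_isMaximal m).1 ?_
      have : ({m} : Set _) = hU.fromSpec ⁻¹' {x} := by
        ext p
        simp only [Set.mem_singleton_iff, Set.mem_preimage, ← hm]
        exact hU.fromSpec.isOpenEmbedding.injective.eq_iff.symm
      rw [this]
      exact hxc.preimage hU.fromSpec.continuous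
    exact Ideal.IsMaximal.map_of_surjective_of_ker_le Ideal.Quotient.mk_surjective (Ideal.mk_ker.le.trans hPm)
  have hQm : Q.IsMaximal := Ideal.isMaximal_of_isIntegral_of_isMaximal_comap Q (hQ.symm ▸ hmB)
  let pQ : D.left := (⟨Q, hQp⟩ : PrimeSpectrum C)
  haveI : LocallyOfFiniteType D.hom := inferInstance
  let s := (pointEquivClosedPoint D.hom).symm ⟨pQ, (PrimeSpectrum.isClosed_singleton_iff_isMaximal _).2 hQm⟩
  let q : 𝟙_ (Over (Spec (CommRingCat.of k))) ⟶ D := Over.homMk s.1 s.2
  refine ⟨D, inferInstance, inferInstance, inferInstance, inferInstance, w, q, ?_, ?_⟩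
  · refine Over.OverMorphism.ext (ext_of_apply_closedPoint_eq X.hom (Over.w (q ≫ w)) (Over.w x₀) ?_)
    rw [Over.comp_left, Scheme.Hom.comp_apply]
    refine (congrArg w.left (show q.left (IsLocalRing.closedPoint k) = pQ from pointOfClosedPoint_apply _ _ _ _)).trans ((hw _).trans ?_)
    refine Eq.trans ?_ hm
    congr 1
    refine PrimeSpectrum.ext ?_
    show Q.comap π = m.asIdeal
    rw [← Ideal.comap_comap, ← hcm, ← hQ]
  · rw [show genericPoint D.left = (⊥ : PrimeSpectrum C) from genericPoint_eq_bot_of_affine (CommRingCat.of C), hw]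
    congr 1
    refine PrimeSpectrum.ext ?_
    show (⊥ : Ideal C).comap π = P.asIdeal
    rw [← RingHom.ker_eq_comap_bot, RingHom.ker_comp_of_injective _ (FaithfulSMul.algebraMap_injective B C),
      Ideal.mk_ker]

/-- A complete smooth model of a curve. -/
theorem exists_complete_curve {ξ : X.left} (hdeg : VarDim.deg X.hom ξ = 1) :
    ∃ (C : Over (Spec (CommRingCat.of k))) (_ : IsIntegral C.left) (_ : Smooth C.hom) (_ : IsProper C.hom)
      (U : C.left.Opens) (u : Over.mk (U.ι ≫ C.hom) ⟶ X) (c : U.toScheme), u.left c = ξ := by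
  classical
  let K := X.left.residueField ξ
  letI : Algebra k K := (VarDim.resHom X.hom ξ).toAlgebra
  have htr : Algebra.trdeg k K = 1 := by
    have h := VarDim.deg_eq_tdeg X.hom ξ
    rw [hdeg, Nat.cast_one] at h
    exact h.symm
  have hto : (H23.InsepBC.toResidue X.hom ξ).hom = VarDim.resHom X.hom ξ := by
    rw [H23.InsepBC.toResidue, VarDim.resHom, VarDim.baseMap]
    rw [Scheme.Hom.germ_stalkMap_assoc]
    rfl
  have hfg : (⊤ : IntermediateField k K).FG := by
    have h := H23.InsepBC.essFiniteType_toResidue X.hom ξ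
    rw [hto] at h
    haveI : Algebra.EssFiniteType k K := RingHom.essFiniteType_algebraMap.1 h
    exact IntermediateField.fg_top k K
  obtain ⟨N, iN, hint, hp, hn, hdim, e, he⟩ := S2345.result k K hfg htr
  let C : Over (Spec (CommRingCat.of k)) := Over.mk (N ↘ Spec (CommRingCat.of k))
  haveI : IsIntegral C.left := hint
  haveI : IsProper C.hom := hp
  haveI : IsLocallyNoetherian N := LocallyOfFiniteType.isLocallyNoetherian C.hom
  haveI : LocallyOfFiniteType (N ↘ Spec (CommRingCat.of k)) := inferInstanceAs (LocallyOfFiniteType C.hom)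
  have hsm : Smooth C.hom := by
    show Smooth (N ↘ Spec (CommRingCat.of k))
    refine CurveCohLib.RegularCurve.smooth_of_regular k (X := N) fun x hx => ?_
    haveI := (hn x).1
    haveI := (hn x).2
    haveI : Ring.DimensionLEOne (N.presheaf.stalk x) := dimensionLEOne_of_dim (hdim x hx).le
    haveI : IsDedekindRing (N.presheaf.stalk x) := IsDedekindRing.mk
    haveI : IsDedekindDomain (N.presheaf.stalk x) := IsDedekindDomain.mk
    exact IsRegularLocalRing.of_isRegularRing_of_isLocalRing _
  let η := genericPoint C.left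
  let ψ : Spec (C.left.presheaf.stalk η) ⟶ X.left :=
    Spec.map (CommRingCat.ofHom e.symm.toRingHom) ≫ X.left.fromSpecResidueField ξ
  have hψ : ψ ≫ X.hom = C.left.fromSpecStalk η ≫ C.hom := by
    rw [Category.assoc, H23.InsepBC.fromSpecResidueField_comp, fromSpecStalk_comp_base, ← Spec.map_comp]
    congr 1
    ext c
    show e.symm ((H23.InsepBC.toResidue X.hom ξ).hom c) = _
    rw [hto, show VarDim.resHom X.hom ξ c = algebraMap k K c from rfl, ← he c, e.symm_apply_apply]
    rfl
  let pm := Scheme.PartialMap.ofFromSpecStalk C.hom X.hom ψ hψ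
  have hη := Scheme.PartialMap.mem_domain_ofFromSpecStalk C.hom X.hom ψ hψ
  let u : Over.mk (pm.domain.ι ≫ C.hom) ⟶ X :=
    Over.homMk pm.hom (Scheme.PartialMap.ofFromSpecStalk_comp C.hom X.hom ψ hψ)
  refine ⟨C, inferInstance, hsm, inferInstance, pm.domain, u, ⟨η, hη⟩, ?_⟩
  have h1 := congrArg (fun f => f (IsLocalRing.closedPoint _))
    (Scheme.PartialMap.fromSpecStalkOfMem_ofFromSpecStalk C.hom X.hom ψ hψ)
  simp only [Scheme.PartialMap.fromSpecStalkOfMem, Scheme.Hom.comp_apply] at h1
  have h2 : pm.domain.fromSpecStalkOfMem η hη (IsLocalRing.closedPoint _) = ⟨η, hη⟩ := by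
    apply Subtype.ext
    have h3 := congrArg (fun f => f (IsLocalRing.closedPoint _)) (pm.domain.fromSpecStalkOfMem_ι η hη)
    simp only [Scheme.Hom.comp_apply, Scheme.fromSpecStalk_closedPoint] at h3
    exact h3
  show pm.hom _ = ξ
  rw [← h2]
  refine h1.trans ?_
  simp only [ψ, Scheme.Hom.comp_apply]
  exact Scheme.fromSpecResidueField_apply ξ _

end Groth.Agent.AVTors
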