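import Mathlib.NumberTheory.Padics.RingHoms
import Mathlib.LinearAlgebra.FreeModule.Finite.Quotient
import Mathlib.LinearAlgebra.Determinant
import Mathlib.SetTheory.Cardinal.Finite

/-!
The cokernel of an injective map of free modules over the `l`-adic integers has order given by the determinant.
-/

set_option autoImplicit false
set_option maxHeartbeats 400000
set_option linter.style.haveILetI false

noncomputable section

open Module Submodule

namespace Groth.Agent.AVTors

variable {l : ℕ} [Fact l.Prime]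

theorem card_quotient_span_singleton (a : ℤ_[l]) (ha : a ≠ 0) :
    Nat.card (ℤ_[l] ⧸ Ideal.span {a}) = l ^ a.valuation := by
  obtain ⟨u, hu⟩ : ∃ u : ℤ_[l]ˣ, a = u * (l : ℤ_[l]) ^ a.valuation := ⟨_, PadicInt.unitCoeff_spec ha⟩
  have hspan : Ideal.span {a} = RingHom.ker (PadicInt.toZModPow (p := l) a.valuation) := by
    rw [PadicInt.ker_toZModPow]
    generalize a.valuation = v at hu ⊢
    subst hu
    exact Ideal.span_singleton_mul_left_unit u.isUnit _
  rw [hspan]
  rw [Nat.card_congr (RingHom.quotientKerEquivOfSurjective (ZMod.ringHom_surjective _)).toEquiv, Nat.card_zmod]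

theorem valuation_of_associated {a b : ℤ_[l]} (h : Associated a b) (ha : a ≠ 0) : a.valuation = b.valuation := by
  obtain ⟨u, rfl⟩ := h
  rw [PadicInt.valuation_mul ha u.ne_zero, show (u : ℤ_[l]).valuation = 0 by
    have h1 := PadicInt.valuation_mul u.ne_zero (u⁻¹).ne_zero (p := l)
    rw [Units.mul_inv, PadicInt.valuation_one] at h1
    omega, add_zero]

theorem valuation_finset_prod {ι : Type*} (s : Finset ι) (a : ι → ℤ_[l]) (ha : ∀ i, a i ≠ 0) :
    (∏ i ∈ s, a i).valuation = ∑ i ∈ s, (a i).valuation := by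
  classical
  induction s using Finset.induction_on with
  | empty => simp
  | insert i s hi ih =>
    rw [Finset.prod_insert hi, Finset.sum_insert hi, PadicInt.valuation_mul (ha i)
      (Finset.prod_ne_zero_iff.2 fun j _ => ha j), ih]

theorem isUnit_det_toMatrix {ι : Type*} [Fintype ι] [DecidableEq ι] {N₁ N₂ : Type*} [AddCommGroup N₁]
    [Module ℤ_[l] N₁] [AddCommGroup N₂] [Module ℤ_[l] N₂] (b₁ : Basis ι ℤ_[l] N₁) (b₂ : Basis ι ℤ_[l] N₂)
    (g : N₁ ≃ₗ[ℤ_[l]] N₂) : IsUnit (LinearMap.toMatrix b₁ b₂ g.toLinearMap).det := by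
  refine IsUnit.of_mul_eq_one (LinearMap.toMatrix b₂ b₁ g.symm.toLinearMap).det ?_
  rw [← Matrix.det_mul, ← LinearMap.toMatrix_comp b₂ b₁ b₂, LinearEquiv.comp_symm, LinearMap.toMatrix_id,
    Matrix.det_one]

theorem card_quotient_range {ι : Type*} [Fintype ι] [DecidableEq ι] {M M' : Type*} [AddCommGroup M]
    [Module ℤ_[l] M] [AddCommGroup M'] [Module ℤ_[l] M'] (bA : Basis ι ℤ_[l] M) (bB : Basis ι ℤ_[l] M')
    (F : M →ₗ[ℤ_[l]] M') (hF : Function.Injective F) :
    Nat.card (M' ⧸ LinearMap.range F) = l ^ (LinearMap.toMatrix bA bB F).det.valuation := by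
  classical
  haveI : Module.Free ℤ_[l] M' := Module.Free.of_basis bB
  haveI : Module.Finite ℤ_[l] M' := Module.Finite.of_basis bB
  let e : M ≃ₗ[ℤ_[l]] LinearMap.range F := LinearEquiv.ofInjective F hF
  have h : finrank ℤ_[l] (LinearMap.range F) = finrank ℤ_[l] M' := by
    rw [← e.finrank_eq, finrank_eq_card_basis bA, finrank_eq_card_basis bB]
  obtain ⟨a, ha'⟩ : { a : ι → ℤ_[l] // a = smithNormalFormCoeffs bB h } := ⟨_, rfl⟩
  obtain ⟨b', hb'⟩ : { b : Basis ι ℤ_[l] M' // b = smithNormalFormTopBasis bB h } := ⟨_, rfl⟩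
  obtain ⟨ab, hab⟩ : { b : Basis ι ℤ_[l] (LinearMap.range F) // b = smithNormalFormBotBasis bB h } := ⟨_, rfl⟩
  have ab_eq : ∀ i, ((ab i : LinearMap.range F) : M') = a i • b' i := fun i => by
    subst ha' hb' hab; exact smithNormalFormBotBasis_def bB h i
  have hane : ∀ i, a i ≠ 0 := fun i h0 => ab.ne_zero i (Subtype.ext (by
    rw [ab_eq, h0, zero_smul]; rfl))
  have hmat : LinearMap.toMatrix ab b' (LinearMap.range F).subtype = Matrix.diagonal a := by
    ext i j
    rw [LinearMap.toMatrix_apply, Submodule.coe_subtype, ab_eq, map_smul, Basis.repr_self, Finsupp.smul_single,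
      smul_eq_mul, mul_one]
    by_cases hij : i = j
    · subst hij; rw [Matrix.diagonal_apply_eq, Finsupp.single_eq_same]
    · rw [Matrix.diagonal_apply_ne _ hij, Finsupp.single_eq_of_ne hij]
  have hdecomp : LinearMap.toMatrix bA bB F =
      LinearMap.toMatrix b' bB LinearMap.id * (Matrix.diagonal a * LinearMap.toMatrix bA ab e.toLinearMap) := by
    have hFe : (LinearMap.range F).subtype.comp e.toLinearMap = F := LinearMap.ext fun x => rfl
    rw [← hmat, ← LinearMap.toMatrix_comp, ← LinearMap.toMatrix_comp, LinearMap.id_comp, hFe]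
  have hassoc : Associated (∏ i, a i) (LinearMap.toMatrix bA bB F).det := by
    rw [hdecomp, Matrix.det_mul, Matrix.det_mul, Matrix.det_diagonal, mul_left_comm]
    exact (associated_mul_unit_right _ _
      ((isUnit_det_toMatrix b' bB (LinearEquiv.refl ℤ_[l] M')).mul (isUnit_det_toMatrix bA ab e)))
  rw [← valuation_of_associated hassoc (Finset.prod_ne_zero_iff.2 fun i _ => hane i),
    valuation_finset_prod _ _ hane, ← Finset.prod_pow_eq_pow_sum,
    Nat.card_congr (Submodule.quotientEquivPiSpan (LinearMap.range F) bB h).toEquiv, Nat.card_pi]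
  subst ha'
  exact Finset.prod_congr rfl fun i _ => card_quotient_span_singleton _ (hane i)

end Groth.Agent.AVTors
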