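import Groth.Agent.AVTors.IsogDegree

/-!
Functoriality of the map on function fields, and faithfulness.
-/

noncomputable section

set_option linter.style.haveILetI false
set_option linter.unusedSectionVars false
set_option backward.isDefEq.respectTransparency false
set_option backward.isDefEq.respectTransparency.types false
set_option maxHeartbeats 1000000
set_option autoImplicit false

universe u

open CategoryTheory CategoryTheory.Limits AlgebraicGeometry TopologicalSpace

namespace Groth.Agent.AVTors

variable {k : Type u} [Field k]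

theorem ffMap_ringHom_ext {A B : Over (Spec (CommRingCat.of k))} [IsIntegral A.left] [IsIntegral B.left]
    {g h : B.left.functionField →+* A.left.functionField}
    (H : ∀ (U : B.left.Opens) (hU : genericPoint B.left ∈ U) (a : Γ(B.left, U)),
      g (AVDegLib.gm U hU a) = h (AVDegLib.gm U hU a)) : g = h := by
  ext x
  obtain ⟨U, hU, hη, -⟩ := exists_isAffineOpen_mem_and_subset (x := genericPoint B.left) (U := ⊤) trivial
  obtain ⟨a', ha', b', hb', -, rfl⟩ := AVDegLib.frac_sect hU hη x
  obtain ⟨a, rfl⟩ := ha' hη
  obtain ⟨b, rfl⟩ := hb' hη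
  rw [map_div₀, map_div₀, H, H]

variable {A B C : Over (Spec (CommRingCat.of k))} [IsIntegral A.left] [IsIntegral B.left] [IsIntegral C.left]

theorem ffMap_comp (f : A ⟶ B) [IsFinite f.left] [Surjective f.left] (g : B ⟶ C) [IsFinite g.left]
    [Surjective g.left] [IsFinite (f ≫ g).left] [Surjective (f ≫ g).left] :
    AVDegLib.ffMap (f ≫ g) = (AVDegLib.ffMap f).comp (AVDegLib.ffMap g) :=
  ffMap_ringHom_ext fun U hU a => by
    rw [RingHom.comp_apply, AVDegLib.ffMap_gm (f ≫ g) hU, AVDegLib.ffMap_gm g hU,
      AVDegLib.ffMap_gm f (AVDegLib.eta_preimage g hU)]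
    rfl

theorem ffMap_congr {f g : A ⟶ B} (h : f = g) [IsFinite f.left] [Surjective f.left] [IsFinite g.left]
    [Surjective g.left] : AVDegLib.ffMap f = AVDegLib.ffMap g := by
  subst h; rfl

theorem ffMap_id [IsFinite (𝟙 A : A ⟶ A).left] [Surjective (𝟙 A : A ⟶ A).left] :
    AVDegLib.ffMap (𝟙 A) = RingHom.id _ :=
  ffMap_ringHom_ext fun U hU a => by rw [AVDegLib.ffMap_gm _ hU]; rfl

theorem fromSpecStalk_comp (f : A ⟶ B) [IsFinite f.left] [Surjective f.left] :
    A.left.fromSpecStalk (genericPoint A.left) ≫ f.left =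
      Spec.map (CommRingCat.ofHom (AVDegLib.ffMap f)) ≫ B.left.fromSpecStalk (genericPoint B.left) := by
  rw [← Scheme.SpecMap_stalkMap_fromSpecStalk,
    ← Scheme.SpecMap_stalkSpecializes_fromSpecStalk
      (show f.left (genericPoint A.left) ⤳ genericPoint B.left by rw [AVDegLib.map_eta]), ← Category.assoc,
    ← Spec.map_comp]
  rfl

theorem ffMap_injective [IsSeparated B.hom] {f g : A ⟶ B} [IsFinite f.left] [Surjective f.left]
    [IsFinite g.left] [Surjective g.left] (h : AVDegLib.ffMap f = AVDegLib.ffMap g) : f = g := by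
  haveI : IsDominant (A.left.fromSpecStalk (genericPoint A.left)) := by
    refine ⟨?_⟩
    rw [DenseRange, Scheme.range_fromSpecStalk]
    refine Dense.mono (s₁ := {genericPoint A.left}) (Set.singleton_subset_iff.2 (specializes_refl _)) ?_
    rw [dense_iff_closure_eq]
    exact genericPoint_spec A.left
  refine Over.OverMorphism.ext (ext_of_isDominant_of_isSeparated B.hom ((Over.w f).trans (Over.w g).symm)
    (A.left.fromSpecStalk (genericPoint A.left)) ?_)
  rw [fromSpecStalk_comp f, fromSpecStalk_comp g, h]

end Groth.Agent.AVTors
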