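import Groth.Agent.AVTors.FrobKilled
import Groth.Agent.GrpSchLib.AffineHopf

/-!
A finite commutative group scheme with trivial absolute `q`-Frobenius is killed by `q`.
-/

set_option autoImplicit false
set_option linter.style.haveILetI false

universe u

open CategoryTheory CategoryTheory.Limits MonoidalCategory CartesianMonoidalCategory MonObj AlgebraicGeometry
open TensorProduct WithConv
open Groth.Agent.GrpSchLib.AffineHopf

namespace Groth.Agent.AVTors.FrobKilled

/-- The Hopf algebra of a commutative affine group is cocommutative. -/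
theorem isCocomm_of_comm {R : Type u} [CommRing R] {A : Type u} [CommRing A] [HopfAlgebra R A]
    [IsCommMonObj (sp R A)] : Coalgebra.IsCocomm R A := by
  let l : A →ₐ[R] A ⊗[R] A := Algebra.TensorProduct.includeLeft
  let r : A →ₐ[R] A ⊗[R] A := Algebra.TensorProduct.includeRight
  have h : (toConv r * toConv l).ofConv = (toConv l * toConv r).ofConv :=
    spMap_injective (by rw [← spMap_mul, ← spMap_mul, _root_.mul_comm])
  refine ⟨LinearMap.ext fun a => ?_⟩
  have h' := DFunLike.congr_fun h a
  rw [AlgHom.convMul_apply, AlgHom.convMul_apply] at h'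
  show (TensorProduct.comm R A A) (Coalgebra.comul a) = Coalgebra.comul a
  revert h'
  generalize (Coalgebra.comul (R := R) a : A ⊗[R] A) = t
  intro h'
  have e1 : Algebra.TensorProduct.lift r l (fun x y => mul_comm _ _) t = (TensorProduct.comm R A A) t := by
    clear h'
    induction t using TensorProduct.induction_on with
    | zero => simp
    | add x y hx hy => rw [map_add, map_add, hx, hy]
    | tmul x y => exact (Algebra.TensorProduct.lift_tmul r l _ x y).trans (by simp [l, r])
  have e2 : Algebra.TensorProduct.lift l r (fun x y => mul_comm _ _) t = t := by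
    clear h' e1
    induction t using TensorProduct.induction_on with
    | zero => simp
    | add x y hx hy => rw [map_add, hx, hy]
    | tmul x y => exact (Algebra.TensorProduct.lift_tmul l r _ x y).trans (by simp [l, r])
  rw [← e1, h', e2]

variable {k : Type u} [Field k]

theorem spMap_toConv_pow {A : Type u} [CommRing A] [HopfAlgebra k A] (n : ℕ) :
    spMap (SGA3b.powConv k A n) = (𝟙 (sp k A)) ^ n := by
  rw [← spMap_id, spMap_eq_mapMulEquiv, spMap_eq_mapMulEquiv, ← map_pow]
  rfl

theorem spMap_counit {A : Type u} [CommRing A] [HopfAlgebra k A] :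
    spMap ((Algebra.ofId k A).comp (Bialgebra.counitAlgHom k A)) = (1 : sp k A ⟶ sp k A) := by
  rw [spMap_eq_mapMulEquiv]
  refine Eq.trans ?_ (map_one Spec.mapMulEquiv)
  congr 1

/-- Killed by `q` if the `q`-th power of every function is constant. -/
theorem pow_eq_one_of_frob (p : ℕ) [Fact p.Prime] [CharP k p] (r : ℕ) {A : Type u} [CommRing A] [HopfAlgebra k A]
    [IsCommMonObj (sp k A)] [Module.Finite k A] (F : A →ₐ[k] A) (hF : ∀ a, F a = a ^ p ^ r) (h1 : spMap F = 1) :
    (𝟙 (sp k A)) ^ (p ^ r) = 1 := by
  haveI := isCocomm_of_comm (R := k) (A := A)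
  haveI : Nontrivial A := (Bialgebra.counitAlgHom k A).toRingHom.domain_nontrivial
  haveI : CharP A p := charP_of_injective_algebraMap (algebraMap k A).injective p
  rw [← spMap_counit] at h1
  have hF' : ∀ a : A, a ^ p ^ r = algebraMap k A (Bialgebra.counitAlgHom k A (a ^ p ^ r)) := fun a => by
    have h2 : a ^ p ^ r = algebraMap k A (Bialgebra.counitAlgHom k A a) :=
      (hF a).symm.trans (DFunLike.congr_fun (spMap_injective h1) a)
    conv_rhs => rw [h2, AlgHom.commutes, Algebra.algebraMap_self, RingHom.id_apply]
    exact h2
  rw [← spMap_toConv_pow, ← spMap_counit]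
  congr 1
  exact AlgHom.ext fun a => powConv_eq_counit p r hF' a

end Groth.Agent.AVTors.FrobKilled
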