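import Mathlib.Algebra.Module.ZMod
import Mathlib.GroupTheory.PGroup
import Mathlib.Data.ZMod.QuotientRing
import Mathlib.Data.Nat.Factorization.Induction
import Mathlib.LinearAlgebra.FiniteDimensional.Basic
import Mathlib.LinearAlgebra.FreeModule.Finite.Matrix
import Mathlib.FieldTheory.Finiteness
import Mathlib.Algebra.Field.ZMod
import Mathlib.LinearAlgebra.Dimension.Free
import Mathlib.LinearAlgebra.Basis.Defs
import Mathlib.LinearAlgebra.Basis.Basic
import Mathlib.LinearAlgebra.FiniteDimensional.Lemmas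
import Mathlib.LinearAlgebra.Finsupp.LinearCombination

/-!
Torsion of divisible commutative groups, and groups with the torsion counts of `(ℤ/n)ʳ`.
-/

set_option autoImplicit false
set_option linter.style.haveILetI false
set_option backward.isDefEq.respectTransparency false
set_option backward.isDefEq.respectTransparency.types false

universe u

namespace Groth.Agent.AVTors

variable {M : Type u} [CommGroup M]

/-- The kernel of the `n`-th power. -/
abbrev pker (M : Type u) [CommGroup M] (n : ℕ) : Subgroup M := (powMonoidHom n : M →* M).ker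

theorem mem_pker {n : ℕ} {x : M} : x ∈ pker M n ↔ x ^ n = 1 := Iff.rfl

theorem card_pker_mul (a b : ℕ) (ha : ∀ y : M, ∃ x, x ^ a = y) :
    Nat.card (pker M (a * b)) = Nat.card (pker M a) * Nat.card (pker M b) := by
  let f : pker M (a * b) →* pker M b :=
    ((powMonoidHom a : M →* M).comp (pker M (a * b)).subtype).codRestrict _ fun x => by
      rw [mem_pker]
      show ((x : M) ^ a) ^ b = 1
      rw [← pow_mul]
      exact x.2
  have hf : Function.Surjective f := fun y => by
    obtain ⟨x, hx⟩ := ha y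
    exact ⟨⟨x, by rw [mem_pker, pow_mul, hx]; exact y.2⟩, Subtype.ext hx⟩
  rw [Subgroup.card_eq_card_quotient_mul_card_subgroup f.ker,
    Nat.card_congr (QuotientGroup.quotientKerEquivOfSurjective f hf).toEquiv, mul_comm]
  congr 1
  refine Nat.card_congr
    { toFun := fun x => ⟨x.1.1, congrArg Subtype.val x.2⟩
      invFun := fun x => ⟨⟨x.1, by rw [mem_pker, pow_mul, show x.1 ^ a = 1 from x.2, one_pow]⟩,
        Subtype.ext (show x.1 ^ a = 1 from x.2)⟩
      left_inv := fun _ => rfl
      right_inv := fun _ => rfl }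

theorem card_pker_one : Nat.card (pker M 1) = 1 := by
  have : Subsingleton (pker M 1) := ⟨fun x y => Subtype.ext
    (((pow_one (x : M)).symm.trans x.2).trans ((pow_one (y : M)).symm.trans y.2).symm)⟩
  exact Nat.card_of_subsingleton ⟨1, one_mem _⟩

/-- If each prime kills at most `qʳ` elements then `n` kills a divisor of `nʳ`. -/
theorem card_pker_dvd (r : ℕ) (hdiv : ∀ n, 0 < n → ∀ y : M, ∃ x, x ^ n = y)
    (hle : ∀ q : ℕ, q.Prime → Finite (pker M q) ∧ Nat.card (pker M q) ≤ q ^ r) (n : ℕ) (hn : 0 < n) :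
    Nat.card (pker M n) ∣ n ^ r := by
  induction n using Nat.recOnMul with
  | zero => simp at hn
  | one => rw [card_pker_one]; exact one_dvd _
  | prime q hq =>
    obtain ⟨hf, hc⟩ := hle q hq
    haveI := Fact.mk hq
    have hP : IsPGroup q (pker M q) := fun x => ⟨1, Subtype.ext (by
      rw [pow_one, SubmonoidClass.coe_pow]; exact x.2)⟩
    obtain ⟨i, hi⟩ := IsPGroup.iff_card.1 hP
    rw [hi] at hc ⊢
    exact pow_dvd_pow _ ((Nat.pow_le_pow_iff_right hq.one_lt).1 hc)
  | mul a b iha ihb =>
    have ha : 0 < a := Nat.pos_of_mul_pos_right hn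
    rw [card_pker_mul a b (hdiv a ha), mul_pow]
    exact mul_dvd_mul (iha ha) (ihb (Nat.pos_of_mul_pos_left hn))

section Free

/-- `r` generators of an elementary abelian group of order `pʳ`. -/
theorem exists_gen (p r : ℕ) [Fact p.Prime] (V : Type u) [AddCommGroup V] [Finite V] [Module (ZMod p) V]
    (hc : Nat.card V = p ^ r) : ∃ v : Fin r → V, ∀ x, ∃ c : Fin r → ℕ, ∑ i, c i • v i = x := by
  haveI : Module.Finite (ZMod p) V := Module.Finite.of_finite
  have hr : Module.finrank (ZMod p) V = r := by
    have := Module.natCard_eq_pow_finrank (K := ZMod p) (V := V)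
    rw [hc, Nat.card_zmod] at this
    exact (Nat.pow_right_injective (Fact.out : p.Prime).two_le this).symm
  let b := Module.finBasisOfFinrankEq (ZMod p) V hr
  refine ⟨fun i => b i, fun x => ⟨fun i => (b.repr x i).val, ?_⟩⟩
  conv_rhs => rw [← b.sum_repr x]
  refine Finset.sum_congr rfl fun i _ => ?_
  conv_rhs => rw [← ZMod.natCast_zmod_val (b.repr x i)]
  rw [Nat.cast_smul_eq_nsmul]


/-- A finite group with the torsion counts of `(ℤ/n)ʳ` is `(ℤ/n)ʳ`. -/
theorem nonempty_addEquiv (r : ℕ) (n : ℕ) (hn : 0 < n) :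
    ∀ (G : Type u) [AddCommGroup G], (∀ x : G, n • x = 0) →
      (∀ d, d ∣ n → Nat.card {x : G // d • x = 0} = d ^ r) → Nonempty (G ≃+ (Fin r → ZMod n)) := by
  induction n using Nat.recOnPrimeCoprime with
  | zero => simp at hn
  | prime_pow p a hp =>
    intro G _ hG hcard
    haveI := Fact.mk hp
    have hGc : Nat.card G = (p ^ a) ^ r := by
      rw [← hcard _ dvd_rfl]
      exact Nat.card_congr (Equiv.subtypeUnivEquiv hG).symm
    haveI : NeZero (p ^ a) := ⟨hn.ne'⟩
    haveI : Finite G := Nat.finite_of_card_ne_zero (hGc ▸ (pow_pos hn r).ne')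
    rcases Nat.eq_zero_or_pos a with rfl | ha
    · have : Subsingleton G := ⟨fun x y => by
        have hx := hG x; have hy := hG y
        rw [pow_zero, one_smul] at hx hy; rw [hx, hy]⟩
      have : Subsingleton (ZMod (p ^ 0)) := by rw [pow_zero]; infer_instance
      exact ⟨{ toFun := fun _ => 0, invFun := fun _ => 0, left_inv := fun _ => Subsingleton.elim _ _,
               right_inv := fun _ => Subsingleton.elim _ _, map_add' := fun _ _ => Subsingleton.elim _ _ }⟩
    let P : AddSubgroup G := (nsmulAddMonoidHom p : G →+ G).range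
    have hpQ : ∀ q : G ⧸ P, p • q = 0 := fun q => by
      obtain ⟨x, rfl⟩ := QuotientAddGroup.mk_surjective q
      rw [← QuotientAddGroup.mk_nsmul, QuotientAddGroup.eq_zero_iff]
      exact ⟨x, rfl⟩
    letI : Module (ZMod p) (G ⧸ P) := AddCommGroup.zmodModule hpQ
    have hcQ : Nat.card (G ⧸ P) = p ^ r := by
      have h1 := P.card_eq_card_quotient_mul_card_addSubgroup
      have h2 := (nsmulAddMonoidHom p : G →+ G).ker.card_eq_card_quotient_mul_card_addSubgroup
      rw [Nat.card_congr (QuotientAddGroup.quotientKerEquivRange (nsmulAddMonoidHom p : G →+ G)).toEquiv, h1,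
        show Nat.card (nsmulAddMonoidHom p : G →+ G).ker = p ^ r from
          hcard p (dvd_pow_self _ ha.ne'), mul_comm] at h2
      exact Nat.eq_of_mul_eq_mul_left Nat.card_pos h2
    haveI : Finite (G ⧸ P) := Finite.of_surjective (QuotientAddGroup.mk : G → G ⧸ P) QuotientAddGroup.mk_surjective
    obtain ⟨w, hw⟩ := exists_gen p r (G ⧸ P) hcQ
    choose v hv using fun i : Fin r => QuotientAddGroup.mk_surjective (w i)
    have hstep : ∀ x : G, ∃ (c : Fin r → ℕ) (z : G), x = (∑ i, c i • v i) + p • z := fun x => by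
      obtain ⟨c, hc⟩ := hw (x : G ⧸ P)
      have h0 : ((x - ∑ i, c i • v i : G) : G ⧸ P) = 0 := by
        rw [QuotientAddGroup.mk_sub, ← hc, sub_eq_zero]
        refine Eq.trans ?_ (map_sum (QuotientAddGroup.mk' P) (fun i => c i • v i) Finset.univ).symm
        refine Finset.sum_congr rfl fun i _ => ?_
        rw [map_nsmul, QuotientAddGroup.mk'_apply, hv]
      obtain ⟨z, hz⟩ := (QuotientAddGroup.eq_zero_iff _).1 h0
      exact ⟨c, z, by rw [show p • z = _ from hz]; abel⟩
    have hiter : ∀ j, ∀ x : G, ∃ (c : Fin r → ℕ) (z : G), x = (∑ i, c i • v i) + p ^ j • z := by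
      intro j
      induction j with
      | zero => exact fun x => ⟨fun _ => 0, x, by simp⟩
      | succ j ih =>
        intro x
        obtain ⟨c, z, rfl⟩ := ih x
        obtain ⟨c', z', rfl⟩ := hstep z
        refine ⟨fun i => c i + p ^ j * c' i, z', ?_⟩
        simp only [add_smul, mul_smul, Finset.sum_add_distrib, pow_succ, smul_add, Finset.smul_sum]
        abel
    let ψ : (Fin r → ZMod (p ^ a)) →+ G := ∑ i, (ZMod.lift (p ^ a) ⟨zmultiplesHom G (v i), by
      show ((p ^ a : ℕ) : ℤ) • v i = 0
      rw [natCast_zsmul]; exact hG _⟩).comp (Pi.evalAddMonoidHom (fun _ : Fin r => ZMod (p ^ a)) i)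
    have hsurj : Function.Surjective ψ := fun x => by
      obtain ⟨c, z, rfl⟩ := hiter a x
      refine ⟨fun i => ((c i : ℤ) : ZMod (p ^ a)), ?_⟩
      rw [hG, add_zero, AddMonoidHom.finsetSum_apply]
      refine Finset.sum_congr rfl fun i _ => ?_
      rw [AddMonoidHom.comp_apply, Pi.evalAddMonoidHom_apply, ZMod.lift_coe]
      exact natCast_zsmul (v i) (c i)
    haveI := Fintype.ofFinite G
    have hbij : Function.Bijective ψ := (Nat.bijective_iff_surjective_and_card _).2
      ⟨hsurj, by rw [hGc, Nat.card_fun, Nat.card_zmod, Nat.card_eq_fintype_card, Fintype.card_fin]⟩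
    exact ⟨(AddEquiv.ofBijective ψ hbij).symm⟩
  | coprime a b ha1 hb1 hab iha ihb =>
    intro G _ hG hcard
    have ha : 0 < a := by omega
    have hb : 0 < b := by omega
    let Ga : AddSubgroup G := (nsmulAddMonoidHom a : G →+ G).ker
    let Gb : AddSubgroup G := (nsmulAddMonoidHom b : G →+ G).ker
    have hsub : ∀ (m : ℕ) (H : AddSubgroup G), H = (nsmulAddMonoidHom m : G →+ G).ker → m ∣ a * b →
        (∀ x : H, m • x = 0) ∧ ∀ d, d ∣ m → Nat.card {x : H // d • x = 0} = d ^ r := by
      rintro m H rfl hm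
      refine ⟨fun x => Subtype.ext x.2, fun d hd => ?_⟩
      rw [← hcard d (hd.trans hm)]
      refine Nat.card_congr
        { toFun := fun x => ⟨x.1.1, congrArg Subtype.val x.2⟩
          invFun := fun x => ⟨⟨x.1, ?_⟩, Subtype.ext x.2⟩
          left_inv := fun _ => rfl
          right_inv := fun _ => rfl }
      obtain ⟨c, rfl⟩ := hd
      show (d * c) • x.1 = 0
      rw [mul_comm, mul_smul, x.2, smul_zero]
    obtain ⟨hGa, hca⟩ := hsub a Ga rfl (dvd_mul_right _ _)
    obtain ⟨hGb, hcb⟩ := hsub b Gb rfl (dvd_mul_left _ _)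
    obtain ⟨ea⟩ := iha ha Ga hGa hca
    obtain ⟨eb⟩ := ihb hb Gb hGb hcb
    let f : G →+ Ga × Gb :=
      ((nsmulAddMonoidHom b : G →+ G).codRestrict Ga fun x => show a • b • x = 0 by rw [← mul_smul, hG]).prod
      ((nsmulAddMonoidHom a : G →+ G).codRestrict Gb fun x => show b • a • x = 0 by
        rw [← mul_smul, mul_comm, hG])
    have hinj : Function.Injective f := by
      refine (injective_iff_map_eq_zero f).2 fun x hx => ?_
      have h1 : b • x = 0 := congrArg Subtype.val (congrArg Prod.fst hx)
      have h2 : a • x = 0 := congrArg Subtype.val (congrArg Prod.snd hx)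
      have h3 : addOrderOf x ∣ Nat.gcd a b := Nat.dvd_gcd (addOrderOf_dvd_of_nsmul_eq_zero h2)
        (addOrderOf_dvd_of_nsmul_eq_zero h1)
      rw [hab.gcd_eq_one, Nat.dvd_one, AddMonoid.addOrderOf_eq_one_iff] at h3
      exact h3
    have hc1 : Nat.card G = Nat.card (Ga × Gb) := by
      rw [Nat.card_prod, show Nat.card Ga = _ from hcard a (dvd_mul_right _ _),
        show Nat.card Gb = _ from hcard b (dvd_mul_left _ _), ← mul_pow, ← hcard _ dvd_rfl]
      exact Nat.card_congr (Equiv.subtypeUnivEquiv hG).symm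
    haveI : Finite (Ga × Gb) := Nat.finite_of_card_ne_zero (by
      rw [← hc1, show Nat.card G = _ from (Nat.card_congr (Equiv.subtypeUnivEquiv hG).symm).trans
        (hcard _ dvd_rfl)]
      exact (pow_pos hn r).ne')
    have hbij : Function.Bijective f := (Nat.bijective_iff_injective_and_card _).2 ⟨hinj, hc1⟩
    let crt : ZMod (a * b) ≃+ ZMod a × ZMod b := (ZMod.chineseRemainder hab).toAddEquiv
    let pi : (Fin r → ZMod (a * b)) ≃+ (Fin r → ZMod a) × (Fin r → ZMod b) :=
      { toFun := fun x => (fun i => (crt (x i)).1, fun i => (crt (x i)).2)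
        invFun := fun y i => crt.symm (y.1 i, y.2 i)
        left_inv := fun x => funext fun i => crt.symm_apply_apply (x i)
        right_inv := fun y => Prod.ext (funext fun i => by simp) (funext fun i => by simp)
        map_add' := fun x y => Prod.ext (funext fun i => by simp) (funext fun i => by simp) }
    exact ⟨((AddEquiv.ofBijective f hbij).trans (ea.prodCongr eb)).trans pi.symm⟩

end Free

end Groth.Agent.AVTors
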