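import Groth.Agent.S12017
import Groth.Agent.H23.MaxAbelian
import Mathlib.AlgebraicGeometry.Morphisms.FlatDescent

/-! Homomorphisms of abelian varieties descend along primary extensions (Chow). -/

set_option autoImplicit false
set_option linter.style.haveILetI false
set_option backward.isDefEq.respectTransparency false
set_option backward.isDefEq.respectTransparency.types false
set_option maxHeartbeats 4000000
set_option synthInstance.maxHeartbeats 100000

universe u

open CategoryTheory CategoryTheory.Limits MonoidalCategory CartesianMonoidalCategory MonObj AlgebraicGeometry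

namespace Groth.Agent.AVTors.HomDescend

variable {k K : Type u} [Field k] [Field K] [Algebra k K]

/-- The morphism of spectra of a field extension. -/
noncomputable abbrev bb (k K : Type u) [Field k] [Field K] [Algebra k K] :
    Spec (CommRingCat.of K) ⟶ Spec (CommRingCat.of k) :=
  Spec.map (CommRingCat.ofHom (algebraMap k K))

theorem faithful_bc : (Over.pullback (bb k K)).Faithful := by
  haveI : Flat (bb k K) := (HasRingHomProperty.Spec_iff (P := @Flat)).2 (RingHom.flat_algebraMap_iff.2 inferInstance)
  haveI : Surjective (bb k K) := ⟨fun z => ⟨IsLocalRing.closedPoint K, Subsingleton.elim _ _⟩⟩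
  haveI : QuasiCompact (bb k K) := inferInstance
  infer_instance

/-- A morphism over `k` is an isomorphism if its base change is. -/
theorem isIso_of_bc {X Y : Over (Spec (CommRingCat.of k))} (f : X ⟶ Y)
    [IsIso ((Over.pullback (bb k K)).map f)] : IsIso f := by
  haveI : Flat (bb k K) := (HasRingHomProperty.Spec_iff (P := @Flat)).2 (RingHom.flat_algebraMap_iff.2 inferInstance)
  haveI : Surjective (bb k K) := ⟨fun z => ⟨IsLocalRing.closedPoint K, Subsingleton.elim _ _⟩⟩
  have hpb : IsPullback ((Over.pullback (bb k K)).map f).left (pullback.fst X.hom (bb k K))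
      (pullback.fst Y.hom (bb k K)) f.left := by
    refine IsPullback.of_right (h₁₂ := pullback.snd Y.hom (bb k K)) (v₁₃ := bb k K) (h₂₂ := Y.hom) ?_ ?_
      (IsPullback.of_hasPullback Y.hom (bb k K)).flip
    · rw [Over.w f, show ((Over.pullback (bb k K)).map f).left ≫ pullback.snd Y.hom (bb k K) =
        pullback.snd X.hom (bb k K) from Over.w _]
      exact (IsPullback.of_hasPullback X.hom (bb k K)).flip
    · simp
  have hQ : (@Surjective ⊓ @Flat ⊓ @QuasiCompact : MorphismProperty Scheme.{u}) (pullback.fst Y.hom (bb k K)) :=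
    ⟨⟨MorphismProperty.pullback_fst (P := @Surjective) _ _ inferInstance,
      MorphismProperty.pullback_fst (P := @Flat) _ _ inferInstance⟩,
      MorphismProperty.pullback_fst (P := @QuasiCompact) _ _ inferInstance⟩
  have h : MorphismProperty.isomorphisms Scheme.{u} ((Over.pullback (bb k K)).map f).left :=
    inferInstanceAs (IsIso ((Over.forget _).map ((Over.pullback (bb k K)).map f)))
  have : IsIso ((Over.forget _).map f) := MorphismProperty.of_isPullback_of_descendsAlong
    (P := MorphismProperty.isomorphisms Scheme.{u}) (Q := @Surjective ⊓ @Flat ⊓ @QuasiCompact) hpb hQ h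
  exact isIso_of_reflects_iso f (Over.forget _)

/-- Chow: homomorphisms between base changes of abelian varieties are defined over the base field. -/
theorem exists_hom (hprim : ∀ x : K, IsSeparable k x → x ∈ (algebraMap k K).range)
    (B C : Over (Spec (CommRingCat.of k))) [GrpObj B] [IsProper B.hom] [GeometricallyIntegral B.hom]
    [GrpObj C] [IsProper C.hom] [GeometricallyIntegral C.hom]
    (g : Red.bc (bb k K) B ⟶ Red.bc (bb k K) C) [IsMonHom g] :
    ∃ g₀ : B ⟶ C, IsMonHom g₀ ∧ (Over.pullback (bb k K)).map g₀ = g := by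
  let F := Over.pullback (bb k K)
  haveI : IsProper (B ⊗ C).hom := inferInstanceAs (IsProper (pullback.fst B.hom C.hom ≫ B.hom))
  haveI : GeometricallyIntegral (B ⊗ C).hom := H23.MaxAbelian.geometricallyIntegral_tensor B C
  haveI : IsProper (Red.bc (bb k K) B).hom := MorphismProperty.pullback_snd (P := @IsProper) _ _ inferInstance
  haveI : GeometricallyIntegral (Red.bc (bb k K) B).hom :=
    MorphismProperty.pullback_snd (P := @GeometricallyIntegral) _ _ inferInstance
  haveI : IsProper (Red.bc (bb k K) (B ⊗ C)).hom := MorphismProperty.pullback_snd (P := @IsProper) _ _ inferInstance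
  let δ : Red.bc (bb k K) B ⟶ Red.bc (bb k K) (B ⊗ C) :=
    lift (𝟙 _) g ≫ Functor.LaxMonoidal.μ F B C
  have h1 : δ ≫ F.map (fst B C) = 𝟙 _ := by simp [δ, F, Functor.Monoidal.μ_fst]
  have h2 : δ ≫ F.map (snd B C) = g := by simp [δ, F, Functor.Monoidal.μ_snd]
  haveI : IsMonHom δ := inferInstance
  haveI : IsClosedImmersion δ.left := by
    haveI : IsClosedImmersion (δ.left ≫ (F.map (fst B C)).left) := by
      rw [← Over.comp_left, h1]; exact inferInstanceAs (IsClosedImmersion (𝟙 _))
    haveI : IsSeparated (F.map (fst B C)).left := by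
      haveI : IsSeparated ((F.map (fst B C)).left ≫ (F.obj B).hom) := by
        rw [Over.w]; exact inferInstanceAs (IsSeparated (Red.bc (bb k K) (B ⊗ C)).hom)
      exact IsSeparated.of_comp _ (F.obj B).hom
    exact IsClosedImmersion.of_comp δ.left (F.map (fst B C)).left
  obtain ⟨D, iD, i, hDp, hDg, hi, hic, e, he⟩ := S12017.result k K hprim (B ⊗ C) (Red.bc (bb k K) B) δ
  haveI : IsIso (F.map (i ≫ fst B C)) := by
    rw [Functor.map_comp, ← he, Category.assoc, h1, Category.comp_id]
    infer_instance
  haveI : IsIso (i ≫ fst B C) := isIso_of_bc (K := K) _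
  haveI : IsMonHom (i ≫ fst B C) := inferInstance
  haveI : IsMonHom (inv (i ≫ fst B C)) :=
    inferInstanceAs (IsMonHom (asIso (i ≫ fst B C)).inv)
  refine ⟨inv (i ≫ fst B C) ≫ i ≫ snd B C, inferInstance, ?_⟩
  rw [← cancel_epi (F.map (i ≫ fst B C)), ← Functor.map_comp, IsIso.hom_inv_id_assoc, Functor.map_comp,
    Functor.map_comp, ← he, Category.assoc, h2, Category.assoc e.hom δ, h1, Category.comp_id]

end Groth.Agent.AVTors.HomDescend
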