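import Groth.Agent.S19290
import Groth.Agent.HomShExact.Dual

/-!
Vanishing and left exactness of internal Hom sheaves of points.
-/

set_option autoImplicit false
set_option linter.style.haveILetI false
set_option backward.isDefEq.respectTransparency false
set_option backward.isDefEq.respectTransparency.types false
set_option maxHeartbeats 1000000

universe u

open CategoryTheory CategoryTheory.Limits MonoidalCategory CartesianMonoidalCategory MonObj AlgebraicGeometry Opposite

namespace Groth.Agent.AVTors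

/-- The sheaf of homomorphisms vanishes if there are no non-trivial homomorphisms after any base change. -/
theorem isZero_homSh {S : Scheme.{u}} (T A : Over S) [GrpObj T] [IsCommMonObj T] [GrpObj A] [IsCommMonObj A]
    (hTA : ∀ {S' : Scheme.{u}} (t : S' ⟶ S) (f : Red.bc t T ⟶ Red.bc t A) [IsMonHom f], f = 1) :
    IsZero (HomSh.homSh (QuotSh.J Scheme.fppfPrecoverage S) (CGrpSh.pts Scheme.fppfPrecoverage T)
      (CGrpSh.pts Scheme.fppfPrecoverage A)) := by
  let J := QuotSh.J Scheme.fppfPrecoverage S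
  let PT := CGrpSh.pts Scheme.fppfPrecoverage T
  let PA := CGrpSh.pts Scheme.fppfPrecoverage A
  suffices hzero : ∀ (X : Over S) (φ : PT.over X ⟶ PA.over X), φ = 0 by
    rw [IsZero.iff_id_eq_zero]
    refine Sheaf.hom_ext (NatTrans.ext (funext fun X => ?_))
    ext x
    exact (hzero X.unop x).trans (hzero X.unop _).symm
  intro X φ
  let v : ∀ W : Over X, (W.left ⟶ T) → (W.left ⟶ A) := fun W b =>
    Additive.toMul (ULift.down (φ.hom.app (Opposite.op W) (ULift.up (Additive.ofMul b))))
  have vmul : ∀ (W : Over X) (a b : W.left ⟶ T), v W (a * b) = v W a * v W b := fun W a b =>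
    congrArg (fun x => Additive.toMul (ULift.down x))
      (map_add (φ.hom.app (Opposite.op W)).hom (ULift.up (Additive.ofMul a)) (ULift.up (Additive.ofMul b)))
  have vres : ∀ {W W' : Over X} (g : W' ⟶ W) (b : W.left ⟶ T), v W' (g.left ≫ b) = g.left ≫ v W b := fun g b =>
    congrArg (fun x => Additive.toMul (ULift.down x))
      (ConcreteCategory.congr_hom (φ.hom.naturality g.op) (ULift.up (Additive.ofMul b)))
  -- the universal point
  let Y₀ : Over S := (Over.map X.hom).obj (Red.bc X.hom T)
  let p : Y₀ ⟶ X := Over.homMk (pullback.snd T.hom X.hom) rfl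
  let t₀ : Y₀ ⟶ T := Groth.Agent.DSPtsLib.theta X.hom (𝟙 (Red.bc X.hom T))
  let h : Y₀ ⟶ A := v (Over.mk p) t₀
  let f : Red.bc X.hom T ⟶ Red.bc X.hom A := (Over.mapPullbackAdj X.hom).homEquiv _ _ h
  have hf : Groth.Agent.DSPtsLib.theta X.hom f = h := Equiv.symm_apply_apply _ _
  haveI : IsMonHom f := by
    refine Groth.Agent.TorusQI.isMonHom_of_pts f fun Z a b => (Groth.Agent.DSPtsLib.theta_bijective X.hom).injective ?_
    let WZ : Over X := Over.mk (Over.homMk Z.hom rfl : (Over.map X.hom).obj Z ⟶ X)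
    have key : ∀ c : Z ⟶ Red.bc X.hom T,
        Groth.Agent.DSPtsLib.theta X.hom (c ≫ f) = v WZ (Groth.Agent.DSPtsLib.theta X.hom c) := by
      intro c
      let g : WZ ⟶ Over.mk p := Over.homMk ((Over.map X.hom).map c) (Over.OverMorphism.ext (Over.w c))
      have e := vres g t₀
      rw [show g.left ≫ t₀ = Groth.Agent.DSPtsLib.theta X.hom c from by
        rw [show t₀ = Groth.Agent.DSPtsLib.theta X.hom (𝟙 _) from rfl]
        exact (Groth.Agent.DSPtsLib.theta_comp X.hom c (𝟙 _)).symm.trans (congrArg _ (Category.comp_id c))] at e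
      rw [e, Groth.Agent.DSPtsLib.theta_comp, hf]
      rfl
    rw [Groth.Agent.DSPtsLib.theta_mul, key, key, key, Groth.Agent.DSPtsLib.theta_mul, vmul]
  have hone : f = 1 := hTA X.hom f
  have h1 : h = 1 := by
    have e := Groth.Agent.DSPtsLib.theta_mul X.hom f f
    rw [show f * f = f from by rw [hone, _root_.one_mul], hf] at e
    exact mul_eq_left.1 e.symm
  refine Sheaf.hom_ext (NatTrans.ext (funext fun W => ?_))
  ext b
  refine congrArg (fun y => ULift.up (Additive.ofMul y)) (?_ : v W.unop b.down.toMul = 1)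
  let g' : W.unop.left ⟶ Y₀ := Over.homMk (pullback.lift b.down.toMul.left W.unop.hom.left
    ((Over.w _).trans (Over.w W.unop.hom).symm)) (by
    show pullback.lift _ _ _ ≫ pullback.snd T.hom X.hom ≫ X.hom = _
    rw [pullback.lift_snd_assoc]
    exact Over.w W.unop.hom)
  let g : W.unop ⟶ Over.mk p := Over.homMk g' (Over.OverMorphism.ext (pullback.lift_snd _ _ _))
  have e := vres g t₀
  rw [show g.left ≫ t₀ = b.down.toMul from Over.OverMorphism.ext (by
    show pullback.lift _ _ _ ≫ ((𝟙 (Red.bc X.hom T) : _ ⟶ _).left ≫ pullback.fst T.hom X.hom) = _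
    exact (congrArg (pullback.lift _ _ _ ≫ ·) (Category.id_comp _)).trans (pullback.lift_fst _ _ _)),
    show v (Over.mk p) t₀ = 1 from h1, MonObj.comp_one] at e
  exact e

section

variable {C : Type (u + 1)} [Category.{u} C] {J : GrothendieckTopology C}
variable [HasSheafify J AddCommGrpCat.{u + 1}]
  [∀ X : C, HasSheafify (J.over X) AddCommGrpCat.{u + 1}]
  [J.WEqualsLocallyBijective AddCommGrpCat.{u + 1}]
  [∀ X : C, (J.over X).WEqualsLocallyBijective AddCommGrpCat.{u + 1}]

/-- The internal Hom from a sheaf is left exact. -/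
theorem exact_mono_homSh_right {S : ShortComplex (Sheaf J AddCommGrpCat.{u + 1})} (hS : S.ShortExact)
    (M : Sheaf J AddCommGrpCat.{u + 1}) :
    ∃ w : HomSh.homShMap J (𝟙 M) S.f ≫ HomSh.homShMap J (𝟙 M) S.g = 0,
      (ShortComplex.mk _ _ w).Exact ∧ Mono (HomSh.homShMap J (𝟙 M) S.f) := by
  have happ : ∀ {N N' : Sheaf J AddCommGrpCat.{u + 1}} (β : N ⟶ N') (T : C) (φ : M.over T ⟶ N.over T),
      (HomSh.homShMap J (𝟙 M) β).hom.app (op T) φ = φ ≫ (J.overPullback AddCommGrpCat.{u + 1} T).map β := by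
    intro N N' β T φ
    simp only [HomSh.homShMap_app_apply, CategoryTheory.Functor.map_id, Category.id_comp]
  have w : HomSh.homShMap J (𝟙 M) S.f ≫ HomSh.homShMap J (𝟙 M) S.g = 0 := by
    refine Sheaf.hom_ext (NatTrans.ext (funext fun T => AddCommGrpCat.ext fun φ => ?_))
    obtain ⟨T⟩ := T
    refine (happ S.g T _).trans ?_
    refine (congrArg (· ≫ (J.overPullback AddCommGrpCat.{u + 1} T).map S.g) (happ S.f T φ)).trans ?_
    rw [Category.assoc, ← Functor.map_comp, S.zero, Functor.map_zero, comp_zero]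
    rfl
  have hcancel : ∀ (T : C) (φ ψ : M.over T ⟶ S.X₁.over T),
      (HomSh.homShMap J (𝟙 M) S.f).hom.app (op T) φ = (HomSh.homShMap J (𝟙 M) S.f).hom.app (op T) ψ → φ = ψ := by
    intro T φ ψ h
    haveI : Mono ((J.overPullback AddCommGrpCat.{u + 1} T).map S.f) := (HomShExact.shortExact_over hS T).mono_f
    rw [happ, happ] at h
    exact (cancel_mono ((J.overPullback AddCommGrpCat.{u + 1} T).map S.f)).1 h
  haveI hmono : Mono (HomSh.homShMap J (𝟙 M) S.f) := by
    refine (sheafToPresheaf _ _).mono_of_mono_map (@NatTrans.mono_of_mono_app _ _ _ _ _ _ _ fun T => ?_)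
    rw [AddCommGrpCat.mono_iff_injective]
    exact fun φ ψ h => hcancel T.unop φ ψ h
  refine ⟨w, ShortComplex.exact_of_f_is_kernel _ ?_, hmono⟩
  have hk : ∀ (T : C) (φ : M.over T ⟶ S.X₂.over T),
      (HomSh.homShMap J (𝟙 M) S.g).hom.app (op T) φ = 0 →
      ∃ χ : M.over T ⟶ S.X₁.over T, (HomSh.homShMap J (𝟙 M) S.f).hom.app (op T) χ = φ := by
    intro T φ hφ
    rw [happ] at hφ
    have hT := HomShExact.shortExact_over hS T
    haveI : Mono (S.map (J.overPullback AddCommGrpCat.{u + 1} T)).f := hT.mono_f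
    refine ⟨hT.exact.lift φ hφ, ?_⟩
    rw [happ]
    exact hT.exact.lift_f φ hφ
  refine @KernelFork.IsLimit.ofι' _ _ _ _ _ _ _ _ w (fun {A} a ha => ?_) hmono
  choose n hn using fun (T : Cᵒᵖ) (x : A.obj.obj T) => hk T.unop (a.hom.app T x)
    (congr(($ha).hom.app T x))
  refine ⟨⟨{
      app := fun T => AddCommGrpCat.ofHom
        { toFun := n T
          map_zero' := hcancel _ _ _ (by rw [hn, map_zero]; exact (map_zero _).symm)
          map_add' := fun x y => hcancel _ _ _ ((hn T _).trans
            ((map_add _ x y).trans (((congrArg₂ (· + ·) (hn T x).symm (hn T y).symm)).trans (map_add _ _ _).symm))) }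
      naturality := fun T T' t => by
        ext x
        refine hcancel _ _ _ ((hn T' _).trans ?_)
        refine (congr(($(a.hom.naturality t)) x)).trans ?_
        refine (congrArg ((HomSh.homSh J M S.X₂).obj.map t) (hn T x).symm).trans ?_
        exact (congr(($((HomSh.homShMap J (𝟙 M) S.f).hom.naturality t)) (n T x))).symm }⟩, ?_⟩
  exact Sheaf.hom_ext (NatTrans.ext (funext fun T => AddCommGrpCat.ext fun x => hn T x))

end

end Groth.Agent.AVTors
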