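import Groth.Agent.AVDegLib.Tangent
import Mathlib.RingTheory.Filtration
import Mathlib.LinearAlgebra.Dual.Lemmas
import Mathlib.RingTheory.FiniteType

/-!
In characteristic `p` the kernels of the powers of `p` contain all infinitesimal neighbourhoods of the unit.
-/

set_option autoImplicit false
set_option linter.style.haveILetI false
set_option linter.unusedSectionVars false
set_option backward.isDefEq.respectTransparency false
set_option backward.isDefEq.respectTransparency.types false
set_option maxHeartbeats 1000000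

noncomputable section

universe u

open CategoryTheory CategoryTheory.Limits MonoidalCategory CartesianMonoidalCategory MonObj AlgebraicGeometry
open TrivSqZeroExt

namespace Groth.Agent.AVTors

open Groth.Agent.GrpSchLib Groth.Agent.H23.MulTangent

variable {K : Type u} [Field K] {X : Over (Spec (CommRingCat.of K))} [GrpObj X]
  {B : Type u} [CommRing B] [Algebra K B]
  (j : Spec (CommRingCat.of B) ⟶ X.left) [IsOpenImmersion j]
  (hj : j ≫ X.hom = Spec.map (CommRingCat.ofHom (algebraMap K B)))
  {χ : B →ₐ[K] K} (hone : pt j hj χ = 1)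

include hone in
/-- A point reducing to the unit along a map with nilpotent kernel lies in the chart. -/
theorem exists_pt_of_residue {R : Type u} [CommRing R] [Algebra K R] (c : R →ₐ[K] K)
    (hnil : ∀ r, c r = 0 → IsNilpotent r) (P : specOver K R ⟶ X) (hP : specHom c ≫ P = 1) :
    ∃ g : B →ₐ[K] R, pt j hj g = P ∧ c.comp g = χ := by
  have hr : Set.range P.left ⊆ Set.range j := by
    rintro _ ⟨q, rfl⟩
    have hsub : Subsingleton (PrimeSpectrum R) := ⟨fun a b => PrimeSpectrum.ext (le_antisymm
      (fun r hr => by_contra fun hb => by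
        by_cases hc : c r = 0
        · exact hb ((hnil r hc).map (Ideal.Quotient.mk b.asIdeal) |>.eq_zero |> Ideal.Quotient.eq_zero_iff_mem.1)
        · refine a.isPrime.ne_top (a.asIdeal.eq_top_of_isUnit_mem hr ?_)
          have hn : IsNilpotent (r - algebraMap K R (c r)) := hnil _ (by simp)
          have := hn.isUnit_add_left_of_commute ((isUnit_iff_ne_zero.2 hc).map (algebraMap K R)) (Commute.all _ _)
          simpa using this)
      (fun r hr => by_contra fun hb => by
        by_cases hc : c r = 0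
        · exact hb ((hnil r hc).map (Ideal.Quotient.mk a.asIdeal) |>.eq_zero |> Ideal.Quotient.eq_zero_iff_mem.1)
        · refine b.isPrime.ne_top (b.asIdeal.eq_top_of_isUnit_mem hr ?_)
          have hn : IsNilpotent (r - algebraMap K R (c r)) := hnil _ (by simp)
          have := hn.isUnit_add_left_of_commute ((isUnit_iff_ne_zero.2 hc).map (algebraMap K R)) (Commute.all _ _)
          simpa using this))⟩
    let p₀ : Spec (CommRingCat.of K) := IsLocalRing.closedPoint K
    have e : (specHom c).left p₀ = q := @Subsingleton.elim (PrimeSpectrum R) hsub _ _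
    rw [← e, ← Scheme.Hom.comp_apply]
    exact ⟨_, (congrArg (fun f : specOver K K ⟶ X => f.left p₀) (hP.trans hone.symm)).symm⟩
  obtain ⟨g, hg⟩ := exists_pt_of_range j hj P hr
  exact ⟨g, hg, pt_injective j hj (by rw [← pt_comp, hg, hP, hone])⟩

include hone in
theorem pow_char_eq_one_of_sq_zero (p : ℕ) [CharP K p] {R : Type u} [CommRing R] [Algebra K R]
    (c : R →ₐ[K] K) (hnil : ∀ r, c r = 0 → IsNilpotent r) (I : Ideal R) (hI : ∀ x ∈ I, ∀ y ∈ I, x * y = 0)
    (hIc : ∀ x ∈ I, c x = 0) (g : B →ₐ[K] R) (hg : ∀ b, g b - algebraMap K R (χ b) ∈ I) :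
    pt j hj g ^ p = 1 := by
  let S0 : Subalgebra K R :=
    { carrier := {r | r - algebraMap K R (c r) ∈ I}
      mul_mem' := fun {a b} ha hb => by
        show a * b - algebraMap K R (c (a * b)) ∈ I
        rw [map_mul, map_mul, show a * b - algebraMap K R (c a) * algebraMap K R (c b) =
          (a - algebraMap K R (c a)) * b + algebraMap K R (c a) * (b - algebraMap K R (c b)) by ring]
        exact I.add_mem (I.mul_mem_right _ ha) (I.mul_mem_left _ hb)
      add_mem' := fun {a b} ha hb => by
        show a + b - algebraMap K R (c (a + b)) ∈ I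
        rw [map_add, map_add, add_sub_add_comm]
        exact I.add_mem ha hb
      algebraMap_mem' := fun r => by simp }
  let c0 : S0 →ₐ[K] K := c.comp S0.val
  have hnil0 : ∀ r, c0 r = 0 → IsNilpotent r := fun r hr => by
    obtain ⟨n, hn⟩ := hnil r.1 hr
    exact ⟨n, Subtype.ext (by simpa using hn)⟩
  have hcg : ∀ b, c (g b) = χ b := fun b => by
    have h := hIc _ (hg b)
    rw [map_sub, AlgHom.commutes, sub_eq_zero] at h
    simpa using h
  have hgm : ∀ b, g b ∈ S0 := fun b => by
    show g b - algebraMap K R (c (g b)) ∈ I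
    rw [hcg]; exact hg b
  let g0 : B →ₐ[K] S0 := g.codRestrict S0 hgm
  have hc0 : c0.comp g0 = χ := AlgHom.ext hcg
  have hP : specHom c0 ≫ (pt j hj g0 ^ p) = 1 := by
    rw [MonObj.comp_pow, pt_comp, hc0, hone, one_pow]
  obtain ⟨g', hg', hcg'⟩ := exists_pt_of_residue j hj hone c0 hnil0 _ hP
  have hfun : ∀ (lam : R →ₗ[K] K) (b : B), lam ((g' b).1 - algebraMap K R (χ b)) = 0 := fun lam b => by
    let ψ : S0 →ₐ[K] TrivSqZeroExt K K :=
      { toFun := fun r => TrivSqZeroExt.inl (c r.1) + TrivSqZeroExt.inr (lam (r.1 - algebraMap K R (c r.1)))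
        map_one' := by ext <;> simp
        map_mul' := fun a b => by
          ext
          · simp
          · simp only [Subalgebra.coe_mul, map_mul, snd_add, snd_inl, snd_inr, zero_add, TrivSqZeroExt.snd_mul, fst_add, fst_inl,
              fst_inr, add_zero, smul_eq_mul, op_smul_eq_smul]
            rw [← smul_eq_mul (c a.1) (lam _), ← smul_eq_mul (c b.1) (lam _), ← map_smul, ← map_smul, ← map_add]
            congr 1
            have h0 := hI _ a.2 _ b.2
            simp only [Algebra.smul_def]
            linear_combination h0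
        map_zero' := by ext <;> simp
        map_add' := fun a b => by
          ext
          · simp
          · simp only [Subalgebra.coe_add, map_add, snd_add, snd_inl, snd_inr, zero_add, ← map_add]
            congr 2
            rw [map_add, map_add, ← sub_sub]
            ring
        commutes' := fun r => by ext <;> simp [TrivSqZeroExt.algebraMap_eq_inl] }
    have hψc : (TrivSqZeroExt.fstHom K K K).comp ψ = c0 := by ext r; simp [ψ, c0]
    have h1 : pt j hj (ψ.comp g0) ^ p = 1 := AVDegLib.pow_eq_one (X := X) K p _ (by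
      rw [pt_comp, ← AlgHom.comp_assoc, hψc, hc0, hone])
    let cst : B →ₐ[K] TrivSqZeroExt K K := (TrivSqZeroExt.inlAlgHom K K K).comp χ
    have hcst : pt j hj cst = 1 := by rw [← pt_comp, hone, MonObj.comp_one]
    have h2 : ψ.comp g' = cst := pt_injective j hj (by
      rw [hcst, ← pt_comp, hg', MonObj.comp_pow, pt_comp, h1])
    have h3 := congrArg TrivSqZeroExt.snd (AlgHom.congr_fun h2 b)
    have h4 : c (g' b).1 = χ b := AlgHom.congr_fun hcg' b
    simpa [ψ, cst, h4] using h3
  have hfinal : S0.val.comp g' = (Algebra.ofId K R).comp χ := AlgHom.ext fun b =>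
    sub_eq_zero.1 ((Module.forall_dual_apply_eq_zero_iff K _).1 fun lam => hfun lam b)
  rw [show g = S0.val.comp g0 from (AlgHom.ext fun b => rfl), ← pt_comp, ← MonObj.comp_pow, ← hg', pt_comp,
    hfinal, ← pt_comp, hone, MonObj.comp_one]

include hone in
/-- Every infinitesimal neighbourhood of the unit is killed by a power of `p`. -/
theorem exists_pow_pt_quotient_eq_one (p : ℕ) [CharP K p] (hp : 1 ≤ p) (i : ℕ) :
    ∃ N, 0 < N ∧ pt j hj (Ideal.Quotient.mkₐ K (RingHom.ker χ ^ (i + 1))) ^ (p ^ N) = 1 := by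
  let m := RingHom.ker χ
  have hc : ∀ n, m ^ (n + 1) ≤ RingHom.ker χ := fun n => Ideal.pow_le_self n.succ_ne_zero
  induction i with
  | zero =>
    refine ⟨1, one_pos, ?_⟩
    have h : Ideal.Quotient.mkₐ K (m ^ (0 + 1)) = (Algebra.ofId K (B ⧸ m ^ (0 + 1))).comp χ := AlgHom.ext fun b => by
      show Ideal.Quotient.mk (m ^ (0 + 1)) b = algebraMap K _ (χ b)
      rw [IsScalarTower.algebraMap_apply K B (B ⧸ m ^ (0 + 1)), Ideal.Quotient.algebraMap_eq, Ideal.Quotient.eq]
      rw [zero_add, pow_one]
      simp [m, RingHom.mem_ker]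
    rw [h, ← pt_comp, hone, MonObj.comp_one, one_pow]
  | succ i ih =>
    obtain ⟨N, hN, hpow⟩ := ih
    let q := Ideal.Quotient.mkₐ K (m ^ (i + 1 + 1))
    let π : (B ⧸ m ^ (i + 1 + 1)) →ₐ[K] B ⧸ m ^ (i + 1) :=
      Ideal.Quotient.factorₐ K (Ideal.pow_le_pow_right (Nat.le_succ _))
    let c : (B ⧸ m ^ (i + 1 + 1)) →ₐ[K] K :=
      Ideal.Quotient.liftₐ _ χ fun a ha => hc _ ha
    have hnil : ∀ r, c r = 0 → IsNilpotent r := fun r hr => by
      obtain ⟨b, rfl⟩ := Ideal.Quotient.mk_surjective r
      refine ⟨i + 1 + 1, ?_⟩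
      rw [← map_pow, Ideal.Quotient.eq_zero_iff_mem]
      exact Ideal.pow_mem_pow (show b ∈ m from hr) _
    have hπh : specHom π ≫ (pt j hj q ^ (p ^ N)) = 1 := by
      rw [MonObj.comp_pow, pt_comp, show π.comp q = Ideal.Quotient.mkₐ K (m ^ (i + 1)) from AlgHom.ext fun b => rfl]
      exact hpow
    have hch : specHom c ≫ (pt j hj q ^ (p ^ N)) = 1 := by
      rw [MonObj.comp_pow, pt_comp, show c.comp q = χ from AlgHom.ext fun b => rfl, hone, one_pow]
    obtain ⟨g, hg, hcg⟩ := exists_pt_of_residue j hj hone c hnil _ hch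
    have hπg : π.comp g = (Algebra.ofId K (B ⧸ m ^ (i + 1))).comp χ := pt_injective j hj (by
      rw [← pt_comp, hg, hπh, ← pt_comp, hone, MonObj.comp_one])
    refine ⟨N + 1, Nat.succ_pos _, ?_⟩
    rw [_root_.pow_succ p N, _root_.pow_mul, ← hg]
    refine pow_char_eq_one_of_sq_zero j hj hone p c hnil (RingHom.ker π) ?_ ?_ g fun b => ?_
    · intro x hx y hy
      obtain ⟨x, rfl⟩ := Ideal.Quotient.mk_surjective x
      obtain ⟨y, rfl⟩ := Ideal.Quotient.mk_surjective y
      have hx' : x ∈ m ^ (i + 1) := Ideal.Quotient.eq_zero_iff_mem.1 hx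
      have hy' : y ∈ m ^ (i + 1) := Ideal.Quotient.eq_zero_iff_mem.1 hy
      rw [← map_mul, Ideal.Quotient.eq_zero_iff_mem]
      exact Ideal.pow_le_pow_right (show i + 1 + 1 ≤ (i + 1) + (i + 1) by omega)
        (pow_add m (i + 1) (i + 1) ▸ Ideal.mul_mem_mul hx' hy')
    · intro x hx
      obtain ⟨x, rfl⟩ := Ideal.Quotient.mk_surjective x
      exact hc _ (Ideal.Quotient.eq_zero_iff_mem.1 hx)
    · rw [RingHom.mem_ker, map_sub, sub_eq_zero]
      exact (AlgHom.congr_fun hπg b).trans (π.commutes _).symm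

include hone in
/-- A closed subscheme containing all the kernels of powers of `p` contains a nonempty open set. -/
theorem range_chart_subset [IsDomain B] [IsNoetherianRing B] (p : ℕ) [CharP K p] (hp : 1 ≤ p)
    {Z : Scheme.{u}} (c : Z ⟶ X.left) [IsClosedImmersion c]
    (hc : ∀ m : ℕ, 0 < m → ∃ t : pullback η[X].left ((𝟙 X ^ (p ^ m)).left) ⟶ Z,
      t ≫ c = pullback.snd η[X].left ((𝟙 X ^ (p ^ m)).left)) :
    Set.range j ⊆ Set.range c := by
  let c' := pullback.fst j c
  haveI : IsClosedImmersion c' := MorphismProperty.pullback_fst (P := @IsClosedImmersion) _ _ inferInstance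
  haveI : IsAffine (pullback j c) := isAffine_of_isAffineHom c'
  obtain ⟨φ, hφ⟩ := Spec.map_surjective ((pullback j c).isoSpec.inv ≫ c')
  have hker : ∀ i, RingHom.ker φ.hom ≤ RingHom.ker χ ^ (i + 1) := fun i b hb => by
    obtain ⟨N, hN, hpow⟩ := exists_pow_pt_quotient_eq_one j hj hone p hp i
    obtain ⟨t, ht⟩ := hc N hN
    let P := pt j hj (Ideal.Quotient.mkₐ K (RingHom.ker χ ^ (i + 1)))
    have hP : P ≫ (𝟙 X ^ (p ^ N)) = 1 := by rw [MonObj.comp_pow, Category.comp_id]; exact hpow
    let l := pullback.lift (toUnit _ : specOver K _ ⟶ 𝟙_ _).left P.left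
      (show _ = _ from (congrArg Over.Hom.left hP).symm)
    let s := pullback.lift (Spec.map (CommRingCat.ofHom (Ideal.Quotient.mk (RingHom.ker χ ^ (i + 1))))) (l ≫ t) (by
      rw [Category.assoc, ht, pullback.lift_snd]; rfl) ≫ (pullback j c).isoSpec.hom
    obtain ⟨ψ, hψ⟩ := Spec.map_surjective s
    have h2 : Spec.map (φ ≫ ψ) = Spec.map (CommRingCat.ofHom (Ideal.Quotient.mk (RingHom.ker χ ^ (i + 1)))) := by
      rw [Spec.map_comp, hψ, hφ, Category.assoc, Iso.hom_inv_id_assoc, pullback.lift_fst]
    rw [← Ideal.Quotient.eq_zero_iff_mem]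
    have h3 := congrArg (fun f => f.hom b) (Spec.map_injective h2)
    simp only [CommRingCat.hom_comp, RingHom.comp_apply, CommRingCat.hom_ofHom] at h3
    rw [← h3, RingHom.mem_ker.1 hb, map_zero]
  have hbot : RingHom.ker φ.hom = ⊥ := le_bot_iff.1 (by
    rw [← Ideal.iInf_pow_eq_bot_of_isDomain (RingHom.ker χ) (RingHom.ker_ne_top _)]
    refine le_iInf fun i => ?_
    cases i with
    | zero => rw [pow_zero, Ideal.one_eq_top]; exact le_top
    | succ i => exact hker i)
  haveI : IsClosedImmersion (Spec.map φ) := by rw [hφ]; infer_instance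
  have hsurj : Function.Surjective φ.hom := fun x => by
    obtain ⟨y, rfl⟩ := (ConcreteCategory.bijective_of_isIso (Scheme.ΓSpecIso _).hom).2 x
    obtain ⟨z, rfl⟩ := (IsClosedImmersion.isAffine_surjective_of_isAffine (Spec.map φ)).2 y
    exact ⟨(Scheme.ΓSpecIso _).hom z, (congrArg (fun f => f z) (Scheme.ΓSpecIso_naturality φ)).symm⟩
  haveI : IsIso φ := (ConcreteCategory.isIso_iff_bijective φ).2 ⟨(RingHom.injective_iff_ker_eq_bot _).2 hbot, hsurj⟩
  haveI : IsIso ((pullback j c).isoSpec.inv ≫ c') := hφ ▸ inferInstance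
  haveI : IsIso c' := IsIso.of_isIso_comp_left (pullback j c).isoSpec.inv c'
  rintro _ ⟨y, rfl⟩
  exact ⟨pullback.snd j c ((inv c') y), by
    rw [← Scheme.Hom.comp_apply, ← pullback.condition, Scheme.Hom.comp_apply]
    show j (c' ((inv c') y)) = j y
    exact congrArg j (congrArg (fun f => f y) (IsIso.inv_hom_id c'))⟩

end Groth.Agent.AVTors
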