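import Groth.Agent.AVTors.IsogPts

/-!
The cokernel of an isogeny on Tate modules.
-/

set_option autoImplicit false
set_option linter.style.haveILetI false
set_option linter.unusedSectionVars false
set_option backward.isDefEq.respectTransparency false
set_option backward.isDefEq.respectTransparency.types false
set_option maxHeartbeats 1000000

noncomputable section

universe u

open CategoryTheory CategoryTheory.Limits MonoidalCategory CartesianMonoidalCategory MonObj AlgebraicGeometry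

namespace Groth.Agent.AVTors

theorem natCard_pker_of_card {M : Type u} [CommGroup M] [Finite M] (l : ℕ) [Fact l.Prime] {a u : ℕ}
    (hcard : Nat.card M = l ^ a * u) (hu : l.Coprime u) : Nat.card (pker M (l ^ a)) = l ^ a := by
  have hl := (Fact.out : l.Prime)
  let f : M →* M := powMonoidHom u
  have hrange : f.range ≤ pker M (l ^ a) := by
    rintro _ ⟨x, rfl⟩
    show (x ^ u) ^ (l ^ a) = 1
    rw [← pow_mul, mul_comm, ← hcard]; exact pow_card_eq_one'
  obtain ⟨b, hb⟩ : ∃ b, Nat.card (pker M (l ^ a)) = l ^ b :=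
    IsPGroup.iff_card.1 (fun x => ⟨a, Subtype.ext (by rw [SubmonoidClass.coe_pow]; exact x.2)⟩)
  have h1 : l ^ b ∣ l ^ a * u := hb ▸ hcard ▸ Subgroup.card_subgroup_dvd_card _
  have h1' : l ^ b ∣ l ^ a := (Nat.Coprime.pow_left b hu).dvd_of_dvd_mul_right h1
  have h2 : (Nat.card f.ker).Coprime l := by
    refine Nat.Coprime.symm (hl.coprime_iff_not_dvd.2 fun hdvd => ?_)
    obtain ⟨x, hx⟩ := exists_prime_orderOf_dvd_card' l hdvd
    have hxu : orderOf x ∣ u := orderOf_dvd_of_pow_eq_one (Subtype.ext (by rw [SubmonoidClass.coe_pow]; exact x.2))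
    exact hl.coprime_iff_not_dvd.1 hu (hx ▸ hxu)
  have h3 : Nat.card f.ker ∣ u :=
    (h2.pow_right a).dvd_of_dvd_mul_left (hcard ▸ Subgroup.card_subgroup_dvd_card _)
  have h4 : Nat.card M = Nat.card f.range * Nat.card f.ker := by
    rw [Subgroup.card_eq_card_quotient_mul_card_subgroup f.ker,
      Nat.card_congr (QuotientGroup.quotientKerEquivRange f).toEquiv]
  have h5 : Nat.card f.range ∣ l ^ b := hb ▸ Subgroup.card_dvd_of_le hrange
  have hu0 : u ≠ 0 := fun h0 => by rw [h0, Nat.coprime_zero_right] at hu; exact hl.ne_one hu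
  have h6 : l ^ a * u ∣ l ^ b * u := by rw [← hcard, h4]; exact Nat.mul_dvd_mul h5 h3
  rw [hb]
  exact Nat.dvd_antisymm h1' (Nat.dvd_of_mul_dvd_mul_right (Nat.pos_of_ne_zero hu0) h6)

variable {k : Type u} [Field k] (Ω : Type u) [Field Ω] [Algebra k Ω] [IsAlgClosed Ω]
  {X Y : Over (Spec (CommRingCat.of k))} [GrpObj X] [IsCommMonObj X] [IsProper X.hom] [GeometricallyIntegral X.hom]
  [GrpObj Y] [IsCommMonObj Y] [IsProper Y.hom] [GeometricallyIntegral Y.hom]

theorem natCard_coker (f : X ⟶ Y) [IsMonHom f] [IsFinite f.left] [Surjective f.left] (ℓ : ℕ) [Fact ℓ.Prime] {a u : ℕ}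
    (hcard : Nat.card (kerPts f Ω) = ℓ ^ a * u) (hu : ℓ.Coprime u) :
    Function.Injective (AbDual.tateMapₗ (l := ℓ) (T := SGA7.pt Ω) f) ∧
      Nat.card (AbDual.TateMod Y ℓ (SGA7.pt (K := k) Ω) ⧸ LinearMap.range (AbDual.tateMapₗ (l := ℓ) (T := SGA7.pt Ω) f)) =
        ℓ ^ a := by
  have hp : ℓ.Prime := Fact.out
  let T : Over (Spec (CommRingCat.of k)) := SGA7.pt Ω
  let MX := AbDual.TateMod X ℓ T
  let MY := AbDual.TateMod Y ℓ T
  let F : MX →ₗ[ℤ_[ℓ]] MY := AbDual.tateMapₗ (l := ℓ) f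
  haveI := finite_kerPts (Ω := Ω) f
  -- points killed by `f` of `ℓ`-power order are killed by `ℓ ^ a`
  have hker : ∀ x : T ⟶ X, x ≫ f = 1 → ∀ n, x ^ (ℓ ^ n) = 1 → x ^ (ℓ ^ a) = 1 := fun x hx n hn => by
    have h1 := pow_gcd_eq_one.2 ⟨hn, pow_card_kerPts f x hx⟩
    rw [hcard, Nat.Coprime.gcd_mul_right_cancel_right _ (hu.symm.pow_right n)] at h1
    obtain ⟨e, he⟩ := Nat.gcd_dvd_right (ℓ ^ n) (ℓ ^ a)
    rw [he, pow_mul, h1, one_pow]
  choose L hLf hLt using fun y : MY => exists_lift_torsion (Ω := Ω) f ℓ hcard hu a (cpt a y).toMul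
    (AbDual.TateMod.torsion y a)
  have hker' : ∀ y : MY, (L y ^ (ℓ ^ a)) ≫ f = 1 := fun y => by
    rw [MonObj.pow_comp, hLf]
    exact AbDual.TateMod.torsion y a
  have hindep : ∀ (y : MY) (x : T ⟶ X), x ≫ f = (cpt a y).toMul → ∀ n, x ^ (ℓ ^ n) = 1 →
      x ^ (ℓ ^ a) = L y ^ (ℓ ^ a) := fun y x hx n hn => by
    have h := hker (x * (L y)⁻¹) (by rw [MonObj.mul_comp, GrpObj.inv_comp, hx, hLf, mul_inv_cancel]) (n + (a + a)) (by
      rw [mul_pow, inv_pow, pow_add, pow_mul, hn, one_pow, mul_comm (ℓ ^ n), pow_mul, hLt, one_pow, inv_one,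
        _root_.one_mul])
    rwa [mul_pow, inv_pow, mul_inv_eq_one] at h
  let δ : MY →+ Additive (pker (kerPts f Ω) (ℓ ^ a)) :=
    AddMonoidHom.mk' (fun y => Additive.ofMul ⟨⟨L y ^ (ℓ ^ a), hker' y⟩, Subtype.ext (by
      show (L y ^ (ℓ ^ a)) ^ (ℓ ^ a) = 1
      rw [← pow_mul, ← pow_add]; exact hLt y)⟩) fun y y' => congrArg Additive.ofMul (Subtype.ext (Subtype.ext (by
      show L (y + y') ^ (ℓ ^ a) = L y ^ (ℓ ^ a) * L y' ^ (ℓ ^ a)
      rw [← mul_pow]
      refine (hindep (y + y') (L y * L y') ?_ (a + a) ?_).symm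
      · rw [MonObj.mul_comp, hLf, hLf]; rfl
      · rw [mul_pow, hLt, hLt, _root_.one_mul])))
  have hcpt : ∀ (x : MX) m, (cpt m (F x)).toMul = (cpt m x).toMul ≫ f := fun _ _ => rfl
  have hsurj : Function.Surjective δ := by
    intro n
    let n0 : T ⟶ X := n.toMul.1.1
    have hn0 : n0 ^ (ℓ ^ a) = 1 := congrArg Subtype.val n.toMul.2
    obtain ⟨p, hp'⟩ := exists_root_pt Ω X (ℓ ^ a) (pow_pos hp.pos a) n0
    have hpt : p ^ (ℓ ^ (a + a)) = 1 := by rw [pow_add, pow_mul, hp', hn0]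
    obtain ⟨y, hy⟩ := exists_cpt_eq (A := Y) (l := ℓ) (fun b => exists_root_pt Ω Y ℓ hp.pos b) a (p ≫ f)
      (by rw [← MonObj.pow_comp, hp']; exact n.toMul.1.2)
    refine ⟨y, congrArg Additive.ofMul (Subtype.ext (Subtype.ext ?_))⟩
    show L y ^ (ℓ ^ a) = n0
    rw [← hindep y p (congrArg Additive.toMul hy).symm _ hpt, hp']
  have hkerδ : (LinearMap.range F).toAddSubgroup = δ.ker := by
    ext y
    constructor
    · rintro ⟨x, rfl⟩
      refine congrArg Additive.ofMul (Subtype.ext (Subtype.ext ?_))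
      show L (F x) ^ (ℓ ^ a) = 1
      rw [← hindep (F x) (cpt a x).toMul (hcpt x a).symm a (AbDual.TateMod.torsion x a)]
      exact AbDual.TateMod.torsion x a
    · intro hy
      have h0' : L y ^ (ℓ ^ a) = 1 := congrArg (fun z => (Additive.toMul z).1.1) hy
      choose p hpf hpt using fun m => exists_lift_torsion (Ω := Ω) f ℓ hcard hu m (cpt m y).toMul
        (AbDual.TateMod.torsion y m)
      have hkey : ∀ m, (p (m + a) ^ (ℓ ^ a)) ^ (ℓ ^ m) = 1 := fun m => by
        rw [← pow_mul, mul_comm, pow_mul]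
        refine (hindep y (p (m + a) ^ (ℓ ^ m)) ?_ (m + a + a) ?_).trans h0'
        · rw [MonObj.pow_comp, hpf, ← toMul_nsmul, add_comm m a, cpt_add_eq]
        · rw [← pow_mul, mul_comm, pow_mul, hpt, one_pow]
      refine ⟨⟨fun m => Additive.ofMul (p (m + a) ^ (ℓ ^ a)),
        ⟨fun m => congrArg Additive.ofMul (hkey m), fun m => congrArg Additive.ofMul ?_⟩⟩, ?_⟩
      · show (p (m + 1 + a) ^ (ℓ ^ a)) ^ ℓ = p (m + a) ^ (ℓ ^ a)
        rw [← pow_mul, mul_comm, pow_mul]
        have h := hker (p (m + 1 + a) ^ ℓ * (p (m + a))⁻¹) (by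
          rw [MonObj.mul_comp, GrpObj.inv_comp, MonObj.pow_comp, hpf, hpf, ← toMul_nsmul,
            show m + 1 + a = m + a + 1 by omega]
          rw [show ℓ • cpt (m + a + 1) y = cpt (m + a) y from AbDual.TateMod.compat y (m + a),
            mul_inv_cancel]) (m + 1 + a + a) (by
          have e1 : (p (m + 1 + a) ^ ℓ) ^ (ℓ ^ (m + 1 + a + a)) = 1 := by
            rw [← pow_mul, mul_comm, pow_mul, hpt, one_pow]
          have e2 : p (m + a) ^ (ℓ ^ (m + 1 + a + a)) = 1 := by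
            rw [show m + 1 + a + a = (m + a + a) + 1 by omega, pow_succ, pow_mul, hpt, one_pow]
          rw [mul_pow, inv_pow, e1, e2, inv_one, _root_.one_mul])
        rwa [mul_pow, inv_pow, mul_inv_eq_one] at h
      · refine AbDual.TateMod.ext fun m => congrArg Additive.ofMul ?_
        show (p (m + a) ^ (ℓ ^ a)) ≫ f = (cpt m y).toMul
        rw [MonObj.pow_comp, hpf, ← toMul_nsmul, cpt_add_eq]
  refine ⟨fun x x' hxx => ?_, ?_⟩
  · rw [← sub_eq_zero]
    have hz : F (x - x') = 0 := by rw [map_sub]; exact sub_eq_zero.2 hxx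
    refine AbDual.TateMod.ext fun m => ?_
    show cpt m (x - x') = 0
    rw [← cpt_add_eq (x - x') m a]
    refine congrArg Additive.ofMul (hker (cpt (m + a) (x - x')).toMul ?_ (m + a) (AbDual.TateMod.torsion _ (m + a)))
    rw [← hcpt, hz]
    rfl
  · exact (Nat.card_congr ((QuotientAddGroup.quotientAddEquivOfEq hkerδ).trans
      (QuotientAddGroup.quotientKerEquivOfSurjective δ hsurj)).toEquiv).trans (natCard_pker_of_card ℓ hcard hu)

end Groth.Agent.AVTors
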