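import Groth.Agent.H23.RatProductK
import Groth.Agent.GrpSchLib.Neutral
import Groth.Agent.TorusQI.Geom
import Groth.Agent.H23.BcComp
import Groth.Agent.HomRepLib.DiagHom
import Groth.Agent.Lib.AVDual
import Groth.Prelude.Def_AlgGrp
import Mathlib.RingTheory.HopfAlgebra.MonoidAlgebra
import Mathlib.Algebra.MvPolynomial.Nilpotent

/-! Maps from affine spaces over algebraically closed fields to semi-abelian groups are constant. -/

set_option autoImplicit false
set_option linter.style.haveILetI false
set_option backward.isDefEq.respectTransparency false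
set_option backward.isDefEq.respectTransparency.types false
set_option maxHeartbeats 4000000
set_option synthInstance.maxHeartbeats 100000
universe u

open CategoryTheory CategoryTheory.Limits MonoidalCategory CartesianMonoidalCategory MonObj AlgebraicGeometry

namespace Groth.Agent.AVTors.LineConst

open H23.RatProductK DSPtsLib

variable {k : Type u} [Field k] {K : Type u} [Field K]

/-- The origin of affine space. -/
noncomputable def origin (K : Type u) [Field K] (N : Type u) : 𝟙_ (Over (Spec (CommRingCat.of K))) ⟶ affine K N :=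
  Over.homMk (AffineSpace.homOfVector (𝟙 _) fun _ => 0) (AffineSpace.homOfVector_over _ _)

theorem appTop_const {N : Type u} (u' : Γ((affine K N).left, ⊤)) (hu : IsUnit u') :
    ∃ c, u' = (affine K N).hom.appTop c := by
  let e := AffineSpace.SpecIso N (CommRingCat.of K)
  let w : MvPolynomial N K := (Scheme.ΓSpecIso (CommRingCat.of (MvPolynomial N K))).hom (e.inv.appTop u')
  have hw : IsUnit w := (hu.map e.inv.appTop.hom).map (Scheme.ΓSpecIso (CommRingCat.of (MvPolynomial N K))).hom.hom
  obtain ⟨r, -, hr⟩ := MvPolynomial.isUnit_iff_eq_C_of_isReduced.1 hw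
  refine ⟨(Scheme.ΓSpecIso (CommRingCat.of K)).inv r, ?_⟩
  apply (ConcreteCategory.bijective_of_isIso e.inv.appTop).1
  apply (ConcreteCategory.bijective_of_isIso (Scheme.ΓSpecIso (CommRingCat.of (MvPolynomial N K))).hom).1
  show w = _
  have h : ((affine K N).hom.appTop ≫ e.inv.appTop) =
      (Spec.map (CommRingCat.ofHom (MvPolynomial.C : K →+* MvPolynomial N K))).appTop := by
    rw [← Scheme.Hom.comp_appTop]
    exact congrArg Scheme.Hom.appTop (AffineSpace.SpecIso_inv_over (CommRingCat.of K))
  rw [hr]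
  refine Eq.trans ?_ (congrArg (Scheme.ΓSpecIso (CommRingCat.of (MvPolynomial N K))).hom
    (congrArg (fun φ => φ ((Scheme.ΓSpecIso (CommRingCat.of K)).inv r)) h).symm)
  rw [← CommRingCat.comp_apply, Scheme.ΓSpecIso_naturality, CommRingCat.comp_apply, ← CommRingCat.comp_apply
    (Scheme.ΓSpecIso (CommRingCat.of K)).inv, Iso.inv_hom_id]
  rfl

theorem torus_const_self [IsAlgClosed K] {N : Type u} {T : Over (Spec (CommRingCat.of K))} [GrpObj T] {r : ℕ}
    (hT : Red.IsSplitTorusWith (Fin r → ℤ) T) (a : affine K N ⟶ T) (h0 : origin K N ≫ a = 1) : a = 1 := by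
  obtain ⟨e⟩ := hT
  let f : T ⟶ Red.DS (Spec (CommRingCat.of K)) (Fin r → ℤ) := e.hom.hom.hom
  haveI : IsMonHom f := e.hom.hom.isMonHom_hom
  have key : a ≫ f = 1 := by
    refine HomRepLib.ev_ext fun m => ?_
    rw [HomRepLib.ev_one]
    have hu : IsUnit (HomRepLib.ev (a ≫ f) m) :=
      IsUnit.of_mul_eq_one (HomRepLib.ev (a ≫ f) (-m))
        (by rw [← HomRepLib.ev_add, add_neg_cancel, HomRepLib.ev_zero])
    obtain ⟨c, hc⟩ := appTop_const _ hu
    have h1 : HomRepLib.ev (origin K N ≫ a ≫ f) m = 1 := by
      rw [show origin K N ≫ a ≫ f = 1 from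
        ((Category.assoc _ _ _).symm.trans (congrArg (fun x => x ≫ f) h0)).trans (MonObj.one_comp f),
        HomRepLib.ev_one]
    have hw : (affine K N).hom.appTop ≫ (origin K N).left.appTop = 𝟙 _ := by
      rw [← Scheme.Hom.comp_appTop, Over.w (origin K N)]
      exact Scheme.Hom.id_appTop
    rw [HomRepLib.ev_comp, hc, ← CommRingCat.comp_apply, hw] at h1
    rw [hc, show c = 1 from h1, map_one]
  have hfg : f ≫ e.inv.hom.hom = 𝟙 _ := congrArg (fun k => k.hom.hom) e.hom_inv_id
  haveI : IsMonHom e.inv.hom.hom := e.inv.hom.isMonHom_hom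
  calc a = (a ≫ f) ≫ e.inv.hom.hom := by rw [Category.assoc, hfg, Category.comp_id]
    _ = 1 := by rw [key, MonObj.one_comp]

variable (b : Spec (CommRingCat.of K) ⟶ Spec (CommRingCat.of k))

theorem theta_one {Y : Over (Spec (CommRingCat.of K))} {H : Over (Spec (CommRingCat.of k))} [GrpObj H] :
    theta b (1 : Y ⟶ Red.bc b H) = 1 := by
  have h := theta_mul b (1 : Y ⟶ Red.bc b H) 1
  rw [_root_.one_mul] at h
  exact mul_eq_left.mp h.symm

theorem exists_pullback_map {N : Type u} {H : Over (Spec (CommRingCat.of k))} [GrpObj H]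
    (h : (Over.map b).obj (affine K N) ⟶ H) (h0 : (Over.map b).map (origin K N) ≫ h = 1) :
    ∃ a : affine K N ⟶ Red.bc b H, theta b a = h ∧ origin K N ≫ a = 1 := by
  obtain ⟨a, rfl⟩ := (theta_bijective b).surjective h
  refine ⟨a, rfl, (theta_bijective b).injective ?_⟩
  rw [theta_comp, h0, theta_one]

theorem torus_const [IsAlgClosed K] {N : Type u} {T : Over (Spec (CommRingCat.of k))} [GrpObj T]
    (hT : Red.IsTorus T) (h : (Over.map b).obj (affine K N) ⟶ T)
    (h0 : (Over.map b).map (origin K N) ≫ h = 1) : h = 1 := by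
  obtain ⟨a, rfl, ha⟩ := exists_pullback_map b h h0
  obtain ⟨r, hr⟩ := TorusQI.exists_split_geom hT b
  rw [torus_const_self hr a ha, theta_one]

theorem av_const {N : Type u} [Finite N] {A : Over (Spec (CommRingCat.of k))} [GrpObj A] [IsProper A.hom]
    [GeometricallyIntegral A.hom] (h : (Over.map b).obj (affine K N) ⟶ A)
    (h0 : (Over.map b).map (origin K N) ≫ h = 1) : h = 1 := by
  obtain ⟨a, rfl, ha⟩ := exists_pullback_map b h h0
  obtain ⟨h1, h2⟩ := H23.BcComp.isAV_bc (g := b) A
  obtain ⟨c, rfl⟩ := affine_const N a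
  have hu : origin K N ≫ toUnit (affine K N) = 𝟙 _ := toUnit_unique _ _
  rw [reassoc_of% hu] at ha
  rw [ha, MonObj.comp_one, theta_one]

theorem mem_neutralSet_of_preconnected {G : Over (Spec (CommRingCat.of k))} [GrpObj G] {s : Set G.left}
    (hs : _root_.IsPreconnected s) (h1 : (η[G]).left (IsLocalRing.closedPoint k) ∈ s) : s ⊆ SGA3x.neutralSet G := by
  intro x hx
  rw [GrpSchLib.Neutral.mem_neutralSet_iff]
  have he : GrpSchLib.Neutral.unit G (G.hom x) = (η[G]).left (IsLocalRing.closedPoint k) :=
    congrArg _ (Subsingleton.elim (α := Spec (CommRingCat.of k)) _ _)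
  refine hs.subset_connectedComponentIn (he ▸ h1) (fun y _ => Subsingleton.elim (α := Spec (CommRingCat.of k)) _ _) hx

theorem semiabelian_const [IsAlgClosed K] {N : Type u} [Finite N]
    {G G0 T A : Over (Spec (CommRingCat.of k))} [GrpObj G] [GrpObj G0] [GrpObj T] [GrpObj A]
    (e : G0 ⟶ G) [IsMonHom e] [IsOpenImmersion e.left] (i : T ⟶ G0) [IsMonHom i] [IsClosedImmersion i.left]
    (hT : Red.IsTorus T) [IsProper A.hom] [GeometricallyIntegral A.hom] (q : G0 ⟶ A) [IsMonHom q]
    (hker : AlgGrp.IsKernel i q) (h : (Over.map b).obj (affine K N) ⟶ G)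
    (h0 : (Over.map b).map (origin K N) ≫ h = 1) : h = 1 := by
  haveI : GeometricallyIntegral (affine K N).hom :=
    inferInstanceAs (GeometricallyIntegral (𝔸(N; Spec (CommRingCat.of K)) ↘ _))
  haveI : IsIntegral (affine K N).left := H23.MaxAbelian.isIntegral_of_geometricallyIntegral
  haveI : Mono e.left := inferInstance
  haveI : Mono e := (Over.forget _).mono_of_mono_map (inferInstanceAs (Mono e.left))
  haveI : Mono i := (Over.forget _).mono_of_mono_map (inferInstanceAs (Mono i.left))
  have hmem : (η[G]).left (IsLocalRing.closedPoint k) ∈ Set.range h.left := by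
    refine ⟨(origin K N).left (IsLocalRing.closedPoint K), ?_⟩
    have h1 := congrArg CommaMorphism.left h0
    change (origin K N).left ≫ h.left = _ at h1
    refine (congrArg (fun φ : (𝟙_ (Over (Spec (CommRingCat.of K)))).left ⟶ G.left =>
      φ (IsLocalRing.closedPoint K)) h1).trans ?_
    show (η[G]).left _ = _
    exact congrArg _ (Subsingleton.elim (α := Spec (CommRingCat.of k)) _ _)
  haveI : PreconnectedSpace ↥((Over.map b).obj (affine K N)).left :=
    inferInstanceAs (PreconnectedSpace ↥(affine K N).left)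
  have hrange : Set.range h.left ⊆ Set.range e.left :=
    (mem_neutralSet_of_preconnected (isPreconnected_range h.left.continuous) hmem).trans
      (GrpSchLib.Neutral.openSubgroup G G0 e).1
  let h' : (Over.map b).obj (affine K N) ⟶ G0 :=
    Over.homMk (IsOpenImmersion.lift e.left h.left hrange)
      (by rw [← Over.w e, IsOpenImmersion.lift_fac_assoc]; exact Over.w h)
  have he : h' ≫ e = h := Over.OverMorphism.ext (IsOpenImmersion.lift_fac _ _ _)
  have h0' : (Over.map b).map (origin K N) ≫ h' = 1 := by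
    rw [← cancel_mono e, Category.assoc, he, h0, MonObj.one_comp]
  have hq : h' ≫ q = 1 := av_const b _ (by rw [← Category.assoc, h0', MonObj.one_comp])
  let t := hker.lift h' (toUnit _) (by rw [hq, Hom.one_def])
  have ht : t ≫ i = h' := hker.lift_fst _ _ _
  have ht1 : t = 1 := torus_const b hT t (by rw [← cancel_mono i, Category.assoc, ht, h0', MonObj.one_comp])
  rw [← he, ← ht, ht1, MonObj.one_comp, MonObj.one_comp]

end Groth.Agent.AVTors.LineConst
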