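import Groth.Agent.GeomField.Fibre
import Groth.Agent.AVTors.Card
import Mathlib.AlgebraicGeometry.Morphisms.FormallyUnramified
import Mathlib.FieldTheory.PrimitiveElement
import Mathlib.FieldTheory.SeparableClosure
import Mathlib.RingTheory.Unramified.Field

/-!
Points with separable residue field are not split by a primary extension of the base field.
-/

set_option autoImplicit false
set_option linter.style.haveILetI false
set_option backward.isDefEq.respectTransparency false
set_option backward.isDefEq.respectTransparency.types false

universe u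

open CategoryTheory CategoryTheory.Limits AlgebraicGeometry Polynomial TensorProduct

namespace Groth.Agent.AVTors

attribute [local instance] Curv2.resAlgebra

variable {k K : Type u} [Field k] [Field K] [Algebra k K]

theorem irreducible_map_of_primary (hprim : ∀ x : K, IsSeparable k x → x ∈ (algebraMap k K).range)
    {f : k[X]} (hm : f.Monic) (hsep : f.Separable) (hirr : Irreducible f) :
    Irreducible (f.map (algebraMap k K)) := by
  have hdeg : (f.map (algebraMap k K)).natDegree = f.natDegree := natDegree_map _
  rw [(hm.map _).irreducible_iff_natDegree]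
  refine ⟨fun h => hirr.natDegree_pos.ne' (by rw [← hdeg, h, natDegree_one]), fun g h hg hh hgh => ?_⟩
  -- a monic factor has coefficients in `k`
  let C := AlgebraicClosure K
  let E := separableClosure k C
  have hlift : g ∈ Polynomial.lifts (algebraMap k K) := by
    rw [Polynomial.lifts_iff_coeff_lifts]
    intro n
    have hroot : ∀ r ∈ (g.map (algebraMap K C)).roots, r ∈ E := by
      intro r hr
      have h0 : (g.map (algebraMap K C)).eval r = 0 := isRoot_of_mem_roots hr
      refine mem_separableClosure_iff.2 (hsep.of_dvd (minpoly.dvd k r ?_))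
      rw [aeval_def, IsScalarTower.algebraMap_eq k K C, ← eval₂_map, ← hgh, eval₂_mul, ← Polynomial.eval_map, h0, zero_mul]
    have hprod : g.map (algebraMap K C) ∈ Polynomial.lifts (E.val : E →+* C) := by
      rw [(IsAlgClosed.splits (g.map (algebraMap K C))).eq_prod_roots_of_monic (hg.map _)]
      refine multiset_prod_mem _ fun p hp => ?_
      obtain ⟨r, hr, rfl⟩ := Multiset.mem_map.1 hp
      rw [sub_eq_add_neg, ← map_neg]
      exact add_mem ⟨X, map_X _⟩ ⟨Polynomial.C (-⟨r, hroot r hr⟩), map_C _⟩
    obtain ⟨e, he⟩ := (Polynomial.lifts_iff_coeff_lifts _).1 hprod n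
    rw [coeff_map] at he
    refine hprim _ ?_
    have hsepC : IsSeparable k (algebraMap K C (g.coeff n)) := he ▸ (mem_separableClosure_iff.1 e.2)
    have hinj : Function.Injective (IsScalarTower.toAlgHom k K C) := (algebraMap K C).injective
    rw [IsSeparable, ← minpoly.algHom_eq _ hinj (g.coeff n)]
    exact hsepC
  obtain ⟨g0, hg0, -, hg0m⟩ := Polynomial.lifts_and_degree_eq_and_monic hlift hg
  have hdvd : g0 ∣ f := (map_dvd_map' (algebraMap k K)).1 (by rw [hg0, ← hgh]; exact dvd_mul_right g h)
  have hnd : g.natDegree + h.natDegree = f.natDegree := by rw [← hg.natDegree_mul hh, hgh, hdeg]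
  have hg0d : g0.natDegree = g.natDegree := by rw [← hg0, natDegree_map]
  rcases hirr.dvd_iff.1 hdvd with hu | ha
  · exact Or.inl (by rw [← hg0d]; exact natDegree_eq_zero_of_isUnit hu)
  · refine Or.inr ?_
    have := natDegree_eq_of_degree_eq (degree_eq_degree_of_associated ha.symm)
    omega

theorem subsingleton_primeSpectrum_tensor (hprim : ∀ x : K, IsSeparable k x → x ∈ (algebraMap k K).range)
    (L : Type u) [Field L] [Algebra k L] [FiniteDimensional k L] [Algebra.IsSeparable k L] :
    Subsingleton (PrimeSpectrum (L ⊗[k] K)) := by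
  obtain ⟨α, hα⟩ := Field.exists_primitive_element k L
  have hint : IsIntegral k α := Algebra.IsIntegral.isIntegral α
  have hirr := irreducible_map_of_primary hprim (minpoly.monic hint) (Algebra.IsSeparable.isSeparable k α)
    (minpoly.irreducible hint)
  let M := K ⊗[k] L
  let φ : K[X] →ₐ[K] M := Polynomial.aeval ((1 : K) ⊗ₜ[k] α)
  have hsurj : Function.Surjective φ := by
    intro m
    induction m using TensorProduct.induction_on with
    | zero => exact ⟨0, map_zero _⟩
    | add a b ha hb => obtain ⟨a', rfl⟩ := ha; obtain ⟨b', rfl⟩ := hb; exact ⟨a' + b', map_add _ _ _⟩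
    | tmul c l =>
      obtain ⟨p, rfl⟩ : ∃ p : k[X], aeval α p = l := by
        have : l ∈ (IntermediateField.adjoin k {α}).toSubalgebra := by rw [hα]; trivial
        rw [IntermediateField.adjoin_simple_toSubalgebra_of_isAlgebraic hint.isAlgebraic,
          Algebra.adjoin_singleton_eq_range_aeval] at this
        exact this
      refine ⟨Polynomial.C c * p.map (algebraMap k K), ?_⟩
      show aeval _ _ = _
      rw [map_mul, aeval_C, aeval_map_algebraMap]
      have : aeval ((1 : K) ⊗ₜ[k] α) p = (1 : K) ⊗ₜ[k] aeval α p :=
        aeval_algHom_apply (Algebra.TensorProduct.includeRight : L →ₐ[k] M) α p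
      rw [this, Algebra.TensorProduct.algebraMap_apply, Algebra.algebraMap_self, RingHom.id_apply,
        Algebra.TensorProduct.tmul_mul_tmul, mul_one, one_mul]
  have hker : (minpoly k α).map (algebraMap k K) ∈ RingHom.ker φ.toRingHom := by
    rw [RingHom.mem_ker]
    show aeval _ _ = _
    rw [aeval_map_algebraMap]
    have : aeval ((1 : K) ⊗ₜ[k] α) (minpoly k α) = (1 : K) ⊗ₜ[k] aeval α (minpoly k α) :=
      aeval_algHom_apply (Algebra.TensorProduct.includeRight : L →ₐ[k] M) α _
    rw [this, minpoly.aeval, TensorProduct.tmul_zero]
  haveI hmax : (Ideal.span {(minpoly k α).map (algebraMap k K)}).IsMaximal :=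
    PrincipalIdealRing.isMaximal_of_irreducible hirr
  refine ⟨fun P Q => ?_⟩
  have key : ∀ R : PrimeSpectrum (L ⊗[k] K),
      Ideal.comap (((Algebra.TensorProduct.comm k L K).symm : M →+* L ⊗[k] K).comp φ.toRingHom) R.asIdeal =
        Ideal.span {(minpoly k α).map (algebraMap k K)} := fun R => by
    refine (hmax.eq_of_le (Ideal.IsPrime.ne_top inferInstance) ?_).symm
    rw [Ideal.span_le, Set.singleton_subset_iff]
    show ((Algebra.TensorProduct.comm k L K).symm : M →+* L ⊗[k] K) (φ.toRingHom _) ∈ R.asIdeal
    rw [RingHom.mem_ker.1 hker, map_zero]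
    exact zero_mem _
  refine PrimeSpectrum.ext (Ideal.comap_injective_of_surjective _ ?_ ((key P).trans (key Q).symm))
  exact (Algebra.TensorProduct.comm k L K).symm.surjective.comp hsurj

/-- A point of an unramified finite scheme has only one point above it in a primary extension. -/
theorem injective_bcFst_of_primary (hprim : ∀ x : K, IsSeparable k x → x ∈ (algebraMap k K).range)
    {W : Scheme.{u}} [W.Over (Spec (CommRingCat.of k))] [IsFinite (W ↘ Spec (CommRingCat.of k))]
    [FormallyUnramified (W ↘ Spec (CommRingCat.of k))] : Function.Injective (Curv2.bcFst k W K) := by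
  intro u v huv
  let w := Curv2.bcFst k W K u
  let q := W ↘ Spec (CommRingCat.of k)
  haveI : IsClosedImmersion (W.fromSpecResidueField w) :=
    isClosed_singleton_iff_isClosedImmersion.1 (isClosed_point q w)
  have hover := GeomField.fromSpecResidueField_over (k := k) w
  haveI h1 : FormallyUnramified (Spec.map (CommRingCat.ofHom (algebraMap k (W.residueField w)))) := by
    rw [← hover]; exact MorphismProperty.comp_mem _ _ _ inferInstance inferInstance
  haveI h2 : IsFinite (Spec.map (CommRingCat.ofHom (algebraMap k (W.residueField w)))) := by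
    rw [← hover]; infer_instance
  rw [IsFinite.SpecMap_iff] at h2
  rw [HasRingHomProperty.Spec_iff (P := @FormallyUnramified)] at h1
  haveI : Module.Finite k (W.residueField w) := RingHom.finite_algebraMap.1 h2
  haveI : Algebra.FormallyUnramified k (W.residueField w) := RingHom.formallyUnramified_algebraMap.1 h1
  haveI : Algebra.IsSeparable k (W.residueField w) := Algebra.FormallyUnramified.isSeparable k _
  let ι := W.fromSpecResidueField w
  have hr : Curv2.bcFst k W K ⁻¹' {w} = Set.range (pullback.snd ι (Curv2.bcFst k W K)) := by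
    rw [Scheme.Pullback.range_snd, Scheme.range_fromSpecResidueField]
  have : Subsingleton ↥(pullback ι (Curv2.bcFst k W K)) :=
    @Equiv.subsingleton _ _ (GeomField.fibreIso K w).hom.homeomorph.toEquiv
      (subsingleton_primeSpectrum_tensor hprim (W.residueField w))
  exact (hr ▸ Set.subsingleton_range (pullback.snd ι (Curv2.bcFst k W K)))
    (show u ∈ Curv2.bcFst k W K ⁻¹' {w} from rfl) (show v ∈ Curv2.bcFst k W K ⁻¹' {w} from huv.symm)

end Groth.Agent.AVTors
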