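import Groth.Agent.H23.FinCondSch
import Groth.Agent.Triage.ZMTBirPt
import Groth.Agent.AlgSpLib.EtLocalInst
import Groth.Agent.S2266
import Groth.Agent.HTopAwn.Normal
import Mathlib.AlgebraicGeometry.ValuativeCriterion

/-! Rational sections of unramified morphisms satisfying the existence part of the valuative criterion
extend over normal locally noetherian schemes. -/

set_option autoImplicit false
set_option backward.isDefEq.respectTransparency false
set_option backward.isDefEq.respectTransparency.types false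
set_option maxHeartbeats 1000000
universe u

open CategoryTheory CategoryTheory.Limits AlgebraicGeometry IsLocalRing

namespace Groth.Agent.AVTors.SectExtend

variable {Z S : Scheme.{u}} (f : Z ⟶ S)

theorem eq_pt (T : Scheme.{u}) [IsIntegral T] (a : Spec (T.presheaf.stalk (genericPoint T))) :
    a = closedPoint (T.presheaf.stalk (genericPoint T)) := by
  have h : IsField (T.presheaf.stalk (genericPoint T)) := Field.toIsField T.functionField
  have h0 : maximalIdeal (T.presheaf.stalk (genericPoint T)) = ⊥ := isField_iff_maximalIdeal_eq.1 h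
  refine PrimeSpectrum.ext ?_
  show a.asIdeal = maximalIdeal _
  exact le_antisymm (le_maximalIdeal a.isPrime.ne_top) (h0 ▸ bot_le)

/-- A `K`-point of an integral scheme over `S'` lifting the generic point with iso stalk: birationality. -/
theorem gen_data {C T : Scheme.{u}} [IsIntegral C] [IsIntegral T] (g : C ⟶ T)
    (m : Spec (T.presheaf.stalk (genericPoint T)) ⟶ C) [IsDominant m]
    (hm : m ≫ g = T.fromSpecStalk (genericPoint T)) :
    g (genericPoint C) = genericPoint T ∧ IsIso (g.stalkMap (genericPoint C)) := by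
  let pt := closedPoint (T.presheaf.stalk (genericPoint T))
  have huniq : ∀ a : Spec (T.presheaf.stalk (genericPoint T)), a = pt := fun a => eq_pt T a
  have hgenC : m pt = genericPoint C := by
    refine ((genericPoint_spec C).eq ?_).symm
    rw [isGenericPoint_def, ← Set.image_singleton]
    rw [show ({pt} : Set _) = Set.univ from Set.eq_univ_iff_forall.2 fun a => huniq a, Set.image_univ]
    exact m.denseRange.closure_range
  have h1 : g (genericPoint C) = genericPoint T := by
    rw [← hgenC, ← Scheme.Hom.comp_apply, hm]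
    exact T.fromSpecStalk_closedPoint
  refine ⟨h1, ?_⟩
  let θ := Scheme.stalkClosedPointTo m
  have key : IsIso (g.stalkMap (m pt)) := by
    have e : g.stalkMap (m pt) ≫ θ = T.presheaf.stalkSpecializes
        (Inseparable.of_eq ((congrArg g hgenC).trans h1).symm).specializes := by
      apply Spec.map_injective
      rw [← cancel_mono (T.fromSpecStalk _), Spec.map_comp, Category.assoc]
      rw [Scheme.SpecMap_stalkMap_fromSpecStalk g, Scheme.SpecMap_stalkSpecializes_fromSpecStalk,
        ← Category.assoc]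
      exact (congrArg (· ≫ g) (Scheme.Spec_stalkClosedPointTo_fromSpecStalk m)).trans hm
    have hF : IsField (C.presheaf.stalk (m pt)) := by
      rw [hgenC]; exact Field.toIsField C.functionField
    have hinj : Function.Injective θ.hom := by
      rw [injective_iff_map_eq_zero]
      intro a ha
      by_contra h0
      obtain ⟨b, hb⟩ := hF.mul_inv_cancel h0
      have := congrArg θ.hom hb
      rw [map_mul, ha, zero_mul, map_one] at this
      exact zero_ne_one this
    have : IsIso (g.stalkMap (m pt) ≫ θ) := by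
      rw [e]
      exact (inferInstance : IsIso (T.presheaf.stalkCongr (Inseparable.of_eq ((congrArg g hgenC).trans h1))).hom)
    have hb := ConcreteCategory.bijective_of_isIso (g.stalkMap (m pt) ≫ θ)
    rw [ConcreteCategory.isIso_iff_bijective]
    exact ⟨fun a b hab => hb.1 (congrArg θ hab), fun c => by
      obtain ⟨a, ha⟩ := hb.2 (θ c)
      exact ⟨a, hinj ha⟩⟩
  rw [hgenC] at key
  exact key

theorem exists_local [IsLocallyNoetherian S] (hS : Pi1.IsNormalScheme S) [IsSeparated f]
    [FormallyUnramified f] [LocallyOfFiniteType f] (hfp : ValuativeCriterion.Existence f)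
    (U : S.Opens) (hU : Dense (U : Set S)) (v : ↑U ⟶ Z) (hv : v ≫ f = U.ι) (s : S) :
    ∃ (T : Scheme.{u}) (j : T ⟶ S) (_ : IsOpenImmersion j) (σ : T ⟶ Z), s ∈ Set.range j ∧ σ ≫ f = j ∧
      (j ⁻¹ᵁ U).ι ≫ σ = (j ∣_ U) ≫ v := by
  have := (hS s).1
  obtain ⟨V0, hs0, hV0⟩ := H23.FinCondSch.exists_integral_nhd s
  obtain ⟨V, hV, hsV, hVV⟩ := exists_isAffineOpen_mem_and_subset hs0
  have : Nonempty V.toScheme := ⟨⟨s, hsV⟩⟩
  have : IsIntegral V.toScheme := isIntegral_of_isOpenImmersion (S.homOfLE hVV)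
  have : IsAffine V.toScheme := hV
  set η := genericPoint V.toScheme with hη
  have hne : ((V.ι ⁻¹ᵁ U : V.toScheme.Opens) : Set V.toScheme).Nonempty := by
    obtain ⟨y, hy1, hy2⟩ := hU.inter_open_nonempty V V.2 ⟨s, hsV⟩
    exact ⟨⟨y, hy1⟩, hy2⟩
  have hηU : η ∈ V.ι ⁻¹ᵁ U :=
    ((genericPoint_spec V.toScheme).mem_open_set_iff (V.ι ⁻¹ᵁ U).2).2 (by simpa using hne)
  let xK : Spec (V.toScheme.presheaf.stalk η) ⟶ Z :=
    (V.ι ⁻¹ᵁ U).fromSpecStalkOfMem η hηU ≫ (V.ι ∣_ U) ≫ v
  have hxK : xK ≫ f = V.toScheme.fromSpecStalk η ≫ V.ι := by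
    simp [xK, hv]
  let pt := closedPoint (V.toScheme.presheaf.stalk η)
  have hfz : f (xK pt) = V.ι η := by
    rw [← Scheme.Hom.comp_apply, hxK, Scheme.Hom.comp_apply]
    exact congrArg _ (V.toScheme.fromSpecStalk_closedPoint)
  have hsp : f (xK pt) ⤳ s := by
    rw [hfz]
    exact (genericPoint_specializes (α := V.toScheme) ⟨s, hsV⟩).map V.ι.continuous
  obtain ⟨z, hz, hzs⟩ := ValuativeCriterion.Existence.specializingMap f hfp hsp
  have hzs' : f z = s := hzs
  obtain ⟨W, hW, hzW, hWV⟩ := exists_isAffineOpen_mem_and_subset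
    (show z ∈ f ⁻¹ᵁ V by show f z ∈ V; rw [hzs']; exact hsV)
  have : IsAffine W.toScheme := hW
  have huniq : ∀ a : Spec (V.toScheme.presheaf.stalk η), a = pt := fun a => eq_pt V.toScheme a
  have hrange : Set.range xK ⊆ Set.range W.ι := by
    rintro _ ⟨a, rfl⟩
    rw [huniq a, Scheme.Opens.range_ι]
    exact hz.mem_open W.2 hzW
  let p := IsOpenImmersion.lift W.ι xK hrange
  have hp : p ≫ W.ι = xK := IsOpenImmersion.lift_fac _ _ _
  have : IsReduced (Spec (V.toScheme.presheaf.stalk η)) := inferInstance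
  have : IrreducibleSpace (Spec (V.toScheme.presheaf.stalk η)) := inferInstance
  have : IsReduced p.image := (S2266.result p).1
  have : IrreducibleSpace p.image := (S2266.result p).2 inferInstance inferInstance
  have : IsIntegral p.image := isIntegral_of_irreducibleSpace_of_isReduced _
  have : IsAffine p.image := isAffine_of_isAffineHom p.imageι
  have hCV : Set.range (p.imageι ≫ W.ι ≫ f) ⊆ Set.range V.ι := by
    rintro _ ⟨a, rfl⟩
    rw [Scheme.Opens.range_ι]
    exact hWV (p.imageι a).2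
  let g := IsOpenImmersion.lift V.ι (p.imageι ≫ W.ι ≫ f) hCV
  have hg : g ≫ V.ι = p.imageι ≫ W.ι ≫ f := IsOpenImmersion.lift_fac _ _ _
  have : LocallyOfFiniteType g :=
    have : LocallyOfFiniteType (g ≫ V.ι) := hg ▸ inferInstance
    locallyOfFiniteType_of_comp g V.ι
  have : FormallyUnramified g :=
    have : FormallyUnramified (g ≫ V.ι) := hg ▸
      MorphismProperty.comp_mem @FormallyUnramified _ _ inferInstance
        (MorphismProperty.comp_mem @FormallyUnramified _ _ inferInstance inferInstance)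
    FormallyUnramified.of_comp g V.ι
  have : LocallyQuasiFinite g := AlgSpLib.locallyQuasiFinite_of_formallyUnramified g
  have hm : p.toImage ≫ g = V.toScheme.fromSpecStalk η := by
    rw [← cancel_mono V.ι, Category.assoc, hg, Scheme.Hom.toImage_imageι_assoc, reassoc_of% hp, hxK]
  obtain ⟨hgen, hbir⟩ := gen_data g p.toImage hm
  obtain ⟨c, hc⟩ : ∃ c, p.imageι c = (⟨z, hzW⟩ : W.toScheme) := by
    have h1 : p pt ⤳ (⟨z, hzW⟩ : W.toScheme) := by
      rw [← W.ι.isOpenEmbedding.isInducing.specializes_iff, ← Scheme.Hom.comp_apply, hp]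
      exact hz
    refine h1.mem_closed p.imageι.isClosedEmbedding.isClosed_range ⟨p.toImage pt, ?_⟩
    rw [← Scheme.Hom.comp_apply, Scheme.Hom.toImage_imageι]
  have hgc : V.ι (g c) = s := by
    rw [← Scheme.Hom.comp_apply, hg, Scheme.Hom.comp_apply, Scheme.Hom.comp_apply, hc]
    exact hzs'
  have hnorm : IsIntegrallyClosed (V.toScheme.presheaf.stalk (g c)) := by
    have := (hS (V.ι (g c))).2
    exact IsIntegrallyClosed.of_equiv (asIso (V.ι.stalkMap (g c))).commRingCatIsoToRingEquiv
  have : IsIso (g.stalkMap c) :=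
    Triage.ZMTBirPt.isIso_stalkMap g hgen hbir c (g.quasiFiniteAt c) hnorm
  let φ : Spec (V.toScheme.presheaf.stalk (g c)) ⟶ Z :=
    inv (Spec.map (g.stalkMap c)) ≫ (p.image).fromSpecStalk c ≫ p.imageι ≫ W.ι
  have hφ : φ ≫ f = V.toScheme.fromSpecStalk (g c) ≫ V.ι := by
    simp only [φ, Category.assoc, IsIso.inv_comp_eq]
    rw [Scheme.SpecMap_stalkMap_fromSpecStalk_assoc, hg]
  obtain ⟨V', hcV', σ, hσ, hσf⟩ := spread_out_of_isGermInjective' V.ι f φ hφ
  refine ⟨V'.toScheme, V'.ι ≫ V.ι, inferInstance, σ, ⟨⟨g c, hcV'⟩, hgc⟩, hσf, ?_⟩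
  let O := (V'.ι ≫ V.ι) ⁻¹ᵁ U
  have hηV' : η ∈ V' := (genericPoint_specializes (g c)).mem_open V'.2 hcV'
  have hηO : (⟨η, hηV'⟩ : V'.toScheme) ∈ O := hηU
  let jη : Spec (V.toScheme.presheaf.stalk η) ⟶ O.toScheme :=
    IsOpenImmersion.lift O.ι (V'.fromSpecStalkOfMem η hηV') (by
      rintro _ ⟨a, rfl⟩
      rw [huniq a, Scheme.Opens.range_ι]
      have hpt : V'.ι (V'.fromSpecStalkOfMem η hηV' pt) = η := by
        rw [← Scheme.Hom.comp_apply, Scheme.Opens.fromSpecStalkOfMem_ι]
        exact V.toScheme.fromSpecStalk_closedPoint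
      show V.ι (V'.ι (V'.fromSpecStalkOfMem η hηV' pt)) ∈ U
      rw [hpt]
      exact hηU)
  have hjη : jη ≫ O.ι = V'.fromSpecStalkOfMem η hηV' := IsOpenImmersion.lift_fac _ _ _
  have hjι : jη ≫ O.ι ≫ V'.ι = V.toScheme.fromSpecStalk η := by
    rw [reassoc_of% hjη, Scheme.Opens.fromSpecStalkOfMem_ι]
  have : IsDominant jη := by
    refine ⟨fun x => ?_⟩
    have hd : jη pt ⤳ x := ?_
    · exact closure_mono (Set.singleton_subset_iff.2 (Set.mem_range_self pt)) (specializes_iff_mem_closure.1 hd)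
    rw [← (O.ι ≫ V'.ι).isOpenEmbedding.isInducing.specializes_iff, ← Scheme.Hom.comp_apply, hjι]
    erw [V.toScheme.fromSpecStalk_closedPoint]
    exact genericPoint_specializes _
  have : IsReduced V'.toScheme := isReduced_of_isOpenImmersion V'.ι
  refine ext_of_isDominant_of_isSeparated f ?_ jη ?_
  · simp only [Category.assoc, hσf, hv, morphismRestrict_ι]
  · have e1 : V'.fromSpecStalkOfMem η hηV' =
        Spec.map (V.toScheme.presheaf.stalkSpecializes (genericPoint_specializes (g c))) ≫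
          V'.fromSpecStalkOfMem (g c) hcV' := by
      rw [← cancel_mono V'.ι, Category.assoc, Scheme.Opens.fromSpecStalkOfMem_ι,
        Scheme.Opens.fromSpecStalkOfMem_ι, Scheme.SpecMap_stalkSpecializes_fromSpecStalk]
    have hsp' : p.toImage pt ⤳ c := by
      rw [← p.imageι.isClosedEmbedding.isInducing.specializes_iff, hc, ← Scheme.Hom.comp_apply,
        Scheme.Hom.toImage_imageι, ← W.ι.isOpenEmbedding.isInducing.specializes_iff, ← Scheme.Hom.comp_apply, hp]
      exact hz
    let t := Spec.map (Scheme.stalkClosedPointTo p.toImage) ≫ Spec.map (p.image.presheaf.stalkSpecializes hsp')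
    have ht : t ≫ p.image.fromSpecStalk c = p.toImage := by
      simp only [t, Category.assoc]
      rw [Scheme.SpecMap_stalkSpecializes_fromSpecStalk]
      exact Scheme.Spec_stalkClosedPointTo_fromSpecStalk _
    have ht2 : t ≫ Spec.map (g.stalkMap c) =
        Spec.map (V.toScheme.presheaf.stalkSpecializes (genericPoint_specializes (g c))) := by
      rw [← cancel_mono (V.toScheme.fromSpecStalk (g c)), Category.assoc,
        Scheme.SpecMap_stalkMap_fromSpecStalk, reassoc_of% ht, hm,
        Scheme.SpecMap_stalkSpecializes_fromSpecStalk]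
    have e2 : jη ≫ (((V'.ι ≫ V.ι) ∣_ U)) = (V.ι ⁻¹ᵁ U).fromSpecStalkOfMem η hηU ≫ (V.ι ∣_ U) := by
      rw [← cancel_mono U.ι, Category.assoc, Category.assoc, morphismRestrict_ι, morphismRestrict_ι,
        reassoc_of% hjι, Scheme.Opens.fromSpecStalkOfMem_ι_assoc]
    rw [reassoc_of% hjη, e1, Category.assoc, ← hσ, ← ht2, reassoc_of% e2]
    simp only [φ, Category.assoc, IsIso.hom_inv_id_assoc, reassoc_of% ht,
      Scheme.Hom.toImage_imageι_assoc, hp]
    rfl

theorem exists_section [IsLocallyNoetherian S] (hS : Pi1.IsNormalScheme S) [IsSeparated f]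
    [FormallyUnramified f] [LocallyOfFiniteType f] (hfp : ValuativeCriterion.Existence f)
    (U : S.Opens) (hU : Dense (U : Set S)) (v : ↑U ⟶ Z) (hv : v ≫ f = U.ι) :
    ∃ w : S ⟶ Z, w ≫ f = 𝟙 S ∧ U.ι ≫ w = v := by
  choose T j hj σ hmem hσ hagree using exists_local f hS hfp U hU v hv
  have : IsReduced S := HTopAwn.isReduced_of_isNormal hS
  let 𝒰 : S.OpenCover :=
    { I₀ := S
      X := T
      f := j
      mem₀ := by
        rw [Scheme.ofArrows_mem_precoverage_iff]
        exact ⟨fun x => ⟨x, hmem x⟩, hj⟩ }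
  have hg : ∀ x y : S, pullback.fst (j x) (j y) ≫ σ x = pullback.snd _ _ ≫ σ y := by
    intro x y
    let a := pullback.fst (j x) (j y) ≫ j x
    have : IsOpenImmersion a := inferInstance
    have : IsReduced (pullback (j x) (j y)) := isReduced_of_isOpenImmersion a
    have : IsDominant (a ⁻¹ᵁ U).ι := by
      refine ⟨?_⟩
      rw [DenseRange, Scheme.Opens.range_ι]
      exact hU.preimage a.isOpenEmbedding.isOpenMap
    refine ext_of_isDominant_of_isSeparated f ?_ (a ⁻¹ᵁ U).ι ?_
    · rw [Category.assoc, hσ, Category.assoc, hσ, pullback.condition]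
    · have key : ∀ {P W : Scheme.{u}} (q : P ⟶ W) (jj : W ⟶ S) [IsOpenImmersion jj] (τ : W ⟶ Z)
          (_ : (jj ⁻¹ᵁ U).ι ≫ τ = (jj ∣_ U) ≫ v),
          ((q ≫ jj) ⁻¹ᵁ U).ι ≫ q ≫ τ = ((q ≫ jj) ∣_ U) ≫ v := by
        intro P W q jj _ τ h
        have : ((q ≫ jj) ⁻¹ᵁ U).ι ≫ q = (q ∣_ (jj ⁻¹ᵁ U)) ≫ (jj ⁻¹ᵁ U).ι :=
          (morphismRestrict_ι q (jj ⁻¹ᵁ U)).symm
        rw [reassoc_of% this, h, morphismRestrict_comp, Category.assoc]
      have h1 := key (pullback.fst (j x) (j y)) (j x) (σ x) (hagree x)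
      have h2 := key (pullback.snd (j x) (j y)) (j y) (σ y) (hagree y)
      have gen : ∀ {P : Scheme.{u}} {a b : P ⟶ S} (_ : a = b) (τ τ' : P ⟶ Z)
          (_ : (a ⁻¹ᵁ U).ι ≫ τ = (a ∣_ U) ≫ v) (_ : (b ⁻¹ᵁ U).ι ≫ τ' = (b ∣_ U) ≫ v),
          (a ⁻¹ᵁ U).ι ≫ τ = (a ⁻¹ᵁ U).ι ≫ τ' := by
        intro P a b hab τ τ' ha hb
        subst hab
        rw [ha, hb]
      exact gen pullback.condition _ _ h1 h2
  let w := 𝒰.glueMorphisms σ hg
  have hw : ∀ x, j x ≫ w = σ x := fun x => 𝒰.ι_glueMorphisms σ hg x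
  refine ⟨w, 𝒰.hom_ext _ _ fun x => ?_, ?_⟩
  · show j x ≫ w ≫ f = j x ≫ 𝟙 S
    rw [reassoc_of% (hw x), hσ, Category.comp_id]
  · refine Scheme.Cover.hom_ext (𝒰.pullback₁ U.ι) _ _ fun x => ?_
    show pullback.fst U.ι (j x) ≫ U.ι ≫ w = pullback.fst U.ι (j x) ≫ v
    rw [reassoc_of% (pullback.condition (f := U.ι) (g := j x)), hw]
    let q := pullback.snd U.ι (j x)
    have hq : Set.range q ⊆ Set.range (j x ⁻¹ᵁ U).ι := by
      rintro _ ⟨a, rfl⟩
      rw [Scheme.Opens.range_ι]
      show j x (q a) ∈ U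
      rw [← Scheme.Hom.comp_apply, ← pullback.condition, Scheme.Hom.comp_apply]
      exact (pullback.fst U.ι (j x) a).2
    have hl := IsOpenImmersion.lift_fac (j x ⁻¹ᵁ U).ι q hq
    show q ≫ σ x = _
    rw [← hl, Category.assoc, hagree x]
    rw [← Category.assoc]
    congr 1
    rw [← cancel_mono U.ι, Category.assoc, morphismRestrict_ι, ← Category.assoc, hl]
    exact pullback.condition.symm

end Groth.Agent.AVTors.SectExtend
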