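import Groth.Agent.H23.MulTangent
import Groth.Agent.H23.MulEtale
import Groth.Agent.H23.Isogeny
import Groth.Agent.GrpSchLib.HomFlat
import Groth.Agent.CurveFin.RelDim

/-!
Homomorphisms of smooth groups over an algebraically closed field and tangent vectors at the unit.
-/

set_option linter.style.haveILetI false
set_option linter.unusedSectionVars false
set_option backward.isDefEq.respectTransparency false
set_option backward.isDefEq.respectTransparency.types false
set_option maxHeartbeats 1000000
set_option autoImplicit false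

universe u

open CategoryTheory Limits AlgebraicGeometry MonoidalCategory CartesianMonoidalCategory MonObj TrivSqZeroExt
open Groth.Agent.GrpSchLib Groth.Agent.H23.MulTangent

namespace Groth.Agent.AVTors

variable {K : Type u} [Field K]

/-- The dual numbers. -/
abbrev Dual2 (K : Type u) [Field K] := TrivSqZeroExt K K

/-- A homomorphism injective on tangent vectors at the unit is unramified. -/
theorem formallyUnramified_of_tangent [IsAlgClosed K] {X Y : Over (Spec (CommRingCat.of K))} [GrpObj X] [GrpObj Y]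
    [LocallyOfFiniteType X.hom] (ψ : X ⟶ Y) [IsMonHom ψ]
    (hinj : ∀ t : specOver K (TrivSqZeroExt K K) ⟶ X,
      specHom (TrivSqZeroExt.fstHom K K K) ≫ t = 1 → t ≫ ψ = 1 → t = 1) :
    FormallyUnramified ψ.left := by
  set f := ψ.left
  have hw : f ≫ Y.hom = X.hom := Over.w ψ
  rw [HasRingHomProperty.iff_appLE (P := @FormallyUnramified)]
  intro V' V e
  obtain ⟨φA, hφA⟩ := Spec.map_surjective (V'.2.fromSpec ≫ Y.hom)
  obtain ⟨φB, hφB⟩ := Spec.map_surjective (V.2.fromSpec ≫ X.hom)
  let A := Γ(Y.left, V'.1)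
  let B := Γ(X.left, V.1)
  let : Algebra K A := φA.hom.toAlgebra
  let : Algebra K B := φB.hom.toAlgebra
  let : Algebra A B := (f.appLE V'.1 V.1 e).hom.toAlgebra
  have hcomp : φA ≫ f.appLE V'.1 V.1 e = φB := by
    apply Spec.map_injective
    rw [Spec.map_comp, hφA, hφB, IsAffineOpen.SpecMap_appLE_fromSpec_assoc f V'.2 V.2 e, hw]
  have : IsScalarTower K A B := IsScalarTower.of_algebraMap_eq fun c =>
    (congrArg (fun q => q.hom c) hcomp).symm
  have hft : Algebra.FiniteType K B := by
    have h : LocallyOfFiniteType (V.2.fromSpec ≫ X.hom) := inferInstance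
    rw [← hφB, HasRingHomProperty.Spec_iff (P := @LocallyOfFiniteType)] at h
    exact h
  have : Algebra.FiniteType A B := Algebra.FiniteType.of_restrictScalars_finiteType K A B
  show Algebra.FormallyUnramified A B
  have : IsJacobsonRing B := isJacobsonRing_of_finiteType (A := K)
  refine ⟨(Submodule.subsingleton_iff B).1 (subsingleton_iff_bot_eq_top.1 ?_)⟩
  by_contra hne
  obtain ⟨m, hm, hsupp⟩ : ∃ m : Ideal B, m.IsMaximal ∧
      (⊥ : Submodule B Ω[B⁄A]).colon ((⊤ : Submodule B Ω[B⁄A]) : Set _) ≤ m :=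
    Ideal.exists_le_maximal _ fun htop => hne (by
      refine (eq_bot_iff.2 fun x _ => ?_).symm
      have := (Submodule.mem_colon).1 ((Ideal.eq_top_iff_one _).1 htop) x trivial
      simpa using this)
  have hlt : m • (⊤ : Submodule B Ω[B⁄A]) < ⊤ := by
    refine lt_of_le_of_ne le_top fun h => ?_
    obtain ⟨r, hr1, hr⟩ := Submodule.exists_sub_one_mem_and_smul_eq_zero_of_fg_of_le_smul m
      (⊤ : Submodule B Ω[B⁄A]) Module.Finite.fg_top h.ge
    have hrm : r ∈ m := hsupp (Submodule.mem_colon.2 fun x _ => by simpa using hr x trivial)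
    exact hm.ne_top ((Ideal.eq_top_iff_one m).2 (by simpa using m.sub_mem hrm hr1))
  -- the residue field of `m` is `K`
  have : Module.Finite K (B ⧸ m) := by
    let := Ideal.Quotient.field m
    exact finite_of_finite_type_of_isJacobsonRing K (B ⧸ m)
  let := Ideal.Quotient.field m
  have hbij : Function.Bijective (algebraMap K (B ⧸ m)) :=
    ⟨(algebraMap K (B ⧸ m)).injective,
      (IsAlgClosed.algebraMap_bijective_of_isIntegral (k := K) (K := B ⧸ m)).2⟩
  let eK : K ≃ₐ[K] B ⧸ m := AlgEquiv.ofBijective (Algebra.ofId K (B ⧸ m)) hbij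
  let χ : B →ₐ[K] K := eK.symm.toAlgHom.comp (Ideal.Quotient.mkₐ K m)
  have hχm : ∀ b, b ∈ m → χ b = 0 := fun b hb => by
    simp [χ, Ideal.Quotient.eq_zero_iff_mem.2 hb]
  -- a functional on the cotangent space
  obtain ⟨x, -, hx⟩ := SetLike.exists_of_lt hlt
  let Q := Ω[B⁄A] ⧸ (m • (⊤ : Submodule B Ω[B⁄A]))
  obtain ⟨ℓ, hℓ⟩ := Module.Projective.exists_dual_ne_zero K
    (show (Submodule.Quotient.mk x : Q) ≠ 0 by rwa [Ne, Submodule.Quotient.mk_eq_zero])
  let D : B →ₗ[K] K := ℓ ∘ₗ (((m • (⊤ : Submodule B Ω[B⁄A])).mkQ.restrictScalars K) ∘ₗ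
    ((KaehlerDifferential.D A B).toLinearMap.restrictScalars K))
  have hsmul : ∀ (b : B) (q : Q), b • q = χ b • q := by
    intro b q
    obtain ⟨y, rfl⟩ := Submodule.Quotient.mk_surjective _ q
    rw [← algebraMap_smul B (χ b) (Submodule.Quotient.mk y : Q), ← Submodule.Quotient.mk_smul,
      ← Submodule.Quotient.mk_smul, Submodule.Quotient.eq, ← sub_smul]
    refine Submodule.smul_mem_smul ?_ trivial
    rw [← Ideal.Quotient.eq]
    show Ideal.Quotient.mk m b = algebraMap K (B ⧸ m) (χ b)
    exact (eK.apply_symm_apply _).symm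
  have hD : ∀ a b, D (a * b) = χ a * D b + χ b * D a := by
    intro a b
    show ℓ (Submodule.Quotient.mk (KaehlerDifferential.D A B (a * b))) = _
    rw [Derivation.leibniz, Submodule.Quotient.mk_add, Submodule.Quotient.mk_smul,
      Submodule.Quotient.mk_smul, hsmul, hsmul, map_add, map_smul, map_smul]
    rfl
  have hDne : D ≠ 0 := by
    intro h
    apply hℓ
    have : ∀ y ∈ Submodule.span B (Set.range (KaehlerDifferential.D A B)),
        ℓ (Submodule.Quotient.mk y) = 0 := by
      intro y hy
      induction hy using Submodule.span_induction with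
      | mem y hy => obtain ⟨b, rfl⟩ := hy; exact LinearMap.congr_fun h b
      | zero => simp
      | add y z _ _ h1 h2 => rw [Submodule.Quotient.mk_add, map_add, h1, h2, add_zero]
      | smul b y _ h1 => rw [Submodule.Quotient.mk_smul, hsmul, map_smul, h1, smul_zero]
    exact this x (KaehlerDifferential.span_range_derivation A B ▸ trivial)
  obtain ⟨g, hg⟩ := exists_algHom_of_derivation χ D hD
  -- the tangent vector and its translate to the unit
  let t := pt (X := X) V.2.fromSpec hφB.symm g
  let a := pt (X := X) V.2.fromSpec hφB.symm ((TrivSqZeroExt.inlAlgHom K K K).comp χ)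
  have hgA : ∀ c : A, g (algebraMap A B c) = ((TrivSqZeroExt.inlAlgHom K K K).comp χ) (algebraMap A B c) := by
    intro c
    rw [hg]
    have : D (algebraMap A B c) = 0 := by simp [D]
    simp [this]
  have hfn : ∀ (C : Type u) [CommRing C] [Algebra K C] (h : B →ₐ[K] C),
      (pt (X := X) V.2.fromSpec hφB.symm h ≫ ψ).left =
        Spec.map (f.appLE V'.1 V.1 e ≫ CommRingCat.ofHom h.toRingHom) ≫ V'.2.fromSpec := by
    intro C _ _ h
    rw [Spec.map_comp, Category.assoc, IsAffineOpen.SpecMap_appLE_fromSpec f V'.2 V.2 e]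
    show (_ ≫ V.2.fromSpec) ≫ f = _
    exact Category.assoc _ _ _
  have htn : t ≫ ψ = a ≫ ψ := by
    ext1
    rw [hfn, hfn]
    congr 2
    ext1
    exact RingHom.ext hgA
  have hfst : specHom (TrivSqZeroExt.fstHom K K K) ≫ (t * a⁻¹) = 1 := by
    rw [MonObj.comp_mul, GrpObj.comp_inv, pt_comp, pt_comp, mul_inv_eq_one]
    congr 1
    ext b
    have hb : (g b).fst = χ b := by rw [hg b]; simp
    simpa using hb
  have h1 := hinj (t * a⁻¹) hfst (by rw [MonObj.mul_comp, GrpObj.inv_comp, htn, mul_inv_cancel])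
  rw [mul_inv_eq_one] at h1
  have := pt_injective V.2.fromSpec hφB.symm h1
  apply hDne
  ext b
  have := congrArg TrivSqZeroExt.snd (AlgHom.congr_fun this b)
  simpa [hg] using this


/-- An unramified homomorphism is injective on tangent vectors at the unit. -/
theorem eq_one_of_formallyUnramified {X Y : Over (Spec (CommRingCat.of K))} [GrpObj X] [GrpObj Y]
    (ψ : X ⟶ Y) [IsMonHom ψ] [FormallyUnramified ψ.left] [LocallyOfFiniteType ψ.left]
    (t : specOver K (TrivSqZeroExt K K) ⟶ X) (ht : specHom (TrivSqZeroExt.fstHom K K K) ≫ t = 1)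
    (htψ : t ≫ ψ = 1) : t = 1 := by
  let o : specOver K (TrivSqZeroExt K K) ⟶ X := 1
  let i := specHom (TrivSqZeroExt.fstHom K K K)
  have hw : t.left ≫ ψ.left = o.left ≫ ψ.left := by
    rw [← Over.comp_left, ← Over.comp_left, htψ, MonObj.one_comp]
  let q := pullback.lift t.left o.left hw
  have hq : Set.range q ⊆ Set.range (pullback.diagonal ψ.left) := by
    haveI := subsingleton_spec (K := K) K
    rintro _ ⟨x, rfl⟩
    let p₀ : Spec (CommRingCat.of K) := IsLocalRing.closedPoint K
    refine ⟨(i ≫ t).left p₀, ?_⟩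
    have e : i.left ≫ q = (i ≫ t).left ≫ pullback.diagonal ψ.left := by
      apply pullback.hom_ext
      · rw [Category.assoc, Category.assoc, pullback.lift_fst, pullback.diagonal_fst, Category.comp_id,
          Over.comp_left]
      · rw [Category.assoc, Category.assoc, pullback.lift_snd, pullback.diagonal_snd, Category.comp_id,
          ← Over.comp_left]
        exact congrArg (fun h => h.left) ((MonObj.comp_one i).trans ht.symm)
    have ex : i.left p₀ = x := Subsingleton.elim (α := PrimeSpectrum _) _ _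
    rw [← Scheme.Hom.comp_apply, ← e, Scheme.Hom.comp_apply, ex]
  have e := IsOpenImmersion.lift_fac (pullback.diagonal ψ.left) q hq
  refine Over.OverMorphism.ext ?_
  have e1 := congrArg (· ≫ pullback.fst ψ.left ψ.left) e
  have e2 := congrArg (· ≫ pullback.snd ψ.left ψ.left) e
  simp only [Category.assoc, pullback.diagonal_fst, pullback.diagonal_snd, Category.comp_id, q,
    pullback.lift_fst, pullback.lift_snd] at e1 e2
  exact e1.symm.trans e2

theorem locallyOfFiniteType_left {X Y : Over (Spec (CommRingCat.of K))} [LocallyOfFiniteType X.hom]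
    (ψ : X ⟶ Y) : LocallyOfFiniteType ψ.left := by
  haveI : LocallyOfFiniteType (ψ.left ≫ Y.hom) := by rw [Over.w]; infer_instance
  exact locallyOfFiniteType_of_comp _ Y.hom

/-- On a smooth one-dimensional group, a homomorphism killing one tangent vector at the unit kills all. -/
theorem kills_tangents {X Y : Over (Spec (CommRingCat.of K))} [GrpObj X] [GrpObj Y] [IsIntegral X.left]
    [Smooth X.hom] (hX : topologicalKrullDim X.left = 1) (ψ : X ⟶ Y) [IsMonHom ψ]
    (t : specOver K (TrivSqZeroExt K K) ⟶ X) (ht : specHom (TrivSqZeroExt.fstHom K K K) ≫ t = 1)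
    (hne : t ≠ 1) (htψ : t ≫ ψ = 1) (s : specOver K (TrivSqZeroExt K K) ⟶ X)
    (hs : specHom (TrivSqZeroExt.fstHom K K K) ≫ s = 1) : s ≫ ψ = 1 := by
  haveI : SmoothOfRelativeDimension 1 X.hom :=
    CurveFin.smoothOfRelativeDimension_of_dim X.hom (d := 1) (by exact_mod_cast hX)
  obtain ⟨U, hU, V, hV, hxV, e, hstd⟩ := SmoothOfRelativeDimension.exists_isStandardSmoothOfRelativeDimension
    (n := 1) (f := X.hom) ((η[X] : 𝟙_ (Over (Spec (CommRingCat.of K))) ⟶ X).left (IsLocalRing.closedPoint K))
  haveI : Subsingleton (Spec (CommRingCat.of K)) := inferInstanceAs (Subsingleton (PrimeSpectrum K))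
  obtain rfl : U = ⊤ := top_le_iff.1 fun x _ => Subsingleton.elim (X.hom _) x ▸ e hxV
  let φ : CommRingCat.of K ⟶ Γ(X.left, V) := (Scheme.ΓSpecIso (CommRingCat.of K)).inv ≫ X.hom.appLE ⊤ V e
  have hφ : Spec.map φ = hV.fromSpec ≫ X.hom := by
    rw [Spec.map_comp, ← IsAffineOpen.SpecMap_appLE_fromSpec X.hom (isAffineOpen_top _) hV e,
      IsAffineOpen.fromSpec_top, Scheme.isoSpec_Spec_inv]
  let B := Γ(X.left, V)
  letI : Algebra K B := φ.hom.toAlgebra
  haveI : Algebra.IsStandardSmoothOfRelativeDimension 1 K B :=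
    RingHom.isStandardSmoothOfRelativeDimension_respectsIso.2 _
      (Scheme.ΓSpecIso (CommRingCat.of K)).symm.commRingCatIsoToRingEquiv hstd
  haveI : Algebra.IsStandardSmooth K B := Algebra.IsStandardSmoothOfRelativeDimension.isStandardSmooth 1
  let j := hV.fromSpec
  have hj : j ≫ X.hom = Spec.map (CommRingCat.ofHom (algebraMap K B)) := hφ.symm
  obtain ⟨χ, hone⟩ := exists_pt_of_range j hj (1 : specOver K K ⟶ X) (by
    rintro _ ⟨q, rfl⟩
    rw [hV.range_fromSpec]
    have hp : (toUnit (specOver K K)).left q = IsLocalRing.closedPoint K :=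
      Subsingleton.elim (α := PrimeSpectrum K) _ _
    rw [Hom.one_def, Over.comp_left, Scheme.Hom.comp_apply, hp]
    exact hxV)
  haveI : Nontrivial B := RingHom.domain_nontrivial (χ : B →+* K)
  obtain ⟨g, hg, rfl⟩ := exists_pt j hj K t (ht.trans hone.symm)
  obtain ⟨g', hg', rfl⟩ := exists_pt j hj K s (hs.trans hone.symm)
  letI := (χ : B →+* K).toAlgebra
  haveI : IsScalarTower K B K := IsScalarTower.of_algebraMap_eq fun c => (χ.commutes c).symm
  have hrank : Module.finrank B Ω[B⁄K] = 1 := by
    rw [Module.finrank, Algebra.IsStandardSmoothOfRelativeDimension.rank_kaehlerDifferential (S := B) 1]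
    simp
  let ω := Module.basisUnique PUnit.{1} hrank
  let F : B → K := fun b => χ (ω.repr (KaehlerDifferential.D K B b) PUnit.unit)
  have key : ∀ h : B →ₐ[K] TrivSqZeroExt K K, (TrivSqZeroExt.fstHom K K K).comp h = χ →
      ∃ c : K, ∀ b, (h b).snd = c * F b := by
    intro h hh
    have hf : ∀ b, (h b).fst = χ b := fun b => AlgHom.congr_fun hh b
    let D : Derivation K B K := Derivation.mk'
      ((TrivSqZeroExt.sndHom K K).restrictScalars K ∘ₗ h.toLinearMap) (fun a b => by
        show (h (a * b)).snd = χ a * (h b).snd + χ b * (h a).snd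
        rw [map_mul, TrivSqZeroExt.snd_mul, hf, hf]
        simp [mul_comm])
    refine ⟨D.liftKaehlerDifferential (ω PUnit.unit), fun b => ?_⟩
    have e1 : (h b).snd = D.liftKaehlerDifferential (KaehlerDifferential.D K B b) :=
      (D.liftKaehlerDifferential_comp_D b).symm
    rw [e1]
    conv_lhs => rw [← ω.sum_repr (KaehlerDifferential.D K B b)]
    rw [Fintype.sum_unique, map_smul]
    exact mul_comm _ _
  obtain ⟨c, hc⟩ := key g hg
  obtain ⟨c', hc'⟩ := key g' hg'
  let cst : B →ₐ[K] TrivSqZeroExt K K := (TrivSqZeroExt.inlAlgHom K K K).comp χ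
  have hcst : pt j hj cst = 1 := by rw [← pt_comp, hone, MonObj.comp_one]
  have hc0 : c ≠ 0 := by
    intro h0
    refine hne ((congrArg (pt j hj) (AlgHom.ext fun b => TrivSqZeroExt.ext ?_ ?_)).trans hcst)
    · simpa [cst] using AlgHom.congr_fun hg b
    · have e := hc b
      rw [h0, zero_mul] at e
      simpa [cst] using e
  let sc : TrivSqZeroExt K K →ₐ[K] TrivSqZeroExt K K := TrivSqZeroExt.map ((c' / c) • LinearMap.id)
  have hsc : sc.comp g = g' := AlgHom.ext fun b => TrivSqZeroExt.ext
    (by simpa [sc] using (AlgHom.congr_fun hg b).trans (AlgHom.congr_fun hg' b).symm)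
    (by
      have e : c' / c * (g b).snd = (g' b).snd := by rw [hc b, hc' b]; field_simp
      simpa [sc] using e)
  rw [← hsc, ← pt_comp, Category.assoc, htψ, MonObj.comp_one]

end Groth.Agent.AVTors
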