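import Groth.Agent.AVTors.TateArg
import Groth.Agent.AVTors.AntiEquivProd
import Groth.Agent.Lib.AVTateBC
import Groth.Agent.AVTors.TateInj
import Groth.Prelude.Def_EndTate
import Mathlib.RingTheory.Artinian.Module
import Mathlib.RingTheory.SimpleModule.Basic
import Mathlib.LinearAlgebra.Trace
import Mathlib.LinearAlgebra.Charpoly.ToMatrix

/-! The algebra spanned by the endomorphisms acting on the rational Tate module is semisimple. -/

set_option autoImplicit false
set_option linter.style.haveILetI false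
set_option linter.unusedSectionVars false
set_option backward.isDefEq.respectTransparency false
set_option backward.isDefEq.respectTransparency.types false
set_option maxHeartbeats 2000000
set_option synthInstance.maxHeartbeats 200000

universe u

open CategoryTheory MonoidalCategory CartesianMonoidalCategory MonObj AlgebraicGeometry
open scoped TensorProduct

noncomputable section

namespace Groth.Agent.AVTors.TateSemi

variable {l : ℕ} [Fact l.Prime]

section Lattice

variable {M : Type*} [AddCommGroup M] [Module ℤ_[l] M]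

/-- Clearing denominators of a vector. -/
theorem exists_smul_eq_tmul (x : ℚ_[l] ⊗[ℤ_[l]] M) :
    ∃ a : ℤ_[l], a ≠ 0 ∧ ∃ t : M, a • x = (1 : ℚ_[l]) ⊗ₜ[ℤ_[l]] t := by
  induction x using TensorProduct.induction_on with
  | zero => exact ⟨1, one_ne_zero, 0, by simp⟩
  | add u v hu hv =>
    obtain ⟨a, ha, t, ht⟩ := hu
    obtain ⟨b, hb, s, hs⟩ := hv
    refine ⟨a * b, mul_ne_zero ha hb, b • t + a • s, ?_⟩
    rw [smul_add, TensorProduct.tmul_add, TensorProduct.tmul_smul, TensorProduct.tmul_smul, ← ht, ← hs,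
      smul_smul, smul_smul, mul_comm b a]
  | tmul q t =>
    obtain ⟨⟨y, ⟨s, hs⟩⟩, h⟩ := IsLocalization.surj (nonZeroDivisors ℤ_[l]) q
    refine ⟨s, nonZeroDivisors.ne_zero hs, y • t, ?_⟩
    rw [TensorProduct.smul_tmul', ← TensorProduct.smul_tmul, Algebra.smul_def, mul_comm]
    rw [h, Algebra.smul_def, _root_.mul_one]

variable [Module.Free ℤ_[l] M]

theorem tmul_injective : Function.Injective fun t : M => (1 : ℚ_[l]) ⊗ₜ[ℤ_[l]] t := fun t t' h => by
  let b := Module.Free.chooseBasis ℤ_[l] M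
  refine b.repr.injective (Finsupp.ext fun i => IsFractionRing.injective ℤ_[l] ℚ_[l] ?_)
  have h1 := congrArg (fun z => (Algebra.TensorProduct.basis ℚ_[l] b).repr z i) h
  simpa [Algebra.TensorProduct.basis_repr_tmul, Algebra.smul_def] using h1

theorem baseChange_injective {f g : Module.End ℤ_[l] M} (h : f.baseChange ℚ_[l] = g.baseChange ℚ_[l]) : f = g :=
  LinearMap.ext fun t => tmul_injective (by
    show (1 : ℚ_[l]) ⊗ₜ[ℤ_[l]] f t = (1 : ℚ_[l]) ⊗ₜ[ℤ_[l]] g t
    rw [← LinearMap.baseChange_tmul, h, LinearMap.baseChange_tmul])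

variable [Module.Finite ℤ_[l] M]

/-- Clearing denominators of an endomorphism. -/
theorem exists_smul_eq_baseChange (φ : Module.End ℚ_[l] (ℚ_[l] ⊗[ℤ_[l]] M)) :
    ∃ a : ℤ_[l], a ≠ 0 ∧ ∃ ψ : Module.End ℤ_[l] M, a • φ = ψ.baseChange ℚ_[l] := by
  classical
  let b := Module.Free.chooseBasis ℤ_[l] M
  choose a ha t ht using fun i => exists_smul_eq_tmul (φ ((1 : ℚ_[l]) ⊗ₜ[ℤ_[l]] b i))
  refine ⟨∏ i, a i, Finset.prod_ne_zero_iff.2 fun i _ => ha i,
    b.constr ℤ_[l] fun i => (∏ j ∈ Finset.univ.erase i, a j) • t i, ?_⟩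
  refine (Algebra.TensorProduct.basis ℚ_[l] b).ext fun i => ?_
  rw [Algebra.TensorProduct.basis_apply, LinearMap.baseChange_tmul, Module.Basis.constr_basis, LinearMap.smul_apply,
    TensorProduct.tmul_smul, ← ht, smul_smul, Finset.prod_erase_mul _ _ (Finset.mem_univ i)]

end Lattice

variable {k : Type u} [Field k] {Ω : Type u} [Field Ω] [Algebra k Ω]
  {X : Over (Spec (CommRingCat.of k))} [GrpObj X] [IsCommMonObj X] [IsProper X.hom] [GeometricallyIntegral X.hom]

variable (X l Ω) in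
/-- The representation on the rational Tate module. -/
def rep : EndAV.End X →+* Module.End ℚ_[l] (ℚ_[l] ⊗[ℤ_[l]] AbDual.TateMod X l (SGA7.pt Ω)) :=
  (Module.End.baseChangeHom ℤ_[l] ℚ_[l] (AbDual.TateMod X l (SGA7.pt Ω))).toRingHom.comp
    (EndAV.End.tateRep l (SGA7.pt Ω))

theorem rep_apply (φ : EndAV.End X) :
    rep l Ω X φ = (AbDual.tateMapₗ (l := l) (T := SGA7.pt Ω) φ.toHom).baseChange ℚ_[l] := rfl

variable (X l Ω) in
/-- The span of the endomorphisms. -/
def alg : Subalgebra ℚ_[l] (Module.End ℚ_[l] (ℚ_[l] ⊗[ℤ_[l]] AbDual.TateMod X l (SGA7.pt Ω))) :=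
  Algebra.adjoin ℚ_[l] (Set.range (rep l Ω X))

theorem alg_eq_span : (alg l Ω X).toSubmodule = Submodule.span ℚ_[l] (Set.range (rep l Ω X)) := by
  have h : Set.range (rep l Ω X) = (MonoidHom.mrange (rep l Ω X).toMonoidHom : Set _) := by
    rw [MonoidHom.coe_mrange]; rfl
  rw [alg, Algebra.adjoin_eq_span, h, Submonoid.closure_eq]

theorem rep_mem (φ : EndAV.End X) : rep l Ω X φ ∈ alg l Ω X := Algebra.subset_adjoin ⟨φ, rfl⟩

theorem setOf_eq : {ψ : Module.End ℚ_[l] (ℚ_[l] ⊗[ℤ_[l]] AbDual.TateMod X l (SGA7.pt Ω)) |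
      ∃ (f : X ⟶ X) (_ : IsMonHom f), ψ = (AbDual.tateMapₗ (l := l) (T := SGA7.pt Ω) f).baseChange ℚ_[l]} =
    Set.range (rep l Ω X) := by
  ext ψ
  constructor
  · rintro ⟨f, hf, rfl⟩
    exact ⟨EndAV.End.of f, rfl⟩
  · rintro ⟨φ, rfl⟩
    exact ⟨φ.toHom, inferInstance, rfl⟩

variable [IsAlgClosed Ω] [Module.Free ℤ_[l] (AbDual.TateMod X l (SGA7.pt Ω))]
  [Module.Finite ℤ_[l] (AbDual.TateMod X l (SGA7.pt Ω))]

theorem rep_injective (hl : (l : k) ≠ 0) : Function.Injective (rep l Ω X) := fun _ _ h =>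
  AVTors.tateMap_injective (A := X) (B := X) Ω l hl (baseChange_injective h)

theorem exists_int_trace (hl : (l : k) ≠ 0) (φ : EndAV.End X) :
    ∃ n : ℤ, LinearMap.trace ℚ_[l] _ (rep l Ω X φ) = n := by
  obtain ⟨g, hg⟩ := AVTors.exists_dimNat X
  obtain ⟨P, -, -, -, hT⟩ := AVTateBC.exists_charpoly Ω X hg φ
  have h1 : LinearMap.trace ℤ_[l] _ (EndAV.End.tateRep l (SGA7.pt Ω) φ) =
      ((-P.nextCoeff : ℤ) : ℤ_[l]) := by
    classical
    let b := Module.Free.chooseBasis ℤ_[l] (AbDual.TateMod X l (SGA7.pt Ω))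
    rw [LinearMap.trace_eq_matrix_trace ℤ_[l] b, Matrix.trace_eq_neg_charpoly_nextCoeff, LinearMap.charpoly_toMatrix,
      hT l hl, Polynomial.nextCoeff_map (RingHom.injective_int _), Int.cast_neg]
    rfl
  refine ⟨-P.nextCoeff, ?_⟩
  show LinearMap.trace ℚ_[l] _ ((EndAV.End.tateRep l (SGA7.pt Ω) φ).baseChange ℚ_[l]) = _
  rw [LinearMap.trace_baseChange, h1, map_intCast]

theorem exists_trace_ne_zero (hl : (l : k) ≠ 0) {φ : EndAV.End X} (hφ : φ ≠ 0) :
    ∃ ψ : EndAV.End X, LinearMap.trace ℚ_[l] _ (rep l Ω X (φ * ψ)) ≠ 0 := by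
  obtain ⟨y, m, hm, h⟩ := AntiEquiv.exists_reg (Y := X) (A := X) φ
  let ψ : EndAV.End X := y
  have h' : φ * ψ * φ = (m : EndAV.End X) * φ := by
    rw [← nsmul_eq_mul]
    exact h
  refine ⟨ψ, fun h0 => hφ (rep_injective (Ω := Ω) hl ?_)⟩
  let e := rep l Ω X (φ * ψ)
  have hm' : (m : ℚ_[l]) ≠ 0 := Nat.cast_ne_zero.2 hm.ne'
  have hee : e * e = (m : ℚ_[l]) • e := by
    show rep l Ω X (φ * ψ) * rep l Ω X (φ * ψ) = _
    rw [← map_mul, show φ * ψ * (φ * ψ) = (m : EndAV.End X) * (φ * ψ) by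
      rw [← _root_.mul_assoc, h', _root_.mul_assoc], map_mul, map_natCast, Nat.cast_smul_eq_nsmul, nsmul_eq_mul]
  let p := (m : ℚ_[l])⁻¹ • e
  have hp : IsIdempotentElem p := by
    show ((m : ℚ_[l])⁻¹ • e) * ((m : ℚ_[l])⁻¹ • e) = (m : ℚ_[l])⁻¹ • e
    rw [smul_mul_smul_comm, hee, smul_smul, _root_.mul_assoc, inv_mul_cancel₀ hm', _root_.mul_one]
  have htr : LinearMap.trace ℚ_[l] _ p = 0 := by
    show LinearMap.trace ℚ_[l] _ ((m : ℚ_[l])⁻¹ • e) = 0
    rw [map_smul, show LinearMap.trace ℚ_[l] _ e = 0 from h0, smul_zero]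
  rw [(LinearMap.IsIdempotentElem.isProj_range p hp).trace, Nat.cast_eq_zero, Submodule.finrank_eq_zero,
    LinearMap.range_eq_bot] at htr
  have he : e = 0 := (smul_eq_zero.1 htr).resolve_left (inv_ne_zero hm')
  have h2 : rep l Ω X ((m : EndAV.End X) * φ) = 0 := by
    rw [← h', map_mul, show rep l Ω X (φ * ψ) = 0 from he, zero_mul]
  rw [map_mul, map_natCast, ← nsmul_eq_mul, ← Nat.cast_smul_eq_nsmul ℚ_[l], smul_eq_zero] at h2
  rw [h2.resolve_left hm', map_zero]

/-- The algebra spanned by the endomorphisms is semisimple. -/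
theorem isSemisimpleRing (hl : (l : k) ≠ 0) : IsSemisimpleRing (alg l Ω X) := by
  classical
  haveI : IsArtinianRing (alg l Ω X) := IsArtinianRing.of_finite ℚ_[l] (alg l Ω X)
  rw [IsArtinianRing.isSemisimpleRing_iff_jacobson, eq_bot_iff]
  intro x hx
  obtain ⟨N, hN⟩ := IsArtinianRing.isNilpotent_jacobson_bot (R := alg l Ω X)
  have htr : ∀ φ, LinearMap.trace ℚ_[l] _ ((x : Module.End ℚ_[l] _) * rep l Ω X φ) = 0 := by
    intro φ
    have h1 : x * ⟨rep l Ω X φ, rep_mem φ⟩ ∈ Ideal.jacobson (⊥ : Ideal (alg l Ω X)) := by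
      rw [Ideal.jacobson_bot]
      exact Ideal.mul_mem_right _ _ hx
    have h2 := Ideal.pow_mem_pow h1 N
    rw [hN] at h2
    have h3 : IsNilpotent ((x : Module.End ℚ_[l] _) * rep l Ω X φ) :=
      ⟨N, by simpa using congrArg Subtype.val ((Submodule.mem_bot _).1 h2)⟩
    exact (LinearMap.isNilpotent_trace_of_isNilpotent h3).eq_zero
  obtain ⟨hfree, hfin⟩ := AVEnd0.free_finite_end (A := X)
  haveI := hfree
  haveI := hfin
  let κ := Module.Free.ChooseBasisIndex ℤ (EndAV.End X)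
  let b : Module.Basis κ ℤ (EndAV.End X) := Module.Free.chooseBasis ℤ (EndAV.End X)
  have hx2 : (x : Module.End ℚ_[l] _) ∈ Submodule.span ℚ_[l] (Set.range fun i => rep l Ω X (b i)) := by
    have h : (x : Module.End ℚ_[l] _) ∈ Submodule.span ℚ_[l] (Set.range (rep l Ω X)) :=
      alg_eq_span (X := X) (l := l) (Ω := Ω) ▸ (Subalgebra.mem_toSubmodule _).2 x.2
    refine Submodule.span_le.2 ?_ h
    rintro _ ⟨φ, rfl⟩
    rw [← b.sum_repr φ, map_sum]
    refine Submodule.sum_mem _ fun i _ => ?_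
    rw [map_zsmul, ← Int.cast_smul_eq_zsmul ℚ_[l]]
    exact Submodule.smul_mem _ _ (Submodule.subset_span ⟨i, rfl⟩)
  obtain ⟨c, hc⟩ := (Submodule.mem_span_range_iff_exists_fun ℚ_[l]).1 hx2
  choose n hn using exists_int_trace (X := X) (Ω := Ω) hl
  let G : Matrix κ κ ℤ := fun i j => n (b i * b j)
  have hG : G.det ≠ 0 := fun h0 => by
    obtain ⟨v, hv, hvG⟩ := Matrix.exists_vecMul_eq_zero_iff.2 h0
    have hφ : ∑ i, v i • b i ≠ 0 := fun h => hv (funext fun i => Fintype.linearIndependent_iff.1 b.linearIndependent v h i)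
    obtain ⟨ψ, hψ⟩ := exists_trace_ne_zero (Ω := Ω) hl hφ
    refine hψ ?_
    have hj : ∀ j, LinearMap.trace ℚ_[l] _ (rep l Ω X ((∑ i, v i • b i) * b j)) = 0 := fun j => by
      simp only [Finset.sum_mul, smul_mul_assoc, map_sum, map_zsmul, hn]
      have := congrArg (fun z : ℤ => (z : ℚ_[l])) (congrFun hvG j)
      simpa [Matrix.vecMul, dotProduct, G, zsmul_eq_mul] using this
    rw [← b.sum_repr ψ, Finset.mul_sum, map_sum, map_sum]
    refine Finset.sum_eq_zero fun j _ => ?_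
    rw [mul_smul_comm, map_zsmul, map_zsmul, hj, smul_zero]
  have hc0 : c = 0 := by
    by_contra hne
    have h1 : (G.map (Int.castRingHom ℚ_[l])).det = 0 := by
      refine Matrix.exists_vecMul_eq_zero_iff.1 ⟨c, hne, funext fun j => ?_⟩
      have h := htr (b j)
      rw [← hc, Finset.sum_mul, map_sum] at h
      simp only [smul_mul_assoc, map_smul, ← map_mul (rep l Ω X), hn, smul_eq_mul] at h
      simpa [Matrix.vecMul, dotProduct, G] using h
    rw [← RingHom.mapMatrix_apply, ← RingHom.map_det] at h1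
    exact hG (Int.cast_eq_zero.1 h1)
  rw [Submodule.mem_bot]
  refine Subtype.ext ?_
  rw [← hc, hc0]
  simp

/-- Von Neumann regularity of the algebra spanned by the endomorphisms. -/
theorem exists_mul_mul (hl : (l : k) ≠ 0) (u : alg l Ω X) : ∃ a : alg l Ω X, u * a * u = u := by
  haveI := isSemisimpleRing (X := X) (Ω := Ω) hl
  haveI : ComplementedLattice (Ideal (alg l Ω X)) :=
    ((isSemisimpleModule_iff (alg l Ω X) (alg l Ω X)).1 (isSemisimpleRing (X := X) (Ω := Ω) hl) :)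
  obtain ⟨L', hL'⟩ := exists_isCompl (Ideal.span {u})
  obtain ⟨e, he, e', he', hee⟩ := Submodule.mem_sup.1 (hL'.sup_eq_top.symm ▸ Submodule.mem_top :
    (1 : alg l Ω X) ∈ Ideal.span {u} ⊔ L')
  obtain ⟨a, rfl⟩ := Ideal.mem_span_singleton'.1 he
  refine ⟨a, ?_⟩
  have h1 : u * e' ∈ L' := Ideal.mul_mem_left _ _ he'
  have h2 : u * e' ∈ Ideal.span {u} := by
    refine (Ideal.add_mem_iff_right (Ideal.span {u})
      (a := u * (a * u)) (Ideal.mul_mem_left _ u (Ideal.mem_span_singleton'.2 ⟨a, rfl⟩))).1 ?_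
    rw [← mul_add, hee, _root_.mul_one]
    exact Ideal.mem_span_singleton_self u
  have h3 : u * e' = 0 := (Submodule.disjoint_def.1 hL'.disjoint) _ h2 h1
  calc u * a * u = u * (a * u + e') := by rw [mul_add, h3, add_zero, _root_.mul_assoc]
    _ = u := by rw [hee, _root_.mul_one]

end Groth.Agent.AVTors.TateSemi
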