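import Groth.Agent.DSPtsLib.Basic

/-!
The point of a diagonalisable group given by the trivial character is the unit.
-/

open CategoryTheory CategoryTheory.Limits MonoidalCategory CartesianMonoidalCategory MonObj GrpObj AlgebraicGeometry

universe u

namespace Groth.Agent.AVTors

theorem eq_toUnit_comp_eta_of_mul_self {S : Scheme.{u}} {X G : Over S} [GrpObj G] (a : X ⟶ G) (h : a * a = a) :
    a = toUnit X ≫ η[G] := (mul_eq_left.1 h).trans Hom.one_def

theorem pt_trivial {U : Scheme.{u}} {M : Type} [AddCommGroup M] {B : Type u} [CommRing B]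
    (j : Spec (CommRingCat.of B) ⟶ U) (z : DSPtsLib.CoordM.{u} M →+* B)
    (hz : ∀ m, z (MonoidAlgebra.single m 1) = 1) :
    DSPtsLib.pt j z = toUnit (DSPtsLib.spU j) ≫ η[Red.DS U M] :=
  eq_toUnit_comp_eta_of_mul_self _ (DSPtsLib.pt_mul j z z z fun m => by rw [hz, _root_.one_mul])

end Groth.Agent.AVTors
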