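import Groth.Agent.S11995
import Groth.Agent.AVTors.TorusPtOne
import Groth.Agent.H23.EquidimFibres
import Groth.Agent.AVTors.VarProd
import Mathlib.RingTheory.TensorProduct.MonoidAlgebra

/-!
Maps from a split torus over an algebraically closed field to an abelian variety are constant.
-/

noncomputable section

set_option linter.style.haveILetI false
set_option linter.unusedSectionVars false
set_option backward.isDefEq.respectTransparency false
set_option backward.isDefEq.respectTransparency.types false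
set_option maxHeartbeats 4000000
set_option synthInstance.maxHeartbeats 100000
set_option autoImplicit false

universe u

open CategoryTheory CategoryTheory.Limits MonoidalCategory CartesianMonoidalCategory MonObj AlgebraicGeometry
open scoped TensorProduct

namespace Groth.Agent.AVTors.TorusConst

variable (k : Type u) [Field k] (r : ℕ)

local notation "Mr" => (Fin r → ℤ)

theorem isReduced_DS : IsReduced (Red.DS (Spec (CommRingCat.of k)) Mr).left := by
  letI : Algebra (ULift.{u} ℤ) k := ((algebraMap ℤ k).comp ULift.ringEquiv.toRingHom).toAlgebra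
  let a := Spec.map (CommRingCat.ofHom (algebraMap (ULift.{u} ℤ) (MonoidAlgebra (ULift.{u} ℤ) (Multiplicative Mr))))
  let b := Spec.map (CommRingCat.ofHom (algebraMap (ULift.{u} ℤ) k))
  let e : (Red.DS (Spec (CommRingCat.of k)) Mr).left ≅
      Spec (CommRingCat.of (MonoidAlgebra k (Multiplicative Mr))) :=
    pullback.congrHom (f₁ := (Red.diag (ULift.{u} ℤ) Mr).hom) (f₂ := a) rfl
        (specULiftZIsTerminal.hom_ext _ b) ≪≫
      pullbackSpecIso (ULift.{u} ℤ) (MonoidAlgebra (ULift.{u} ℤ) (Multiplicative Mr)) k ≪≫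
      Scheme.Spec.mapIso ((Algebra.TensorProduct.comm (ULift.{u} ℤ) (MonoidAlgebra (ULift.{u} ℤ) (Multiplicative Mr)) k).trans
        ((MonoidAlgebra.scalarTensorEquiv (ULift.{u} ℤ) k (M := Multiplicative Mr)).restrictScalars (ULift.{u} ℤ))).toRingEquiv.toCommRingCatIso.symm.op
  haveI : IsReduced (Spec (CommRingCat.of (MonoidAlgebra k (Multiplicative Mr)))) := inferInstance
  exact isReduced_of_isOpenImmersion e.hom

variable [IsAlgClosed k]

/-- Any map from a split torus to an abelian variety is constant. -/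
theorem eq_const {A : Over (Spec (CommRingCat.of k))} [GrpObj A] [IsProper A.hom] [GeometricallyIntegral A.hom]
    (f : Red.DS (Spec (CommRingCat.of k)) Mr ⟶ A) :
    f = toUnit _ ≫ η[Red.DS (Spec (CommRingCat.of k)) Mr] ≫ f := by
  classical
  haveI := isReduced_DS k r
  haveI : LocallyOfFiniteType (Red.DS (Spec (CommRingCat.of k)) Mr).hom := by
    haveI : AddGroup.FG Mr := Module.Finite.iff_addGroup_fg.1 inferInstance
    haveI : Algebra.FiniteType (ULift.{u} ℤ) (MonoidAlgebra (ULift.{u} ℤ) (Multiplicative Mr)) := inferInstance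
    haveI : LocallyOfFiniteType (Red.diag (ULift.{u} ℤ) Mr).hom := by
      show LocallyOfFiniteType (Spec.map _)
      rw [HasRingHomProperty.Spec_iff (P := @LocallyOfFiniteType)]
      exact RingHom.finiteType_algebraMap.2 inferInstance
    exact inferInstanceAs (LocallyOfFiniteType (pullback.snd _ _))
  set o := η[Red.DS (Spec (CommRingCat.of k)) Mr] ≫ f
  suffices h : f * (toUnit _ ≫ o)⁻¹ = 1 from mul_inv_eq_one.1 h
  refine VarProd.eq_one_of_pts _ fun p => ?_
  rw [MonObj.comp_mul, GrpObj.comp_inv, ← Category.assoc p, toUnit_unique (p ≫ toUnit _) (𝟙 _), Category.id_comp,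
    mul_inv_eq_one]
  -- the line through the unit and `p`
  let j₀ : Spec (CommRingCat.of k) ⟶ Spec (CommRingCat.of k) := 𝟙 _
  obtain ⟨fp, hfp⟩ := DSPtsLib.exists_eq_pt (M := Mr) j₀ p
  let c : Fin r → k := fun i => fp (MonoidAlgebra.single (Multiplicative.ofAdd (Pi.single i (1 : ℤ))) 1)
  let P := MvPolynomial PUnit.{u + 1} k
  let L : Fin r → P := fun i => 1 + MvPolynomial.C (c i - 1) * MvPolynomial.X PUnit.unit
  let G : P := ∏ i, L i
  let R := Localization.Away G
  have hc : ∀ i, c i ≠ 0 := fun i hi => by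
    have h := congrArg fp (show MonoidAlgebra.single (Multiplicative.ofAdd (Pi.single i (1 : ℤ) : Mr)) (1 : ULift.{u} ℤ) *
      MonoidAlgebra.single (Multiplicative.ofAdd (-(Pi.single i (1 : ℤ) : Mr))) 1 = 1 by
      rw [MonoidAlgebra.single_mul_single, ← ofAdd_add, add_neg_cancel, _root_.mul_one]; rfl)
    rw [map_mul, map_one, show fp (MonoidAlgebra.single _ 1) = c i from rfl, hi, zero_mul] at h
    exact zero_ne_one h
  have hG0 : MvPolynomial.eval (fun _ => 0) G ≠ 0 := by simp [G, L]
  have hG1 : MvPolynomial.eval (fun _ => 1) G ≠ 0 := by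
    simp [G, L, Finset.prod_ne_zero_iff]
    exact hc
  have hLu : ∀ i, IsUnit (algebraMap P R (L i)) := fun i =>
    isUnit_of_dvd_unit (map_dvd _ (Finset.dvd_prod_of_mem L (Finset.mem_univ i)))
      (IsLocalization.Away.algebraMap_isUnit G)
  let ψ : Mr →+ Additive Rˣ :=
    { toFun := fun m => ∑ i, m i • Additive.ofMul (hLu i).unit
      map_zero' := by simp
      map_add' := fun m m' => by simp [add_zsmul, Finset.sum_add_distrib] }
  letI : Algebra (ULift.{u} ℤ) R := ((algebraMap ℤ R).comp ULift.ringEquiv.toRingHom).toAlgebra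
  let fl : DSPtsLib.CoordM.{u} Mr →+* R :=
    (MonoidAlgebra.lift (ULift.{u} ℤ) R (Multiplicative Mr) ((Units.coeHom R).comp (AddMonoidHom.toMultiplicativeLeft ψ))).toRingHom
  have hfl : ∀ m : Mr, fl (MonoidAlgebra.single (Multiplicative.ofAdd m) 1) = ((Additive.toMul (ψ m) : Rˣ) : R) := fun m =>
    (MonoidAlgebra.lift_single _ _ _).trans ((Algebra.smul_def _ _).trans (by rw [map_one, _root_.one_mul]; rfl))
  let j : Spec (CommRingCat.of R) ⟶ Spec (CommRingCat.of k) := Spec.map (CommRingCat.ofHom (algebraMap k R))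
  let σ : ∀ a : k, MvPolynomial.eval (fun _ => a) G ≠ 0 → R →+* k := fun a ha =>
    IsLocalization.Away.lift G (g := MvPolynomial.eval fun _ => a) (isUnit_iff_ne_zero.2 ha)
  have hσ : ∀ a ha q, σ a ha (algebraMap P R q) = MvPolynomial.eval (fun _ => a) q :=
    fun a ha q => IsLocalization.Away.lift_eq G _ q
  have hσk : ∀ a ha, Spec.map (CommRingCat.ofHom (σ a ha)) ≫ j = j₀ := by
    intro a ha
    show _ ≫ Spec.map _ = 𝟙 _
    rw [← Spec.map_comp, ← CommRingCat.ofHom_comp, ← Spec.map_id]
    congr 1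
    ext x
    show σ a ha (algebraMap k R x) = x
    rw [IsScalarTower.algebraMap_apply k P R, hσ a ha]
    exact MvPolynomial.eval_C x
  let line := DSPtsLib.pt (M := Mr) j fl
  let e : ∀ a ha, DSPtsLib.spU j₀ ⟶ DSPtsLib.spU j := fun a ha =>
    Over.homMk (Spec.map (CommRingCat.ofHom (σ a ha))) (hσk a ha)
  have hline : ∀ a ha, e a ha ≫ line = DSPtsLib.pt j₀ ((σ a ha).comp fl) :=
    fun a ha => DSPtsLib.pt_comp j fl (σ a ha) j₀ (hσk a ha)
  have hgen : ∀ (g : DSPtsLib.CoordM.{u} Mr →+* k) a ha,
      (∀ i, σ a ha (algebraMap P R (L i)) = g (MonoidAlgebra.single (Multiplicative.ofAdd (Pi.single i (1 : ℤ))) 1)) →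
      (σ a ha).comp fl = g := by
    intro g a ha hg
    refine MonoidAlgebra.ringHom_ext (fun z => RingHom.congr_fun (DSPtsLib.ulift_ringHom_ext
      (((σ a ha).comp fl).comp MonoidAlgebra.singleOneRingHom) (g.comp MonoidAlgebra.singleOneRingHom)) z) fun m => ?_
    let ev := fun h : DSPtsLib.CoordM.{u} Mr →+* k =>
      (h : DSPtsLib.CoordM.{u} Mr →* k).comp (MonoidAlgebra.of (ULift.{u} ℤ) (Multiplicative Mr))
    have : ((ev ((σ a ha).comp fl)).toHomUnits) = (ev g).toHomUnits := by
      refine AddMonoidHom.toMultiplicativeLeft.symm.injective (AddMonoidHom.functions_ext' _ _ _ fun i => ?_)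
      refine AddMonoidHom.ext_int (congrArg Additive.ofMul (Units.ext ?_))
      show σ a ha (fl (MonoidAlgebra.single (Multiplicative.ofAdd (Pi.single i (1 : ℤ))) 1)) = _
      rw [hfl]
      show σ a ha _ = g _
      refine Eq.trans ?_ (hg i)
      congr 1
      simp [ψ, Pi.single_apply]
    exact congrArg Units.val (DFunLike.congr_fun this m)
  have h1 : e 1 hG1 ≫ line = p := by
    rw [hline 1 hG1, hfp, hgen fp 1 hG1 fun i => by rw [hσ 1 hG1]; simp [L, c]]
  have h0 : e 0 hG0 ≫ line = η[Red.DS (Spec (CommRingCat.of k)) Mr] := by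
    rw [hline 0 hG0]
    letI : Algebra (ULift.{u} ℤ) k := ((algebraMap ℤ k).comp ULift.ringEquiv.toRingHom).toAlgebra
    set z := (σ 0 hG0).comp fl
    have hz : ∀ m, z (MonoidAlgebra.single m 1) = 1 := by
      intro m
      let one' : DSPtsLib.CoordM.{u} Mr →+* k :=
        (MonoidAlgebra.lift (ULift.{u} ℤ) k (Multiplicative Mr) 1).toRingHom
      have h1' : ∀ g, one' (MonoidAlgebra.single g 1) = 1 := fun g =>
        (MonoidAlgebra.lift_single _ _ _).trans ((Algebra.smul_def _ _).trans (by rw [map_one, _root_.one_mul]; rfl))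
      have : z = one' := hgen one' 0 hG0 fun i => by
        rw [hσ 0 hG0, h1']
        simp [L]
      rw [this]
      exact (MonoidAlgebra.lift_single _ _ _).trans ((Algebra.smul_def _ _).trans (by rw [map_one, _root_.one_mul]; rfl))
    rw [pt_trivial (M := Mr) j₀ z hz, toUnit_unique (toUnit (DSPtsLib.spU j₀)) (𝟙 _)]
    exact Category.id_comp _
  -- the line is constant
  let W := DSPtsLib.spU j
  haveI : IsOpenImmersion (Spec.map (CommRingCat.ofHom (algebraMap P R))) := IsOpenImmersion.of_isLocalization G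
  haveI : IsDomain R := IsLocalization.isDomain_localization (powers_le_nonZeroDivisors_of_noZeroDivisors fun h => hG0 (by rw [h, map_zero]))
  haveI : IsIntegral W.left := inferInstanceAs (IsIntegral (Spec (CommRingCat.of R)))
  haveI : Algebra.Smooth k P := ⟨inferInstance, inferInstance⟩
  haveI : Algebra.Smooth P R := Algebra.Smooth.of_isLocalization_Away G
  haveI : Algebra.Smooth k R := Algebra.Smooth.comp k P R
  haveI : Smooth W.hom := by
    show Smooth (Spec.map _)
    rw [HasRingHomProperty.Spec_iff (P := @Smooth)]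
    exact RingHom.smooth_algebraMap.2 inferInstance
  haveI : IsSeparated W.hom := inferInstanceAs (IsSeparated (Spec.map _))
  haveI : QuasiCompact W.hom := inferInstanceAs (QuasiCompact (Spec.map _))
  haveI : GeometricallyIntegral W.hom := H23.EquidimFibres.geometricallyIntegral_of_isAlgClosed
  let o' := Spec.map (CommRingCat.ofHom (algebraMap P R)) ≫ (AffineSpace.SpecIso PUnit.{u + 1} (CommRingCat.of k)).inv
  have hoo : o' ≫ (𝔸(PUnit.{u + 1}; Spec (CommRingCat.of k)) ↘ Spec (CommRingCat.of k)) = W.hom := by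
    rw [Category.assoc, AffineSpace.SpecIso_inv_over, ← Spec.map_comp]
    rfl
  haveI : IsOpenImmersion o' := inferInstance
  obtain ⟨a, ha⟩ := Groth.Agent.S11995.result k W A PUnit.{u + 1} o'.opensRange
    ⟨_, (genericPoint W.left), rfl⟩ o'.isoOpensRange.inv (by
      rw [Iso.inv_comp_eq, ← Category.assoc, Scheme.Hom.isoOpensRange_hom_ι, hoo])
    (o'.isoOpensRange.inv.surjective.denseRange) (line ≫ f)
  have hu : ∀ x ha', e x ha' ≫ toUnit W = 𝟙 _ := fun x ha' => toUnit_unique _ _
  rw [← h1]
  show (e 1 hG1 ≫ line) ≫ f = η[Red.DS (Spec (CommRingCat.of k)) Mr] ≫ f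
  rw [← h0, Category.assoc, Category.assoc, ha, ← Category.assoc, ← Category.assoc, hu 1 hG1, hu 0 hG0]

end Groth.Agent.AVTors.TorusConst
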