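import Groth.Agent.H23.Rigid
import Groth.Agent.S16117
import Groth.Prelude.Def_Red

/-!
Maps to a split torus as families of units, and units on products.
-/

noncomputable section

set_option linter.style.haveILetI false
set_option linter.unusedSectionVars false
set_option backward.isDefEq.respectTransparency false
set_option backward.isDefEq.respectTransparency.types false
set_option maxHeartbeats 1000000
set_option autoImplicit false

universe u

open CategoryTheory CategoryTheory.Limits MonoidalCategory CartesianMonoidalCategory MonObj AlgebraicGeometry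

namespace Groth.Agent.AVTors.TorusPts

variable {S : Scheme.{u}} {M : Type} [AddCommGroup M]

/-- The unit attached to a character along a map to a diagonalisable group. -/
def chi {W : Over S} (a : W ⟶ Red.DS S M) (m : M) : Γ(W.left, ⊤) :=
  (a.left ≫ pullback.fst _ _).appTop ((Scheme.ΓSpecIso (CommRingCat.of
    (MonoidAlgebra (ULift.{u} ℤ) (Multiplicative M)))).inv (MonoidAlgebra.single (Multiplicative.ofAdd m) 1))

theorem chi_comp {W W' : Over S} (b : W' ⟶ W) (a : W ⟶ Red.DS S M) (m : M) :
    chi (b ≫ a) m = b.left.appTop (chi a m) := rfl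

theorem isUnit_chi {W : Over S} (a : W ⟶ Red.DS S M) (m : M) : IsUnit (chi a m) := by
  refine (IsUnit.map _ ?_).map _
  refine IsUnit.of_mul_eq_one (MonoidAlgebra.single (Multiplicative.ofAdd (-m)) 1) ?_
  rw [MonoidAlgebra.single_mul_single, ← ofAdd_add, add_neg_cancel, _root_.mul_one]
  rfl

theorem chi_ext {W : Over S} (a b : W ⟶ Red.DS S M) (h : ∀ m, chi a m = chi b m) : a = b := by
  refine Over.OverMorphism.ext (pullback.hom_ext ?_ ((Over.w a).trans (Over.w b).symm))
  haveI : IsAffine (Red.diag (ULift.{u} ℤ) M).left := inferInstanceAs (IsAffine (Spec _))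
  refine ext_of_isAffine ?_
  refine (cancel_epi (Scheme.ΓSpecIso (CommRingCat.of
    (MonoidAlgebra (ULift.{u} ℤ) (Multiplicative M)))).inv).1 ?_
  ext1
  refine MonoidAlgebra.ringHom_ext (fun r => ?_) fun g => ?_
  · obtain ⟨n, rfl⟩ : ∃ n : ℤ, r = (n : ULift.{u} ℤ) := ⟨r.down, ULift.down_injective (ULift.down_intCast.{0, u} r.down).symm⟩
    rw [show MonoidAlgebra.single (1 : Multiplicative M) ((n : ℤ) : ULift.{u} ℤ) =
      ((n : ℤ) : MonoidAlgebra (ULift.{u} ℤ) (Multiplicative M)) from (MonoidAlgebra.intCast_def n).symm]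
    rw [map_intCast, map_intCast]
  · exact h (Multiplicative.toAdd g)

/-- A function on `A × W` trivial on a slice `e × W` is trivial, for `A` proper and geometrically integral. -/
theorem eq_one_of_slice {k : Type u} [Field k] {A W : Over (Spec (CommRingCat.of k))} [IsProper A.hom]
    [GeometricallyIntegral A.hom] (e : 𝟙_ (Over (Spec (CommRingCat.of k))) ⟶ A) (u : Γ((A ⊗ W).left, ⊤))
    (h : (lift (toUnit W ≫ e) (𝟙 W)).left.appTop u = 1) : u = 1 := by
  obtain ⟨c, hc⟩ := (H23.Rigid.bijective_app_snd A.hom W.hom ⊤).2 u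
  have hc' : (snd A W).left.appTop c = u := hc
  rw [← hc'] at h
  have e1 : (lift (toUnit W ≫ e) (𝟙 W)).left.appTop ((snd A W).left.appTop c) = c := by
    rw [← ConcreteCategory.comp_apply, ← Scheme.Hom.comp_appTop, ← Over.comp_left, lift_snd]
    simp
  rw [e1] at h
  rw [← hc', h, map_one]

/-- A unit on a product of varieties trivial on both axes is trivial. -/
theorem eq_one_of_slices {k : Type u} [Field k] [IsAlgClosed k]
    {X Y : Over (Spec (CommRingCat.of k))} [IsIntegral X.left] [IsSeparated X.hom] [LocallyOfFiniteType X.hom] [QuasiCompact X.hom]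
    [IsIntegral Y.left] [IsSeparated Y.hom] [LocallyOfFiniteType Y.hom] [QuasiCompact Y.hom]
    (x₀ : 𝟙_ (Over (Spec (CommRingCat.of k))) ⟶ X) (y₀ : 𝟙_ (Over (Spec (CommRingCat.of k))) ⟶ Y)
    (u : Γ((X ⊗ Y).left, ⊤)) (hu : IsUnit u) (hX : (lift (𝟙 X) (toUnit X ≫ y₀)).left.appTop u = 1)
    (hY : (lift (toUnit Y ≫ x₀) (𝟙 Y)).left.appTop u = 1) : u = 1 := by
  obtain ⟨g, h, -, -, rfl⟩ := S16117.result k X Y u hu
  have pull : ∀ {W W' W'' : Over (Spec (CommRingCat.of k))} (p : W ⟶ W') (q : W' ⟶ W'') (z : Γ(W''.left, ⊤)),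
      p.left.appTop (q.left.appTop z) = (p ≫ q).left.appTop z := fun p q z => rfl
  have hid : ∀ {W : Over (Spec (CommRingCat.of k))} (z : Γ(W.left, ⊤)), (𝟙 W : W ⟶ W).left.appTop z = z :=
    fun z => by simp
  rw [map_mul, pull, pull, lift_fst, lift_snd, hid, ← pull] at hX
  rw [map_mul, pull, pull, lift_fst, lift_snd, hid, ← pull] at hY
  have h0 : x₀.left.appTop g * y₀.left.appTop h = 1 := by
    have := congrArg (fun z => x₀.left.appTop z) hX
    simp only [map_mul, map_one, pull] at this
    rw [← Category.assoc, toUnit_unique (x₀ ≫ toUnit X) (𝟙 _), Category.id_comp] at this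
    exact this
  have e1 := congrArg (fun z => (fst X Y).left.appTop z) hX
  have e2 := congrArg (fun z => (snd X Y).left.appTop z) hY
  simp only [map_mul, map_one] at e1 e2
  rw [pull (fst X Y) (toUnit X), comp_toUnit] at e1
  rw [pull (snd X Y) (toUnit Y), comp_toUnit] at e2
  have e0 : (toUnit (X ⊗ Y)).left.appTop (x₀.left.appTop g) * (toUnit (X ⊗ Y)).left.appTop (y₀.left.appTop h) = 1 := by
    rw [← map_mul, h0, map_one]
  calc (fst X Y).left.appTop g * (snd X Y).left.appTop h
      = ((fst X Y).left.appTop g * (snd X Y).left.appTop h) *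
          ((toUnit (X ⊗ Y)).left.appTop (x₀.left.appTop g) * (toUnit (X ⊗ Y)).left.appTop (y₀.left.appTop h)) := by
        rw [e0, _root_.mul_one]
    _ = ((fst X Y).left.appTop g * (toUnit (X ⊗ Y)).left.appTop (y₀.left.appTop h)) *
          ((toUnit (X ⊗ Y)).left.appTop (x₀.left.appTop g) * (snd X Y).left.appTop h) := by ring
    _ = 1 := by rw [e1, e2, _root_.mul_one]

end Groth.Agent.AVTors.TorusPts
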